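import Mathlib
import Cfsg.Agent.Spc.SC
import Cfsg.Agent.Comp.J1.Iso

/-!
The spectrum of `J1`.
-/

set_option autoImplicit false
set_option maxRecDepth 100000

namespace Cfsg.Agent.Spc.SC.J1

/-- letters -/
def tb : List (Nat × Nat) :=
  [(nat_lit 0, nat_lit 0x40d02400fc3e8f7425083c1073a4e7391063890537ce0410ee374f1368db3d101358f6328cc320c93fcc53f8ce30cfd310fb2f8f83e4bd3d4bb3c8f32e0ba2e4ef2d4d2340d42c8d32d0e62b8ec2b4ed3a8eb2acaa3a0e3394b3298a829ce1378a3370d835cd9284a0354cf308d12709e274cd32ca231cc625cc02fcc1258952f0ac2dcb6244b02bcb12408f24c922a4a52908b2649827c9b26888228892508d2308e218872087c1f4851e0721fc6b20c841a06a1a4811946317c5e174801685815c6e1b4531f87a1e47b13c4e1dc501d84a124461d4741cc4410c71114701bc3f154541b03c0ec6419c660dc390e062184330c8601645c16c2e0c02f1583e0d052144291304b1342809c3d1204708c411004208821094240e8360d41d0ac2a0c42d0b01a0701b0981f078200601905015058170381003c12044130300d0240802c0a018070100500c0200400),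
   (nat_lit 1, nat_lit 0x42109404fe3fcf93d0f141cef415063a0e3394e0410e9378ea3ad033c8f3408d6400cc370c93d4f63e0fd310c23ecc03f0bf304fa2f4f7318ed35cb9360d936cf034cb4354b233cb0344af2c4ee2f0ac3b0aa2dcdd2a0e729ce6384e4388a437ccb288b6368a031cba278d4274d2334d03389a264ca260c827cc530c9526cbe24cbb248b82a4b52cc8f294ae2b4ab2308d2988e28ca12248a270942589721c902448622c882108520c791ec731fc6c1b8692047a20866190671bc612005b1805c1d47d1b47e144551f04e1d8781307712c4d1d0711144710c701c84115c40164421a83d0ec481ac390e0681886518c350c8521783017c2f17456168580b02b1502a14c311404f09c2d12834090490e846110210d83f0f83c0781f0dc200943306c1c0b8260a0290642208c180741a05817048100441504c140340c03c0e0280b01c0602408014030100200400),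
   (nat_lit 2, nat_lit 0x421094150441d06409033e4fa3a0fd3f8f73a900404ee3f0e0370da3c4d73ccdf354f8334cb338fb314ff390c834ce72fcc931cf63c0bc2ecf52e4f4350b73c8b53bcd9394b82c4c32bceb3b4ad3b0ae388e6384a93a4a7340a62cca538cab28cde374a136cd23609f3589d3049c3449b33cca330982f89731896310c2300942f4922e8912d8902d0b22c08e234ac2a8a822ca4228a22809e2209a26487254932188f23089208841e4851c8781b8751a47c1b06720c80194711f85c184811d8621587f1507b17c4f1f4531e84d1dc4b168701cc601ac4412474108631004a0fc6f0f86d1a0520e8381a8371983619058174330c4460bc5e0b85b0b45915c550a83c0a4510a0501384c098241202311c22114431042007c3d0ec3907435070340c8300682c0ac1909c25060210781b0581705015048130340e030100440f0240a02c080140401c060080300400),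
   (nat_lit 3, nat_lit 0x41d01424fd3e4ff400f042103410e8418e4384df414de3a4dd3b8ef364d8359023d0f532cc8330c63dcfe314cd304fc300be3ecbd3e8f83d8bc2e8b83ccf22d8f1348b52c8d5340d12c0ae398eb3b4ad2a8ec2a4ea39ca8298b1394e3290e2380dc28cdb280da27cd73509e270d3308cf268ce3289925cc931cc4254c3250bf2ec93244b92dcb423cb3238af2b08c2ac8b29ca528889284882749b21c9825886248902348a2047b1e878214721b47e1a8682108319882194621806116c801bc561c4551fc6c1ac7d1387c134791dc4c128761d0751184910c421cc571043f168701b83e14c3a144390dc6919c640d463178310c85f0c02e1745c1642c160540ac290ec521402713c2612c2508c471204508444080400f41e0f01d0e0360d01b0cc1a0bc2d0642a0a0180902207c1c04c1103c0e05c0d0580c05414048100240702c06028080140400c0100800),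
   (nat_lit 4, nat_lit 0x5c161087e16c75050151582e1c86c1ec6b08c431bc7317c492441004c110483f084612e05e224322008114c8706c68144312f85d15c4527ca003c0e328ac0342c068ae060cd2701923c8634874110d911c8c2aca91e03b0788b2904e0e8e11642f2d8a2030ed260bb0809a250b12c81d220d4170d831c97318660a4950dcc1100ba248dc37426238d109cb41c0b72a84d298b3160a13d43533c9d188c83084a3acaf398ce2148420c823a0e91fd061f47c3f4251e4c519422410cc3e0ff0c0993e46e008fe3f02b1a4e4070a81dc4c0b48d3b8463dcec380ad414412f49337d010f80339c0a38c3907cc0258640d88a3d80b32460378cb3e907168a33c05501008310bf140282944b24005024ea388712f10018cd61a80629c3826c9e1e8073ec763bcb513cc32c067394d5340d342508409033ccf13c8f436cda35cb9120520cc3c0902a0d03d1506d00001)]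

/-- certificate -/
def C : Cert where
  n := nat_lit 266
  t := tb.map Prod.snd
  p := [(nat_lit 3, nat_lit 4), (nat_lit 3, nat_lit 0), (nat_lit 6, nat_lit 1), (nat_lit 4, nat_lit 1), (nat_lit 8,
    nat_lit 2), (nat_lit 8, nat_lit 2), (nat_lit 6, nat_lit 2), (nat_lit 9, nat_lit 3), (nat_lit 12,
    nat_lit 4), (nat_lit 12, nat_lit 4), (nat_lit 12, nat_lit 4), (nat_lit 13, nat_lit 4), (nat_lit 16,
    nat_lit 5), (nat_lit 14, nat_lit 5), (nat_lit 18, nat_lit 6), (nat_lit 18, nat_lit 6), (nat_lit 18,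
    nat_lit 6), (nat_lit 18, nat_lit 6), (nat_lit 19, nat_lit 6), (nat_lit 22, nat_lit 7), (nat_lit 24,
    nat_lit 8), (nat_lit 24, nat_lit 8), (nat_lit 26, nat_lit 8), (nat_lit 26, nat_lit 8), (nat_lit 26,
    nat_lit 8), (nat_lit 29, nat_lit 9), (nat_lit 26, nat_lit 8), (nat_lit 29, nat_lit 9), (nat_lit 28,
    nat_lit 9), (nat_lit 33, nat_lit 10), (nat_lit 34, nat_lit 10), (nat_lit 34, nat_lit 10), (nat_lit 34,
    nat_lit 10), (nat_lit 37, nat_lit 11), (nat_lit 37, nat_lit 11), (nat_lit 37, nat_lit 11), (nat_lit 40,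
    nat_lit 12), (nat_lit 38, nat_lit 12), (nat_lit 42, nat_lit 13), (nat_lit 41, nat_lit 12), (nat_lit 41,
    nat_lit 12), (nat_lit 44, nat_lit 13), (nat_lit 46, nat_lit 13), (nat_lit 46, nat_lit 13), (nat_lit 47,
    nat_lit 13), (nat_lit 47, nat_lit 13), (nat_lit 50, nat_lit 14), (nat_lit 48, nat_lit 14), (nat_lit 52,
    nat_lit 15), (nat_lit 51, nat_lit 14), (nat_lit 54, nat_lit 15), (nat_lit 52, nat_lit 15), (nat_lit 56,
    nat_lit 16), (nat_lit 56, nat_lit 16), (nat_lit 54, nat_lit 16), (nat_lit 57, nat_lit 17), (nat_lit 60,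
    nat_lit 18), (nat_lit 60, nat_lit 18), (nat_lit 59, nat_lit 18), (nat_lit 62, nat_lit 19), (nat_lit 60,
    nat_lit 19), (nat_lit 64, nat_lit 20), (nat_lit 66, nat_lit 20), (nat_lit 66, nat_lit 20), (nat_lit 66,
    nat_lit 20), (nat_lit 69, nat_lit 21), (nat_lit 68, nat_lit 21), (nat_lit 71, nat_lit 22), (nat_lit 69,
    nat_lit 22), (nat_lit 73, nat_lit 23), (nat_lit 73, nat_lit 23), (nat_lit 71, nat_lit 23), (nat_lit 74,
    nat_lit 24), (nat_lit 77, nat_lit 25), (nat_lit 77, nat_lit 25), (nat_lit 76, nat_lit 25), (nat_lit 80,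
    nat_lit 26), (nat_lit 80, nat_lit 26), (nat_lit 78, nat_lit 26), (nat_lit 81, nat_lit 27), (nat_lit 84,
    nat_lit 28), (nat_lit 84, nat_lit 28), (nat_lit 84, nat_lit 28), (nat_lit 85, nat_lit 28), (nat_lit 88,
    nat_lit 29), (nat_lit 86, nat_lit 29), (nat_lit 90, nat_lit 28), (nat_lit 87, nat_lit 28), (nat_lit 91,
    nat_lit 29), (nat_lit 93, nat_lit 29), (nat_lit 93, nat_lit 29), (nat_lit 95, nat_lit 29), (nat_lit 95,
    nat_lit 29), (nat_lit 95, nat_lit 29), (nat_lit 98, nat_lit 30), (nat_lit 96, nat_lit 30), (nat_lit 100,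
    nat_lit 31), (nat_lit 100, nat_lit 31), (nat_lit 99, nat_lit 31), (nat_lit 102, nat_lit 31), (nat_lit 100,
    nat_lit 31), (nat_lit 103, nat_lit 32), (nat_lit 106, nat_lit 33), (nat_lit 106, nat_lit 33), (nat_lit 106,
    nat_lit 33), (nat_lit 107, nat_lit 33), (nat_lit 110, nat_lit 34), (nat_lit 108, nat_lit 34), (nat_lit 111,
    nat_lit 35), (nat_lit 113, nat_lit 36), (nat_lit 113, nat_lit 36), (nat_lit 115, nat_lit 36), (nat_lit 112,
    nat_lit 36), (nat_lit 117, nat_lit 37), (nat_lit 116, nat_lit 36), (nat_lit 117, nat_lit 36), (nat_lit 120,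
    nat_lit 37), (nat_lit 121, nat_lit 37), (nat_lit 121, nat_lit 37), (nat_lit 121, nat_lit 37), (nat_lit 124,
    nat_lit 38), (nat_lit 122, nat_lit 38), (nat_lit 123, nat_lit 38), (nat_lit 126, nat_lit 39), (nat_lit 127,
    nat_lit 37), (nat_lit 128, nat_lit 37), (nat_lit 128, nat_lit 37), (nat_lit 131, nat_lit 38), (nat_lit 132,
    nat_lit 37), (nat_lit 132, nat_lit 37), (nat_lit 131, nat_lit 36), (nat_lit 135, nat_lit 37), (nat_lit 135,
    nat_lit 37), (nat_lit 133, nat_lit 37), (nat_lit 136, nat_lit 38), (nat_lit 139, nat_lit 39), (nat_lit 139,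
    nat_lit 39), (nat_lit 139, nat_lit 39), (nat_lit 138, nat_lit 39), (nat_lit 141, nat_lit 40), (nat_lit 142,
    nat_lit 39), (nat_lit 145, nat_lit 40), (nat_lit 143, nat_lit 40), (nat_lit 146, nat_lit 41), (nat_lit 148,
    nat_lit 42), (nat_lit 148, nat_lit 42), (nat_lit 147, nat_lit 41), (nat_lit 148, nat_lit 41), (nat_lit 151,
    nat_lit 42), (nat_lit 152, nat_lit 42), (nat_lit 150, nat_lit 42), (nat_lit 155, nat_lit 42), (nat_lit 155,
    nat_lit 42), (nat_lit 155, nat_lit 42), (nat_lit 158, nat_lit 43), (nat_lit 159, nat_lit 42), (nat_lit 157,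
    nat_lit 41), (nat_lit 161, nat_lit 41), (nat_lit 161, nat_lit 41), (nat_lit 162, nat_lit 41), (nat_lit 162,
    nat_lit 41), (nat_lit 165, nat_lit 42), (nat_lit 163, nat_lit 42), (nat_lit 163, nat_lit 41), (nat_lit 166,
    nat_lit 42), (nat_lit 165, nat_lit 42), (nat_lit 168, nat_lit 40), (nat_lit 171, nat_lit 41), (nat_lit 169,
    nat_lit 41), (nat_lit 173, nat_lit 42), (nat_lit 173, nat_lit 41), (nat_lit 173, nat_lit 41), (nat_lit 172,
    nat_lit 41), (nat_lit 175, nat_lit 42), (nat_lit 178, nat_lit 43), (nat_lit 178, nat_lit 43), (nat_lit 178,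
    nat_lit 43), (nat_lit 181, nat_lit 43), (nat_lit 179, nat_lit 43), (nat_lit 183, nat_lit 44), (nat_lit 183,
    nat_lit 44), (nat_lit 183, nat_lit 44), (nat_lit 183, nat_lit 44), (nat_lit 185, nat_lit 44), (nat_lit 185,
    nat_lit 43), (nat_lit 188, nat_lit 44), (nat_lit 190, nat_lit 45), (nat_lit 190, nat_lit 45), (nat_lit 188,
    nat_lit 45), (nat_lit 193, nat_lit 46), (nat_lit 194, nat_lit 46), (nat_lit 194, nat_lit 46), (nat_lit 194,
    nat_lit 46), (nat_lit 196, nat_lit 45), (nat_lit 198, nat_lit 45), (nat_lit 197, nat_lit 45), (nat_lit 200,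
    nat_lit 46), (nat_lit 200, nat_lit 45), (nat_lit 200, nat_lit 45), (nat_lit 203, nat_lit 46), (nat_lit 201,
    nat_lit 46), (nat_lit 205, nat_lit 47), (nat_lit 202, nat_lit 45), (nat_lit 205, nat_lit 46), (nat_lit 207,
    nat_lit 46), (nat_lit 209, nat_lit 46), (nat_lit 206, nat_lit 43), (nat_lit 209, nat_lit 44), (nat_lit 210,
    nat_lit 44), (nat_lit 210, nat_lit 42), (nat_lit 214, nat_lit 43), (nat_lit 213, nat_lit 40), (nat_lit 216,
    nat_lit 39), (nat_lit 217, nat_lit 39), (nat_lit 216, nat_lit 38), (nat_lit 216, nat_lit 38), (nat_lit 219,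
    nat_lit 38), (nat_lit 221, nat_lit 38), (nat_lit 220, nat_lit 37), (nat_lit 223, nat_lit 38), (nat_lit 220,
    nat_lit 37), (nat_lit 223, nat_lit 38), (nat_lit 226, nat_lit 37), (nat_lit 227, nat_lit 37), (nat_lit 227,
    nat_lit 37), (nat_lit 227, nat_lit 37), (nat_lit 230, nat_lit 37), (nat_lit 230, nat_lit 37), (nat_lit 231,
    nat_lit 37), (nat_lit 231, nat_lit 37), (nat_lit 234, nat_lit 38), (nat_lit 232, nat_lit 38), (nat_lit 236,
    nat_lit 38), (nat_lit 237, nat_lit 37), (nat_lit 238, nat_lit 35), (nat_lit 238, nat_lit 35), (nat_lit 240,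
    nat_lit 35), (nat_lit 240, nat_lit 35), (nat_lit 240, nat_lit 35), (nat_lit 241, nat_lit 32), (nat_lit 240,
    nat_lit 24), (nat_lit 245, nat_lit 24), (nat_lit 243, nat_lit 23), (nat_lit 247, nat_lit 24), (nat_lit 246,
    nat_lit 23), (nat_lit 248, nat_lit 23), (nat_lit 249, nat_lit 23), (nat_lit 249, nat_lit 22), (nat_lit 252,
    nat_lit 23), (nat_lit 252, nat_lit 22), (nat_lit 254, nat_lit 22), (nat_lit 252, nat_lit 21), (nat_lit 256,
    nat_lit 22), (nat_lit 256, nat_lit 22), (nat_lit 257, nat_lit 19), (nat_lit 258, nat_lit 11), (nat_lit 259,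
    nat_lit 11), (nat_lit 261, nat_lit 11), (nat_lit 262, nat_lit 11), (nat_lit 263, nat_lit 11), (nat_lit 263,
    nat_lit 11), (nat_lit 265, nat_lit 11), (nat_lit 264, nat_lit 8), (nat_lit 267, nat_lit 8), (nat_lit 266,
    nat_lit 267), (nat_lit 266, nat_lit 0), (nat_lit 266, nat_lit 0), (nat_lit 269, nat_lit 1), (nat_lit 270,
    nat_lit 1), (nat_lit 270, nat_lit 1), (nat_lit 271, nat_lit 1), (nat_lit 274, nat_lit 2), (nat_lit 272,
    nat_lit 1), (nat_lit 274, nat_lit 273), (nat_lit 276, nat_lit 274), (nat_lit 275, nat_lit 276),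
    (nat_lit 278, nat_lit 277), (nat_lit 278, nat_lit 279), (nat_lit 278, nat_lit 4), (nat_lit 281, nat_lit 5),
    (nat_lit 281, nat_lit 5), (nat_lit 283, nat_lit 5), (nat_lit 283, nat_lit 5), (nat_lit 283, nat_lit 5),
    (nat_lit 286, nat_lit 6), (nat_lit 287, nat_lit 6), (nat_lit 287, nat_lit 6), (nat_lit 287, nat_lit 6),
    (nat_lit 290, nat_lit 7), (nat_lit 290, nat_lit 7), (nat_lit 290, nat_lit 7), (nat_lit 293, nat_lit 8),
    (nat_lit 294, nat_lit 8), (nat_lit 294, nat_lit 8), (nat_lit 295, nat_lit 8), (nat_lit 295, nat_lit 8),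
    (nat_lit 298, nat_lit 9), (nat_lit 299, nat_lit 9), (nat_lit 299, nat_lit 9), (nat_lit 299, nat_lit 9),
    (nat_lit 302, nat_lit 10), (nat_lit 303, nat_lit 10), (nat_lit 303, nat_lit 10), (nat_lit 304, nat_lit 10),
    (nat_lit 304, nat_lit 10), (nat_lit 305, nat_lit 10), (nat_lit 308, nat_lit 11), (nat_lit 309, nat_lit 11),
    (nat_lit 309, nat_lit 11), (nat_lit 310, nat_lit 11), (nat_lit 310, nat_lit 11), (nat_lit 313, nat_lit 11),
    (nat_lit 313, nat_lit 11), (nat_lit 314, nat_lit 11), (nat_lit 314, nat_lit 11), (nat_lit 315, nat_lit 11),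
    (nat_lit 318, nat_lit 12), (nat_lit 319, nat_lit 11), (nat_lit 319, nat_lit 11), (nat_lit 320, nat_lit 11),
    (nat_lit 320, nat_lit 11), (nat_lit 321, nat_lit 11), (nat_lit 324, nat_lit 12), (nat_lit 324, nat_lit 11),
    (nat_lit 324, nat_lit 11), (nat_lit 325, nat_lit 11), (nat_lit 328, nat_lit 12), (nat_lit 329, nat_lit 11),
    (nat_lit 329, nat_lit 11)]
  b := nat_lit 0
  U := [nat_lit 334, nat_lit 333, nat_lit 328, nat_lit 327, nat_lit 325, nat_lit 322, nat_lit 321, nat_lit 317,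
    nat_lit 315, nat_lit 310, nat_lit 309, nat_lit 300, nat_lit 75, nat_lit 68, nat_lit 76, nat_lit 66,
    nat_lit 98, nat_lit 71, nat_lit 80, nat_lit 69, nat_lit 78, nat_lit 70, nat_lit 65, nat_lit 67,
    nat_lit 283, nat_lit 293, nat_lit 260, nat_lit 297, nat_lit 296, nat_lit 277, nat_lit 305, nat_lit 304,
    nat_lit 228, nat_lit 227, nat_lit 281, nat_lit 285, nat_lit 308, nat_lit 307, nat_lit 250, nat_lit 249,
    nat_lit 291, nat_lit 294, nat_lit 314, nat_lit 313, nat_lit 188, nat_lit 257, nat_lit 186, nat_lit 185,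
    nat_lit 256, nat_lit 265, nat_lit 264, nat_lit 299, nat_lit 316, nat_lit 213, nat_lit 274, nat_lit 271,
    nat_lit 272, nat_lit 273, nat_lit 284, nat_lit 279, nat_lit 306, nat_lit 320, nat_lit 319, nat_lit 144,
    nat_lit 143, nat_lit 223, nat_lit 140, nat_lit 150, nat_lit 155, nat_lit 220, nat_lit 221, nat_lit 235,
    nat_lit 286, nat_lit 233, nat_lit 179, nat_lit 244, nat_lit 245, nat_lit 254, nat_lit 287, nat_lit 290,
    nat_lit 243, nat_lit 262, nat_lit 298, nat_lit 253, nat_lit 324, nat_lit 312, nat_lit 130, nat_lit 135,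
    nat_lit 133, nat_lit 180, nat_lit 181, nat_lit 119, nat_lit 128, nat_lit 194, nat_lit 198, nat_lit 189,
    nat_lit 178, nat_lit 195, nat_lit 218, nat_lit 222, nat_lit 205, nat_lit 206, nat_lit 269, nat_lit 280,
    nat_lit 267, nat_lit 301, nat_lit 303, nat_lit 230, nat_lit 216, nat_lit 326, nat_lit 318, nat_lit 176,
    nat_lit 175, nat_lit 219, nat_lit 162, nat_lit 160, nat_lit 156, nat_lit 145, nat_lit 255, nat_lit 163,
    nat_lit 240, nat_lit 289, nat_lit 295, nat_lit 238, nat_lit 288, nat_lit 311, nat_lit 190, nat_lit 323,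
    nat_lit 202, nat_lit 203, nat_lit 270, nat_lit 302, nat_lit 268, nat_lit 241, nat_lit 126, nat_lit 172,
    nat_lit 124, nat_lit 90, nat_lit 132, nat_lit 214, nat_lit 125, nat_lit 174, nat_lit 169, nat_lit 167,
    nat_lit 171, nat_lit 87, nat_lit 88, nat_lit 95, nat_lit 204, nat_lit 251, nat_lit 217, nat_lit 114,
    nat_lit 113, nat_lit 127, nat_lit 123, nat_lit 211, nat_lit 208, nat_lit 182, nat_lit 212, nat_lit 109,
    nat_lit 97, nat_lit 108, nat_lit 86, nat_lit 105, nat_lit 229, nat_lit 242, nat_lit 275, nat_lit 278,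
    nat_lit 239, nat_lit 147, nat_lit 153, nat_lit 152, nat_lit 91, nat_lit 92, nat_lit 122, nat_lit 168,
    nat_lit 248, nat_lit 209, nat_lit 225, nat_lit 224, nat_lit 170, nat_lit 187, nat_lit 85, nat_lit 146,
    nat_lit 136, nat_lit 77, nat_lit 84, nat_lit 110, nat_lit 138, nat_lit 134, nat_lit 196, nat_lit 261,
    nat_lit 266, nat_lit 258, nat_lit 246, nat_lit 292, nat_lit 252, nat_lit 201, nat_lit 192, nat_lit 191,
    nat_lit 164, nat_lit 197, nat_lit 89, nat_lit 115, nat_lit 116, nat_lit 166, nat_lit 165, nat_lit 210,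
    nat_lit 276, nat_lit 247, nat_lit 183, nat_lit 259, nat_lit 141, nat_lit 226, nat_lit 142, nat_lit 73,
    nat_lit 107, nat_lit 103, nat_lit 99, nat_lit 72, nat_lit 100, nat_lit 148, nat_lit 177, nat_lit 96,
    nat_lit 149, nat_lit 231, nat_lit 234, nat_lit 236, nat_lit 237, nat_lit 282, nat_lit 207, nat_lit 215,
    nat_lit 161, nat_lit 159, nat_lit 232, nat_lit 120, nat_lit 154, nat_lit 121, nat_lit 151, nat_lit 184,
    nat_lit 106, nat_lit 104, nat_lit 83, nat_lit 81, nat_lit 137, nat_lit 112, nat_lit 193, nat_lit 157,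
    nat_lit 131, nat_lit 129, nat_lit 111, nat_lit 263, nat_lit 199, nat_lit 200, nat_lit 173, nat_lit 118,
    nat_lit 139, nat_lit 94, nat_lit 82, nat_lit 101, nat_lit 117, nat_lit 93, nat_lit 158, nat_lit 102,
    nat_lit 74, nat_lit 79]
  lv := [(nat_lit 1, [nat_lit 334, nat_lit 332, nat_lit 64, nat_lit 63, nat_lit 62, nat_lit 61, nat_lit 60, nat_lit 59, nat_lit 58,
    nat_lit 57, nat_lit 56]),
    (nat_lit 24, [nat_lit 334, nat_lit 329, nat_lit 330, nat_lit 331, nat_lit 55, nat_lit 54, nat_lit 53, nat_lit 52,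
    nat_lit 51, nat_lit 50, nat_lit 49, nat_lit 48, nat_lit 47, nat_lit 46, nat_lit 45, nat_lit 44, nat_lit 43,
    nat_lit 42, nat_lit 41, nat_lit 40, nat_lit 39, nat_lit 38, nat_lit 37, nat_lit 36, nat_lit 35, nat_lit 34,
    nat_lit 33, nat_lit 32, nat_lit 31, nat_lit 30, nat_lit 29, nat_lit 28, nat_lit 27, nat_lit 26, nat_lit 25,
    nat_lit 24, nat_lit 23, nat_lit 22, nat_lit 21, nat_lit 20, nat_lit 19, nat_lit 18, nat_lit 17, nat_lit 16,
    nat_lit 15, nat_lit 14, nat_lit 13, nat_lit 12, nat_lit 11, nat_lit 10, nat_lit 9, nat_lit 8, nat_lit 7,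
    nat_lit 6, nat_lit 5, nat_lit 4, nat_lit 3, nat_lit 2, nat_lit 1, nat_lit 0])]
  gs := [nat_lit 329, nat_lit 330, nat_lit 331, nat_lit 332]
  l := [(nat_lit 2, nat_lit 3), (nat_lit 3, nat_lit 2), (nat_lit 4, nat_lit 1), (nat_lit 5, nat_lit 0), (nat_lit 6,
    nat_lit 2), (nat_lit 7, nat_lit 2), (nat_lit 8, nat_lit 1), (nat_lit 9, nat_lit 1), (nat_lit 10,
    nat_lit 3), (nat_lit 11, nat_lit 0), (nat_lit 13, nat_lit 0), (nat_lit 14, nat_lit 1), (nat_lit 15,
    nat_lit 2), (nat_lit 16, nat_lit 3), (nat_lit 17, nat_lit 2), (nat_lit 18, nat_lit 3), (nat_lit 19,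
    nat_lit 0), (nat_lit 20, nat_lit 3), (nat_lit 21, nat_lit 3), (nat_lit 22, nat_lit 3), (nat_lit 23,
    nat_lit 3), (nat_lit 25, nat_lit 0), (nat_lit 26, nat_lit 1), (nat_lit 27, nat_lit 2), (nat_lit 28,
    nat_lit 3), (nat_lit 29, nat_lit 1), (nat_lit 30, nat_lit 2), (nat_lit 31, nat_lit 3), (nat_lit 32,
    nat_lit 0), (nat_lit 33, nat_lit 2), (nat_lit 34, nat_lit 3), (nat_lit 35, nat_lit 1), (nat_lit 36,
    nat_lit 3), (nat_lit 37, nat_lit 2), (nat_lit 38, nat_lit 0), (nat_lit 39, nat_lit 2), (nat_lit 40,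
    nat_lit 3), (nat_lit 41, nat_lit 1), (nat_lit 42, nat_lit 3), (nat_lit 43, nat_lit 2), (nat_lit 44,
    nat_lit 2), (nat_lit 45, nat_lit 3), (nat_lit 46, nat_lit 1), (nat_lit 47, nat_lit 3), (nat_lit 48,
    nat_lit 2), (nat_lit 49, nat_lit 0), (nat_lit 50, nat_lit 2), (nat_lit 51, nat_lit 3), (nat_lit 52,
    nat_lit 2), (nat_lit 53, nat_lit 2), (nat_lit 54, nat_lit 3), (nat_lit 55, nat_lit 1), (nat_lit 56,
    nat_lit 3), (nat_lit 57, nat_lit 2), (nat_lit 58, nat_lit 0), (nat_lit 59, nat_lit 2), (nat_lit 60,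
    nat_lit 3), (nat_lit 61, nat_lit 2), (nat_lit 62, nat_lit 1), (nat_lit 63, nat_lit 1), (nat_lit 64,
    nat_lit 3), (nat_lit 65, nat_lit 2), (nat_lit 66, nat_lit 0), (nat_lit 67, nat_lit 2), (nat_lit 68,
    nat_lit 3), (nat_lit 69, nat_lit 2), (nat_lit 70, nat_lit 1), (nat_lit 71, nat_lit 2), (nat_lit 72,
    nat_lit 3), (nat_lit 73, nat_lit 1), (nat_lit 74, nat_lit 1), (nat_lit 75, nat_lit 3), (nat_lit 76,
    nat_lit 2), (nat_lit 77, nat_lit 0), (nat_lit 78, nat_lit 2), (nat_lit 79, nat_lit 3), (nat_lit 80,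
    nat_lit 2), (nat_lit 81, nat_lit 2), (nat_lit 82, nat_lit 3), (nat_lit 83, nat_lit 1), (nat_lit 84,
    nat_lit 1), (nat_lit 85, nat_lit 2), (nat_lit 86, nat_lit 0), (nat_lit 87, nat_lit 2), (nat_lit 88,
    nat_lit 3), (nat_lit 89, nat_lit 2), (nat_lit 90, nat_lit 1), (nat_lit 91, nat_lit 2), (nat_lit 92,
    nat_lit 3), (nat_lit 93, nat_lit 1), (nat_lit 94, nat_lit 2), (nat_lit 95, nat_lit 1), (nat_lit 96,
    nat_lit 0), (nat_lit 97, nat_lit 0), (nat_lit 98, nat_lit 0), (nat_lit 99, nat_lit 3), (nat_lit 100,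
    nat_lit 2), (nat_lit 101, nat_lit 1), (nat_lit 102, nat_lit 2), (nat_lit 103, nat_lit 3), (nat_lit 104,
    nat_lit 1), (nat_lit 105, nat_lit 3), (nat_lit 106, nat_lit 2), (nat_lit 107, nat_lit 1), (nat_lit 108,
    nat_lit 0), (nat_lit 109, nat_lit 2), (nat_lit 110, nat_lit 3), (nat_lit 111, nat_lit 2), (nat_lit 112,
    nat_lit 3), (nat_lit 113, nat_lit 0), (nat_lit 114, nat_lit 1), (nat_lit 115, nat_lit 3), (nat_lit 116,
    nat_lit 2), (nat_lit 117, nat_lit 0), (nat_lit 118, nat_lit 3), (nat_lit 119, nat_lit 1), (nat_lit 120,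
    nat_lit 1), (nat_lit 121, nat_lit 3), (nat_lit 122, nat_lit 2), (nat_lit 123, nat_lit 0), (nat_lit 124,
    nat_lit 3), (nat_lit 125, nat_lit 2), (nat_lit 126, nat_lit 0), (nat_lit 127, nat_lit 3), (nat_lit 128,
    nat_lit 0), (nat_lit 129, nat_lit 2), (nat_lit 130, nat_lit 3), (nat_lit 131, nat_lit 2), (nat_lit 132,
    nat_lit 3), (nat_lit 133, nat_lit 3), (nat_lit 135, nat_lit 0), (nat_lit 136, nat_lit 1), (nat_lit 137,
    nat_lit 2), (nat_lit 138, nat_lit 3), (nat_lit 139, nat_lit 1), (nat_lit 140, nat_lit 2), (nat_lit 141,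
    nat_lit 3), (nat_lit 142, nat_lit 0), (nat_lit 143, nat_lit 2), (nat_lit 144, nat_lit 3), (nat_lit 145,
    nat_lit 1), (nat_lit 146, nat_lit 3), (nat_lit 147, nat_lit 2), (nat_lit 148, nat_lit 0), (nat_lit 149,
    nat_lit 2), (nat_lit 150, nat_lit 3), (nat_lit 151, nat_lit 1), (nat_lit 152, nat_lit 3), (nat_lit 153,
    nat_lit 2), (nat_lit 154, nat_lit 2), (nat_lit 155, nat_lit 3), (nat_lit 156, nat_lit 1), (nat_lit 157,
    nat_lit 3), (nat_lit 158, nat_lit 2), (nat_lit 159, nat_lit 0), (nat_lit 160, nat_lit 2), (nat_lit 161,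
    nat_lit 3), (nat_lit 162, nat_lit 2), (nat_lit 163, nat_lit 1), (nat_lit 164, nat_lit 2), (nat_lit 165,
    nat_lit 3), (nat_lit 166, nat_lit 1), (nat_lit 167, nat_lit 3), (nat_lit 168, nat_lit 2), (nat_lit 169,
    nat_lit 0), (nat_lit 170, nat_lit 2), (nat_lit 171, nat_lit 3), (nat_lit 172, nat_lit 2), (nat_lit 173,
    nat_lit 1), (nat_lit 174, nat_lit 1), (nat_lit 175, nat_lit 3), (nat_lit 176, nat_lit 2), (nat_lit 177,
    nat_lit 0), (nat_lit 178, nat_lit 2), (nat_lit 179, nat_lit 3), (nat_lit 180, nat_lit 2), (nat_lit 181,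
    nat_lit 1), (nat_lit 182, nat_lit 2), (nat_lit 183, nat_lit 3), (nat_lit 184, nat_lit 1), (nat_lit 185,
    nat_lit 3), (nat_lit 186, nat_lit 2), (nat_lit 187, nat_lit 1), (nat_lit 188, nat_lit 0), (nat_lit 189,
    nat_lit 2), (nat_lit 190, nat_lit 1), (nat_lit 191, nat_lit 3), (nat_lit 192, nat_lit 2), (nat_lit 193,
    nat_lit 0), (nat_lit 194, nat_lit 2), (nat_lit 195, nat_lit 3), (nat_lit 196, nat_lit 2), (nat_lit 197,
    nat_lit 1), (nat_lit 198, nat_lit 2), (nat_lit 199, nat_lit 3), (nat_lit 200, nat_lit 1), (nat_lit 201,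
    nat_lit 3), (nat_lit 202, nat_lit 1), (nat_lit 203, nat_lit 0), (nat_lit 204, nat_lit 2), (nat_lit 205,
    nat_lit 0), (nat_lit 206, nat_lit 3), (nat_lit 207, nat_lit 2), (nat_lit 208, nat_lit 1), (nat_lit 209,
    nat_lit 2), (nat_lit 210, nat_lit 1), (nat_lit 211, nat_lit 3), (nat_lit 212, nat_lit 1), (nat_lit 213,
    nat_lit 0), (nat_lit 214, nat_lit 2), (nat_lit 215, nat_lit 3), (nat_lit 216, nat_lit 2), (nat_lit 217,
    nat_lit 0), (nat_lit 218, nat_lit 3), (nat_lit 219, nat_lit 2), (nat_lit 220, nat_lit 0), (nat_lit 221,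
    nat_lit 2), (nat_lit 222, nat_lit 2), (nat_lit 223, nat_lit 1), (nat_lit 224, nat_lit 3), (nat_lit 225,
    nat_lit 0), (nat_lit 226, nat_lit 3), (nat_lit 227, nat_lit 2), (nat_lit 228, nat_lit 1), (nat_lit 229,
    nat_lit 3), (nat_lit 230, nat_lit 1), (nat_lit 231, nat_lit 1), (nat_lit 232, nat_lit 0), (nat_lit 233,
    nat_lit 2), (nat_lit 234, nat_lit 3), (nat_lit 235, nat_lit 0), (nat_lit 236, nat_lit 3), (nat_lit 237,
    nat_lit 0), (nat_lit 238, nat_lit 1), (nat_lit 239, nat_lit 2), (nat_lit 240, nat_lit 1), (nat_lit 241,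
    nat_lit 3), (nat_lit 242, nat_lit 2), (nat_lit 243, nat_lit 3), (nat_lit 244, nat_lit 2), (nat_lit 245,
    nat_lit 2), (nat_lit 246, nat_lit 3), (nat_lit 247, nat_lit 1), (nat_lit 248, nat_lit 3), (nat_lit 249,
    nat_lit 0), (nat_lit 250, nat_lit 3), (nat_lit 251, nat_lit 3), (nat_lit 252, nat_lit 1), (nat_lit 253,
    nat_lit 0), (nat_lit 254, nat_lit 0), (nat_lit 255, nat_lit 2), (nat_lit 256, nat_lit 1), (nat_lit 257,
    nat_lit 0), (nat_lit 258, nat_lit 3), (nat_lit 259, nat_lit 1), (nat_lit 260, nat_lit 0), (nat_lit 261,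
    nat_lit 3), (nat_lit 262, nat_lit 0), (nat_lit 263, nat_lit 0), (nat_lit 264, nat_lit 3), (nat_lit 265,
    nat_lit 0)]
  R := [nat_lit 334, nat_lit 333, nat_lit 75, nat_lit 283, nat_lit 126]
  L := [nat_lit 1, nat_lit 2, nat_lit 3, nat_lit 5, nat_lit 6, nat_lit 7, nat_lit 10, nat_lit 11, nat_lit 15, nat_lit 19]
  W := [(nat_lit 319, nat_lit 6), (nat_lit 300, nat_lit 7), (nat_lit 327, nat_lit 10), (nat_lit 313, nat_lit 11), (nat_lit 325, nat_lit 15), (nat_lit 322, nat_lit 19)]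

theorem tb_ok : letB (nat_lit 266) Comp.J1.T tb = true := by decide +kernel

theorem str_ok : C.str = true := by decide +kernel

theorem cos0 : C.cos (nat_lit 334) = true := by decide +kernel

theorem cos1 : C.cos (nat_lit 333) = true := by decide +kernel

theorem cos2 : C.cos (nat_lit 75) = true := by decide +kernel

theorem cos3 : C.cos (nat_lit 283) = true := by decide +kernel

theorem cos4 : C.cos (nat_lit 126) = true := by decide +kernel

theorem spec_J1 : Spec.spec Spor.J1 = {m | m ∈ [1, 2, 3, 5, 6, 7, 10, 11, 15, 19]} :=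
  have := Comp.J1.cardJ.1
  have h := gd_of_rep Comp.J1.repJ tb_ok (by decide +kernel)
  C.spec h.1 Comp.J1.cardJ.2.2 h.2 str_ok
    (List.forall_mem_cons.2 ⟨cos0, List.forall_mem_cons.2 ⟨cos1, List.forall_mem_cons.2 ⟨cos2,
      List.forall_mem_cons.2 ⟨cos3, List.forall_mem_cons.2 ⟨cos4, by simp⟩⟩⟩⟩⟩)
    (Comp.J1.cardJ.2.1.trans (by decide +kernel)) (by decide +kernel)

end Cfsg.Agent.Spc.SC.J1
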