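import Cfsg.Agent.Spc.PuDef

/-! The intersection of the residual with the core in a rank one group. -/

namespace Cfsg.Agent.Spc.Pu

open Subgroup Cfsg.Agent.LocalEven Cfsg.Agent.PLocal Cfsg.Agent.Push Cfsg.Agent.BHS
open Cfsg.Agent.Glaub hiding cent_anti
open scoped commutatorElement MatrixGroups

universe u

open scoped IsMulCommutative in
theorem pb_tr {H : Type*} [Group H] [Finite H] {p : ℕ} [hp : Fact p.Prime] (P : Sylow p H)
    (hab : ∀ a ∈ (P : Subgroup H), ∀ b ∈ (P : Subgroup H), a * b = b * a)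
    (hres : ∀ N : Subgroup H, (∀ x, (orderOf x).Coprime p → x ∈ N) → N = ⊤) {z : H}
    (hz : z ∈ (P : Subgroup H)) (hc : ∀ g : H, z * g = g * z) : z = 1 := by
  haveI : IsMulCommutative (P : Subgroup H) := ⟨⟨fun a b => Subtype.ext (hab a a.2 b b.2)⟩⟩
  let φ : H →* (P : Subgroup H) := MonoidHom.transfer (MonoidHom.id (P : Subgroup H))
  have hk : φ.ker = ⊤ := hres _ fun x hx => by
    obtain ⟨k, hk⟩ := (IsPGroup.iff_orderOf.mp P.2) (φ x)
    have h1 : (orderOf (φ x)).Coprime p := Nat.Coprime.coprime_dvd_left (orderOf_map_dvd φ x) hx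
    have h2 : (orderOf (φ x)).Coprime (p ^ k) := h1.pow_right k
    rw [← hk, Nat.coprime_self] at h2
    exact orderOf_eq_one_iff.mp h2
  have key : ∀ (k : ℕ) (g₀ : H), g₀⁻¹ * z ^ k * g₀ ∈ (P : Subgroup H) →
      g₀⁻¹ * z ^ k * g₀ = z ^ k := fun k g _ => by
    have : Commute z g := hc g
    rw [mul_assoc, (this.pow_left k).eq, inv_mul_cancel_left]
  have h1 : φ z = 1 := by
    have : z ∈ φ.ker := hk ▸ mem_top z
    exact this
  have h2 := MonoidHom.transfer_eq_pow (MonoidHom.id (P : Subgroup H)) z key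
  have h3 : z ^ (P : Subgroup H).index = 1 := congrArg Subtype.val (h2.symm.trans h1)
  obtain ⟨k, hk⟩ := (IsPGroup.iff_orderOf.mp P.2) ⟨z, hz⟩
  rw [Subgroup.orderOf_mk] at hk
  have h4 : (orderOf z).Coprime (P : Subgroup H).index := by
    rw [hk]; exact ((Nat.Prime.coprime_iff_not_dvd hp.out).2 P.not_dvd_index).pow_left k
  exact orderOf_eq_one_iff.mp (h4.eq_one_of_dvd (orderOf_dvd_of_pow_eq_one h3))

theorem pb_key {G : Type*} [Group G] [Finite G] {p : ℕ} [Fact p.Prime] {S T Y : Subgroup G}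
    (hS : IsSylowIn p S ⊤) (hY : ∀ a ∈ Y, ∀ b ∈ Y, a * b = b * a) (hYT : Y ⊔ T = S)
    (hTY : ∀ a ∈ T, ∀ b ∈ Y, a * b = b * a)
    (hTE : ∀ a ∈ T, ∀ b ∈ pResOf p (⊤ : Subgroup G), a * b = b * a) {z : G}
    (hzE : z ∈ pResOf p (⊤ : Subgroup G)) (hzT : z ∈ T) : z = 1 := by
  set E := pResOf p (⊤ : Subgroup G) with hE
  have hP : IsSylowIn p (S ⊓ E) E := hS.inf_of_le_normalizer le_top (le_normalizer_pResOf ⊤)
  have hSY : S ≤ centralizer (Y : Set G) := by
    rw [← hYT]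
    exact sup_le (fun a ha b hb => hY b hb a ha) (fun a ha b hb => (hTY a ha b hb).symm)
  have hcen : ∀ x ∈ S ⊓ E, ∀ s ∈ S, x * s = s * x := by
    intro x hx s hs
    have : S ≤ centralizer ({x} : Set G) := by
      rw [← hYT]
      refine sup_le (fun a ha b hb => ?_) (fun a ha b hb => ?_)
      · rw [Set.mem_singleton_iff.mp hb]; exact (hSY hx.1 a ha).symm
      · rw [Set.mem_singleton_iff.mp hb]; exact (hTE a ha x hx.2).symm
    exact this hs x rfl
  have := pb_tr hP.toSylow (fun a ha b hb => Subtype.ext (hcen a ha b hb.1)) (fun N hN => by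
    have h1 : pResOf p E ≤ N.map E.subtype := pResOf_le_iff.2 fun x hx ho =>
      ⟨⟨x, hx⟩, hN _ (by rwa [Subgroup.orderOf_mk]), rfl⟩
    replace h1 : E ≤ N.map E.subtype := (pResOf_pResOf (p := p) (⊤ : Subgroup G)).ge.trans h1
    rw [eq_top_iff]
    intro g _
    obtain ⟨g', hg', e⟩ := h1 g.2
    have : g' = g := Subtype.ext e
    exact this ▸ hg') (z := ⟨z, hzE⟩) (mem_inf.2 ⟨(hYT ▸ le_sup_right : T ≤ S) hzT, hzE⟩)
    (fun g => Subtype.ext (hTE z hzT g g.2))
  exact congrArg Subtype.val this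

theorem pb {p : ℕ} [Fact p.Prime] : PB.{u} p := by
  intro G _ _ S M T h
  obtain ⟨Y, -, hY, hYT, hTY⟩ := h.exY
  set E := pResOf p (⊤ : Subgroup G) with hE
  haveI hTn : T.Normal := by
    rw [← normalizer_eq_top_iff, eq_top_iff, ← h.pn.core]
    exact le_normalizer_pCoreOf ⊤
  haveI hEn : E.Normal := pResOf_normal ⊤
  refine le_antisymm ?_ (le_inf (commutator_le_right T E) (commutator_le_left T E))
  intro z hz
  let π := QuotientGroup.mk' ⁅T, E⁆
  have hπ : (⊤ : Subgroup G).map π = ⊤ := map_top_of_surjective π (QuotientGroup.mk'_surjective _)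
  have hEm : E.map π = pResOf p ⊤ := (map_pResOf π ⊤).trans (by rw [hπ])
  have hcm : ∀ a b : G, ⁅a, b⁆ ∈ ⁅T, E⁆ → π a * π b = π b * π a := fun a b hab => by
    rw [← commutatorElement_eq_one_iff_mul_comm, ← map_commutatorElement]
    exact (QuotientGroup.eq_one_iff _).2 hab
  have := pb_key (p := p) (S := S.map π) (T := T.map π) (Y := Y.map π) (hπ ▸ h.pn.syl.map π)
    (by
      rintro _ ⟨a, ha, rfl⟩ _ ⟨b, hb, rfl⟩
      rw [← map_mul, ← map_mul]
      exact congrArg π (congrArg Subtype.val (hY.1.1.1 ⟨a, ha⟩ ⟨b, hb⟩)))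
    (by rw [← Subgroup.map_sup, hYT])
    (by
      rintro _ ⟨a, ha, rfl⟩ _ ⟨b, hb, rfl⟩
      exact hcm a b (hTY (commutator_mem_commutator ha hb)))
    (by
      rw [← hEm]
      rintro _ ⟨a, ha, rfl⟩ _ ⟨b, hb, rfl⟩
      exact hcm a b (commutator_mem_commutator ha hb))
    (z := π z) (hEm ▸ ⟨z, hz.1, rfl⟩) ⟨z, hz.2, rfl⟩
  exact (QuotientGroup.eq_one_iff _).1 this

end Cfsg.Agent.Spc.Pu
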