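import Cfsg.Agent.Spc.PuDef
import Cfsg.Agent.BHS.SL
import Cfsg.Agent.LocalEven.PIrr

/-! The linear block, first case. -/

namespace Cfsg.Agent.Spc.Pu

open Subgroup Cfsg.Agent.LocalEven Cfsg.Agent.PLocal Cfsg.Agent.Push Cfsg.Agent.BHS
open Cfsg.Agent.Glaub hiding cent_anti
open scoped commutatorElement MatrixGroups

universe u

variable {G : Type u} [Group G] [Finite G] {p : ℕ} [hp : Fact p.Prime] {S M T : Subgroup G}

theorem c1_comm (h : AB p S ⊤ M T) : ⁅pResOf p (⊤ : Subgroup G), S⁆ = pResOf p (⊤ : Subgroup G) := by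
  refine commutator_pResOf_eq_of_le h.syl.pgrp le_top ?_
  rw [← cjClos_eq_cjClos_pResOf h.syl le_normalizer]
  exact h.res_le (le_normalizer_cjClos S ⊤) le_rfl (le_cjClos S ⊤) h.not_le

theorem c1_core (h : AB p S ⊤ M T) :
    pCoreOf p (pResOf p (⊤ : Subgroup G)) = pResOf p (⊤ : Subgroup G) ⊓ T := by
  rw [pCoreOf_eq_inf_of_le_normalizer (pResOf_le (⊤ : Subgroup G)) (le_normalizer_pResOf _), h.core,
    inf_comm]

theorem c1_cc (h : AB p S ⊤ M T) :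
    ⁅⁅T, pResOf p (⊤ : Subgroup G)⁆, pResOf p (⊤ : Subgroup G)⁆ = ⁅T, pResOf p (⊤ : Subgroup G)⁆ :=
  le_antisymm (comm_le_left (right_le_normalizer_commutator _ _)) (comm_res_res h.pT h.nT)

theorem c1_range (h : AB p S ⊤ M T) {F : Type*} [Field F] [_root_.CharP F p] (ρ : G →* SL(2, F))
    (s : Function.Surjective ρ) (hk : T ≤ ρ.ker) :
    (pResOf p (⊤ : Subgroup G)).map ρ = _root_.commutator SL(2, F) := by
  apply le_antisymm
  · rw [map_pResOf]
    exact pResOf_le_iff.2 fun x _ hx => mem_comm_of_coprime hx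
  · haveI : (pResOf p (⊤ : Subgroup G)).Normal := pResOf_normal ⊤
    haveI hn : ((pResOf p (⊤ : Subgroup G)).map ρ).Normal := Subgroup.Normal.map inferInstance ρ s
    rw [commutator_def, Subgroup.commutator_le]
    intro a _ b _
    obtain ⟨a, rfl⟩ := s a
    obtain ⟨b, rfl⟩ := s b
    obtain ⟨e, he, x, hx, rfl⟩ := h.syl.exists_mul_eq (mem_top a)
    obtain ⟨e', he', y, hy, rfl⟩ := h.syl.exists_mul_eq (mem_top b)
    rw [← QuotientGroup.eq_one_iff]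
    let π := QuotientGroup.mk' ((pResOf p (⊤ : Subgroup G)).map ρ)
    have e1 : π (ρ e) = 1 := (QuotientGroup.eq_one_iff _).2 ⟨e, he, rfl⟩
    have e2 : π (ρ e') = 1 := (QuotientGroup.eq_one_iff _).2 ⟨e', he', rfl⟩
    have e3 : ρ ⁅x, y⁆ = 1 := hk (h.ab (commutator_mem_commutator hx hy))
    change π ⁅ρ (e * x), ρ (e' * y)⁆ = 1
    rw [map_commutatorElement, map_mul, map_mul, map_mul, map_mul, e1, e2, one_mul, one_mul,
      ← map_commutatorElement, ← map_commutatorElement, e3, map_one]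

theorem c1_iso (h : AB p S ⊤ M T) {F : Type*} [Field F] [_root_.CharP F p] (ρ : G →* SL(2, F))
    (s : Function.Surjective ρ) (hk : ρ.ker = T) :
    Nonempty (↥(pResOf p (⊤ : Subgroup G)) ⧸ pCore p ↥(pResOf p (⊤ : Subgroup G)) ≃*
      ↥(_root_.commutator SL(2, F))) := by
  have e1 : (ρ.comp (pResOf p (⊤ : Subgroup G)).subtype).ker =
      pCore p ↥(pResOf p (⊤ : Subgroup G)) := by
    rw [← pCoreOf_subgroupOf, c1_core h]
    ext x
    rw [MonoidHom.mem_ker, mem_subgroupOf, mem_inf, ← hk]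
    exact ⟨fun e => ⟨x.2, e⟩, fun e => e.2⟩
  have e2 : (ρ.comp (pResOf p (⊤ : Subgroup G)).subtype).range = _root_.commutator SL(2, F) := by
    rw [← c1_range h ρ s hk.ge, MonoidHom.range_comp, range_subtype]
  exact ⟨(QuotientGroup.quotientMulEquivOfEq e1.symm).trans
    ((QuotientGroup.quotientKerEquivRange _).trans (MulEquiv.subgroupCongr e2))⟩

theorem pc1 : PC1.{u} p := by
  intro G _ _ S M T x h1 h2
  have h := x.pn
  have a := h.toAB
  haveI : T.Normal := normal_of_top_le a.nT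
  haveI : (pResOf p (⊤ : Subgroup G)).Normal := pResOf_normal ⊤
  have hc : pCoreOf p (pResOf p (⊤ : Subgroup G)) = ⁅T, pResOf p (⊤ : Subgroup G)⁆ :=
    (c1_core a).trans h1
  have hRT : ⁅T, pResOf p (⊤ : Subgroup G)⁆ ≤ T := h2.trans h.le
  have hz : OZ p ⁅T, pResOf p (⊤ : Subgroup G)⁆ = ⁅T, pResOf p (⊤ : Subgroup G)⁆ :=
    le_antisymm (omegaOneCenter_le _) ((le_inf h2 le_rfl).trans (omegaOneCenter_inf_le hRT))
  obtain ⟨F, _, _, _, σ, ψ, d, s, -⟩ := h.data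
  obtain ⟨ρ, sρ, kρ, eρ⟩ := h.quot x.ker d s
  obtain ⟨n, -, hn⟩ := FiniteField.card F p
  refine ⟨pResOf_pResOf _, c1_comm a, by rw [hc]; exact c1_cc a,
    Or.inl ⟨F, inferInstance, inferInstance, n, hn, c1_iso a ρ sρ kρ, ?_, Or.inl ?_⟩⟩
  swap
  · rw [hc, hz]
  rw [hc, hz]
  have hnR : (⊤ : Subgroup G) ≤ 𝐍⟮⁅T, pResOf p (⊤ : Subgroup G)⁆⟯ := le_normalizer_of_normal
  have hne : ¬ ⁅T, pResOf p (⊤ : Subgroup G)⁆ ≤ OZ p T ⊓ 𝐂⟮(⊤ : Subgroup G)⟯ := by
    intro k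
    have b : ⁅T, pResOf p (⊤ : Subgroup G)⁆ = ⊥ := by
      rw [← c1_cc a]
      exact comm_bot_of_le_cent (k.trans (inf_le_right.trans (cent_anti le_top)))
    exact a.res_not_le ((le_cent_comm (le_cent_of_comm_bot b)).trans
      (x.cen.trans (a.TS.trans a.min.le)))
  have hV := d.irr' s hnR h2 hne
  have d' := d.restrict (h.cen.trans (cent_anti h.le)) h2 hnR hV
  have e0 : ⁅T, pResOf p (⊤ : Subgroup G)⁆ ⊓ 𝐂⟮pResOf p (⊤ : Subgroup G)⟯ =
      ⁅T, pResOf p (⊤ : Subgroup G)⁆ ⊓ 𝐂⟮(⊤ : Subgroup G)⟯ :=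
    le_antisymm (le_inf inf_le_left ((inf_le_inf_right _ h2).trans h.cenE))
      (inf_le_inf_left _ (cent_anti le_top))
  rw [e0, actsAs_iff]
  refine ⟨σ.comp (inclusion le_top), ψ, ⟨le_top.trans hnR, d'.le, d'.mul, d'.surj, d'.ker,
    fun e u hu => d'.conj (inclusion le_top e) u hu⟩, ?_⟩
  rw [← c1_range a ρ sρ kρ.ge]
  ext g
  constructor
  · rintro ⟨e, rfl⟩
    exact ⟨e, e.2, eρ e⟩
  · rintro ⟨e, he, rfl⟩
    exact ⟨⟨e, he⟩, (eρ e).symm⟩

end Cfsg.Agent.Spc.Pu
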