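import Cfsg.Agent.Spc.PuDef
import Cfsg.Agent.BHS.SL3
import Cfsg.Agent.Push.PY

/-! The exceptional rank one block. -/

namespace Cfsg.Agent.Spc.Pu

open Subgroup Cfsg.Agent.LocalEven Cfsg.Agent.PLocal Cfsg.Agent.Push Cfsg.Agent.BHS
open Cfsg.Agent.Glaub hiding cent_anti
open scoped commutatorElement MatrixGroups

universe u

theorem c2_odd {G : Type*} [Group G] {T H : Subgroup G} (hT : IsPGroup 3 T) {y : G} (hy : y ∈ T)
    (h : y * y ∈ H) : y ∈ H := by
  obtain ⟨k, hk⟩ := hT ⟨y, hy⟩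
  have hk' : y ^ 3 ^ k = 1 := by simpa using congrArg Subtype.val hk
  obtain ⟨m, hm⟩ : Odd (3 ^ k) := Odd.pow (by decide)
  rw [hm, pow_succ, pow_mul, sq] at hk'
  rw [eq_inv_of_mul_eq_one_right hk']
  exact inv_mem (pow_mem h m)

theorem c2_sq {F : Type*} [Field F] (h2 : (2 : F) ≠ 0) {g : SL(2, F)} (h : g * g = 1) (h1 : g ≠ 1) :
    g = -1 := by
  have hd := g.det_coe
  rw [Matrix.det_fin_two] at hd
  have e : ∀ i j, ((g * g : SL(2, F)) : Matrix (Fin 2) (Fin 2) F) i j = (1 : Matrix (Fin 2) (Fin 2) F) i j :=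
    fun i j => by rw [h]; rfl
  have e00 := e 0 0
  have e01 := e 0 1
  have e10 := e 1 0
  simp [Matrix.mul_apply, Fin.sum_univ_two] at e00 e01 e10
  have ht : g.1 0 0 + g.1 1 1 ≠ 0 := fun k => h2 (by linear_combination (g.1 0 0) * k - e00 - hd)
  have hb : g.1 0 1 = 0 := by
    have : g.1 0 1 * (g.1 0 0 + g.1 1 1) = 0 := by linear_combination e01
    exact (mul_eq_zero.1 this).resolve_right ht
  have hc : g.1 1 0 = 0 := by
    have : g.1 1 0 * (g.1 0 0 + g.1 1 1) = 0 := by linear_combination e10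
    exact (mul_eq_zero.1 this).resolve_right ht
  rw [hb] at e00 hd
  have ha : (g.1 0 0 - 1) * (g.1 0 0 + 1) = 0 := by linear_combination e00
  rcases mul_eq_zero.1 ha with k | k
  · have a1 : g.1 0 0 = 1 := by linear_combination k
    rw [a1] at hd
    exact absurd (Subtype.ext (by
      ext i j; fin_cases i <;> fin_cases j <;> simp [a1, hb, hc]; linear_combination hd)) h1
  · have a1 : g.1 0 0 = -1 := by linear_combination k
    rw [a1] at hd
    exact Subtype.ext (by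
      ext i j; fin_cases i <;> fin_cases j <;> simp [a1, hb, hc]; linear_combination -hd)

theorem c2_cm {G : Type*} [Group G] (N : Subgroup G) [N.Normal] {a b : G}
    (h : a * b * a⁻¹ * b⁻¹ ∈ N) : Commute (QuotientGroup.mk' N a) (QuotientGroup.mk' N b) := by
  have := (QuotientGroup.eq_one_iff _).2 h
  change QuotientGroup.mk' N _ = 1 at this
  rw [map_mul, map_mul, map_mul, map_inv, map_inv, mul_inv_eq_one, mul_inv_eq_iff_eq_mul] at this
  exact this

theorem c2_one {G : Type*} [Group G] (N : Subgroup G) [N.Normal] {a : G} :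
    a ∈ N ↔ QuotientGroup.mk' N a = 1 := (QuotientGroup.eq_one_iff _).symm

theorem c2_res {G : Type*} [Group G] {F : Type*} [Field F] {U U₀ : Subgroup G} {σ ψ}
    (d : NatData F ⊤ U U₀ σ ψ) (E : Subgroup G) :
    NatData F E U U₀ (σ.comp (inclusion le_top)) ψ :=
  ⟨le_top.trans d.norm, d.le, d.mul, d.surj, d.ker, fun e u hu => d.conj ⟨e, trivial⟩ u hu⟩

theorem c2_range {G : Type u} [Group G] [Finite G] {p : ℕ} [Fact p.Prime] {F : Type} [Field F]
    [CharP F p] {S M T : Subgroup G} (h : AB p S ⊤ M T) (σ : (⊤ : Subgroup G) →* SL(2, F))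
    (s : Function.Surjective σ) (hk : ∀ t ∈ T, σ ⟨t, trivial⟩ = 1) :
    (σ.comp (inclusion (le_top : pResOf p (⊤ : Subgroup G) ≤ ⊤))).range = commutator SL(2, F) := by
  haveI : (pResOf p (⊤ : Subgroup G)).Normal := pResOf_normal ⊤
  let ρ : G →* SL(2, F) := σ.comp (topEquiv (G := G)).symm.toMonoidHom
  have ρs : Function.Surjective ρ := s.comp (topEquiv (G := G)).symm.surjective
  have e : (σ.comp (inclusion (le_top : pResOf p (⊤ : Subgroup G) ≤ ⊤))).range =
      (pResOf p (⊤ : Subgroup G)).map ρ := by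
    ext g
    exact ⟨fun ⟨a, ha⟩ => ⟨a, a.2, ha⟩, fun ⟨a, ha, e⟩ => ⟨⟨a, ha⟩, e⟩⟩
  rw [e]
  refine le_antisymm (map_le_iff_le_comap.2 (pResOf_le_iff.2 fun x _ ho => mem_comm_of_coprime
    (Nat.Coprime.coprime_dvd_left (orderOf_map_dvd ρ x) ho))) ?_
  haveI : ((pResOf p (⊤ : Subgroup G)).map ρ).Normal := Normal.map inferInstance ρ ρs
  rw [_root_.commutator, commutator_le]
  intro a _ b _
  obtain ⟨a, rfl⟩ := ρs a
  obtain ⟨b, rfl⟩ := ρs b
  obtain ⟨e1, he1, s1, hs1, rfl⟩ := (mem_sup_iff_of_le_normalizer' le_normalizer_of_normal).1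
    (h.syl.pResOf_sup.ge (mem_top a))
  obtain ⟨e2, he2, s2, hs2, rfl⟩ := (mem_sup_iff_of_le_normalizer' le_normalizer_of_normal).1
    (h.syl.pResOf_sup.ge (mem_top b))
  rw [c2_one, commutatorElement_def]
  have k1 := (c2_one _).1 (mem_map_of_mem ρ he1)
  have k2 := (c2_one _).1 (mem_map_of_mem ρ he2)
  have k3 : ρ (s1 * s2 * s1⁻¹ * s2⁻¹) = 1 := hk _ (h.ab (comm_mem hs1 hs2))
  simp only [map_mul, map_inv, k1, k2, one_mul] at k3 ⊢
  have := congrArg (QuotientGroup.mk' ((pResOf p (⊤ : Subgroup G)).map ρ)) k3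
  simpa only [map_mul, map_inv, map_one] using this

theorem pc2 {p : ℕ} [Fact p.Prime] : PC2.{u} p := by
  classical
  intro G _ _ S M T xd hET xe
  obtain ⟨rfl, hphi, W, X, x, -, hcard, hcub⟩ := xe
  have h := xd.pn
  have hker := xd.ker
  set V := OZ 3 T with hV
  set E := pResOf 3 (⊤ : Subgroup G) with hE
  set V0 := V ⊓ 𝐂⟮(⊤ : Subgroup G)⟯ with hV0
  set Q := ⁅T, E⁆ with hQ
  haveI nT : T.Normal := normal_of_top_le h.nT
  haveI nE : E.Normal := pResOf_normal ⊤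
  haveI nV : V.Normal := normal_of_top_le h.nrm
  haveI nX : X.Normal := normal_of_top_le x.nX
  haveI n0 : V0.Normal := normal_of_top_le h.nZ
  haveI nQ : Q.Normal := commutator_normal T E
  obtain ⟨n, hn, en⟩ := h.nat.pow
  obtain ⟨F, _, _, hF⟩ := exists_field_card (p := 3) hn
  haveI : CharP F 3 := BHS.charP_of_card hF
  have hFS : Fintype.card F = T.relIndex S := hF.trans (en.symm.trans h.idxS)
  obtain ⟨σ, ψ, d, s, -⟩ := h.nat.nat F (hF.trans en.symm)
  obtain ⟨σ', ψ', d', s'⟩ := x.nat h F hFS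
  obtain ⟨ρ, ρs, ρk, ρe⟩ := h.quot hker d s
  have VX : V ≤ X := x.VW.trans x.WX
  have XT := x.XT
  have cz : ∀ v ∈ V0, ∀ g : G, g * v = v * g := fun v hv g => hv.2 g trivial
  have TX0 : ∀ t ∈ T, ∀ y ∈ X, t * y * t⁻¹ * y⁻¹ ∈ V0 := fun t ht y hy =>
    x.ker t trivial (fun v hv => by
      rw [conj_eq_of_cent ht (h.cen hv), mul_inv_cancel]; exact one_mem _) y hy
  have kT : ∀ t ∈ T, σ ⟨t, trivial⟩ = 1 := fun t ht => (ρe t).symm.trans (ρk.ge ht)
  have kT' : ∀ t ∈ T, σ' ⟨t, trivial⟩ = 1 := fun t ht =>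
    (d'.eq_one_iff ⟨t, trivial⟩).2 fun u hu => (TX0 t ht u hu).1
  let ρ' : G →* SL(2, F) := σ'.comp (topEquiv (G := G)).symm.toMonoidHom
  have ρs' : Function.Surjective ρ' := s'.comp (topEquiv (G := G)).symm.surjective
  have ρk' : T = ρ'.ker := by
    refine eq_of_le_of_card_ge (fun t ht => kT' t ht) ?_
    have a := ρ.ker.card_mul_index
    have b := ρ'.ker.card_mul_index
    rw [index_ker, MonoidHom.range_eq_top.2 ρs, ρk] at a
    rw [index_ker, MonoidHom.range_eq_top.2 ρs'] at b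
    exact (Nat.eq_of_mul_eq_mul_right Nat.card_pos (b.trans a.symm)).le
  have n2 : (2 : F) ≠ 0 := fun e => by
    have e3 : ((3 : ℕ) : F) = 0 := CharP.cast_eq_zero F 3
    exact one_ne_zero (α := F) (by push_cast at e3; linear_combination e3 - e)
  obtain ⟨⟨z, hz0⟩, hz, ez⟩ := h.exists_neg s (by decide)
  have rz : ρ z = -1 := (ρe z).trans ez
  have z2 : z * z ∈ T := ρk.le (by rw [MonoidHom.mem_ker, map_mul, rz]; simp)
  have ez' : σ' ⟨z, trivial⟩ = -1 := c2_sq n2 (g := ρ' z) (by rw [← map_mul]; exact ρk'.le z2)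
    fun e => by
      have : ρ z = 1 := ρk.ge (ρk'.ge e)
      rw [rz] at this
      have := congrArg (fun g : SL(2, F) => g.1 0 0) this
      simp at this
      exact n2 (by linear_combination -this)
  have iX : ∀ y ∈ X, z * y * z⁻¹ * y ∈ V := fun y hy => by
    have m := nX.conj_mem y hy z
    rw [← d'.ker _ (mul_mem m hy), d'.mul _ m _ hy]
    have := d'.conj ⟨z, trivial⟩ y hy
    rw [ez'] at this
    erw [this]
    simp [Matrix.neg_mulVec]
  have iV : ∀ y ∈ V, z * y * z⁻¹ * y ∈ V0 := fun y hy => by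
    have m := nV.conj_mem y hy z
    rw [← d.ker _ (mul_mem m hy), d.mul _ m _ hy]
    have := d.conj ⟨z, trivial⟩ y hy
    rw [ez] at this
    erw [this]
    simp [Matrix.neg_mulVec]
  have iX0 : ∀ y ∈ X, z * y * z⁻¹ * y ∈ V0 := fun y hy => by
    refine c2_odd h.pT (h.le (iX y hy)) ?_
    have a := (c2_one _).1 (iV _ (iX y hy))
    have b := c2_cm V0 (TX0 _ z2 y hy)
    have c := c2_cm V0 (TX0 _ (XT (nX.conj_mem y hy z)) y hy)
    rw [c2_one, ← a]
    simp only [map_mul, map_inv] at b c ⊢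
    generalize QuotientGroup.mk' V0 z = A at b c
    generalize QuotientGroup.mk' V0 y = B at b c
    congr 1
    calc A * B * A⁻¹ * B = B * (A * B * A⁻¹) := c.eq
      _ = (B * (A * A)) * A⁻¹ * B * A⁻¹ := by group
      _ = _ := by rw [← b.eq]; group
  have QX : Q ≤ X := x.res
  have QT : Q ≤ T := QX.trans XT
  have QE : Q ≤ E := hET.ge.trans inf_le_left
  have XQ : X ≤ Q ⊔ V0 := fun y hy => c2_odd h.pT (XT hy) (by
    have := mul_mem (inv_mem (mem_sup_left (T := V0) (comm_mem' (XT hy) hz : _ ∈ Q)))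
      (mem_sup_right (iX0 y hy))
    convert this using 1
    group)
  have dec : ∀ y ∈ X, ∃ q ∈ Q, ∃ v ∈ V0, q * v = y := fun y hy =>
    (mem_sup_iff_of_le_normalizer le_normalizer_of_normal).1 (XQ hy)
  set Z := ⁅Q, Q⁆ with hZ
  haveI nZ : Z.Normal := commutator_normal Q Q
  have Z0 : Z ≤ V0 := commutator_le.2 fun a ha b hb => TX0 a (QT ha) b (QX hb)
  have ZQ : Z ≤ Q := commutator_le_left Q Q
  have cq : ∀ q v g : G, v ∈ V0 → ⁅q * v, g⁆ = ⁅q, g⁆ := fun q v g hv => by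
    simp only [commutatorElement_def]
    calc q * v * g * (q * v)⁻¹ * g⁻¹ = q * (v * g) * v⁻¹ * q⁻¹ * g⁻¹ := by group
      _ = _ := by rw [← cz v hv g]; group
  have XB' : ∀ B : Subgroup G, ⁅X, B⁆ ≤ ⁅Q, B⁆ := fun B => commutator_le.2 fun a ha b hb => by
    obtain ⟨q, hq, v, hv, rfl⟩ := dec a ha
    rw [cq q v b hv]; exact commutator_mem_commutator hq hb
  have XX : ⁅X, X⁆ ≤ Z := (XB' X).trans ((commutator_comm _ _).le.trans (XB' Q))
  have cQ : ∀ a ∈ Q, ∀ b ∈ Q, Commute (QuotientGroup.mk' Z a) (QuotientGroup.mk' Z b) :=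
    fun a ha b hb => c2_cm Z (comm_mem ha hb)
  have QQ : ⁅Q, E⁆ = Q := comm_eq_of_res (pResOf_pResOf ⊤) h.pT le_normalizer_of_normal
  have K1 : ∀ y ∈ Q, z * y * z⁻¹ * y ∈ Z := by
    let R : Subgroup G :=
      { carrier := {y | y ∈ Q ∧ z * y * z⁻¹ * y ∈ Z}
        one_mem' := ⟨one_mem _, by simp⟩
        mul_mem' := fun {a b} ha hb => ⟨mul_mem ha.1 hb.1, by
          have e1 := (c2_one _).1 ha.2
          have e2 := (c2_one _).1 hb.2
          have c := cQ _ (nQ.conj_mem b hb.1 z) a ha.1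
          rw [c2_one, show z * (a * b) * z⁻¹ * (a * b) =
            z * a * z⁻¹ * ((z * b * z⁻¹) * a) * b by group, map_mul, map_mul, map_mul _ (z * b * z⁻¹),
            c.eq, ← mul_assoc, ← map_mul, e1, one_mul, ← map_mul, e2]⟩
        inv_mem' := fun {a} ha => ⟨inv_mem ha.1, by
          have := nZ.conj_mem _ (inv_mem ha.2) a
          convert this using 1
          group⟩ }
    suffices Q ≤ R from fun y hy => (this hy).2
    rw [← QQ, commutator_le]
    intro y hy e he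
    have hu := nQ.conj_mem y hy e
    refine ⟨mul_mem (mul_mem hy (by simpa [mul_assoc] using inv_mem hu : e * y⁻¹ * e⁻¹ ∈ Q)) (one_mem _) |>
      fun k => by simpa [commutatorElement_def, mul_assoc] using k, ?_⟩
    have ht : z⁻¹ * (e⁻¹ * z * e) ∈ Q := hET.le ⟨E.mul_mem (E.inv_mem hz) (E.mul_mem (E.mul_mem (E.inv_mem he) hz) he),
      ρk.le (by rw [MonoidHom.mem_ker]; simp [rz])⟩
    have c1 := cQ _ ht y hy
    have c0 := cz _ (iX0 y (QX hy)) e
    have f1 : QuotientGroup.mk' Z (z * (e * y * e⁻¹) * z⁻¹ * (e * y * e⁻¹)) =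
        QuotientGroup.mk' Z (z * y * z⁻¹ * y) := by
      conv_rhs => rw [← mul_inv_eq_iff_eq_mul.2 c0]
      have : z * (e * y * e⁻¹) * z⁻¹ * (e * y * e⁻¹) =
          e * z * ((z⁻¹ * (e⁻¹ * z * e)) * y) * (z⁻¹ * (e⁻¹ * z * e))⁻¹ * z⁻¹ * y * e⁻¹ := by group
      rw [this]
      generalize z⁻¹ * (e⁻¹ * z * e) = t at c1
      simp only [map_mul, map_inv]
      rw [c1.eq]; group
    have c2 := cQ _ (nQ.conj_mem _ hu z) y hy
    have c3 := cQ _ (nQ.conj_mem _ hu z) _ hu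
    rw [c2_one, show z * ⁅y, e⁆ * z⁻¹ * ⁅y, e⁆ = (z * y * z⁻¹) * ((z * (e * y * e⁻¹) * z⁻¹)⁻¹ * y) *
      (e * y * e⁻¹)⁻¹ by simp only [commutatorElement_def]; group]
    rw [map_mul _ (z * (e * y * e⁻¹) * z⁻¹), map_mul _ (z * y * z⁻¹)] at f1
    rw [map_mul, map_mul, map_mul _ _ y, map_inv, map_inv]
    generalize QuotientGroup.mk' Z (z * (e * y * e⁻¹) * z⁻¹) = C at f1 c2 c3
    generalize QuotientGroup.mk' Z (e * y * e⁻¹) = D at f1 c3
    generalize QuotientGroup.mk' Z (z * y * z⁻¹) = A at f1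
    generalize QuotientGroup.mk' Z y = B at f1 c2
    rw [c2.inv_left.eq, ← mul_assoc, ← f1, c3.eq]
    group
  have K2 : ∀ y ∈ Q, z * y = y * z → y ∈ Z := fun y hy e => c2_odd h.pT (QT hy) (by
    have := K1 y hy
    rwa [e, mul_inv_cancel_right] at this)
  have cube : ∀ y ∈ X, y ^ 3 ∈ V0 := by
    let N : Subgroup G :=
      { carrier := {y | y ∈ X ∧ y ^ 3 ∈ V0}
        one_mem' := ⟨one_mem _, by simp⟩
        mul_mem' := fun {a b} ha hb => ⟨mul_mem ha.1 hb.1, by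
          have e1 := (c2_one _).1 ha.2
          have e2 := (c2_one _).1 hb.2
          rw [map_pow] at e1 e2
          rw [c2_one, map_pow, map_mul, (c2_cm V0 (TX0 a (XT ha.1) b hb.1)).mul_pow, e1, e2, one_mul]⟩
        inv_mem' := fun {a} ha => ⟨inv_mem ha.1, by rw [inv_pow]; exact inv_mem ha.2⟩ }
    haveI : N.Normal := ⟨fun a ha g => ⟨nX.conj_mem a ha.1 g, by
      rw [conj_pow]; exact n0.conj_mem _ ha.2 g⟩⟩
    have VN : V ≤ N := fun v hv => ⟨VX hv, by rw [h.ea.2 v hv]; exact one_mem _⟩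
    suffices X ≤ N from fun y hy => (this hy).2
    refine (d'.irr' s' (N := N) le_normalizer_of_normal (fun a ha => ha.1) fun k => ?_).trans
      (sup_le le_rfl VN)
    obtain ⟨y, hy, hyW⟩ := SetLike.not_le_iff_exists.1 x.nle
    obtain ⟨a, ha, haT⟩ := SetLike.not_le_iff_exists.1 h.not_le
    refine hyW (x.fix y hy a ha haT (k ⟨mul_mem (nX.conj_mem y hy a) (inv_mem hy), ?_⟩))
    have m : a * y * a⁻¹ * y⁻¹ ∈ phi S :=
      ((PGrp.map_frattini_le_iff h.syl.pgrp).1 le_rfl).1 (comm_mem ha (h.TS (XT hy)))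
    rw [mem_bot.1 (((PGrp.map_frattini_le_iff (h.syl.pgrp.to_le (phi_le S))).1 hphi.le).2 _ m)]
    exact one_mem _
  have core : pCoreOf 3 E = Q := by
    rw [pCoreOf_eq_inf_of_le_normalizer le_top le_normalizer_of_normal, h.core, inf_comm, hET]
  have q1 : 1 < T.relIndex S := by rw [← hFS]; exact Fintype.one_lt_card
  have oz : OZ 3 Q = Q ⊓ V := by
    refine le_antisymm (le_inf (omegaOneCenter_le Q) ?_) fun v hv => mem_omegaOneCenter.2
      ⟨hv.1, fun g hg => h.cen hv.2 g (QT hg), h.ea.2 v hv.2⟩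
    by_contra k
    have a := d'.irr' s' (N := OZ 3 Q) (le_normalizer_of_normal.trans
      (normalizer_le_normalizer_omegaOneCenter Q)) ((omegaOneCenter_le Q).trans QX) k
    have b : Z = ⊥ := comm_bot_of_le_cent (QX.trans (a.trans (sup_le (omegaOneCenter_le_centralizer Q)
      fun v hv g hg => h.cen hv g (QT hg))))
    rw [le_bot_iff.1 (XX.trans b.le), card_bot] at hcard
    omega
  have zc : Q ⊓ V ⊓ 𝐂⟮E⟯ = Z := le_antisymm (fun y hy => K2 y hy.1.1 (hy.2 z hz))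
    fun y hy => ⟨⟨ZQ hy, (Z0 hy).1⟩, fun g _ => cz y (Z0 hy) g⟩
  have zc0 : Q ⊓ V ⊓ V0 = Z := le_antisymm (fun y hy => K2 y hy.1.1 (cz y hy.2 z))
    fun y hy => ⟨⟨ZQ hy, (Z0 hy).1⟩, Z0 hy⟩
  have ze : E ⊓ 𝐂⟮E⟯ = Z := by
    refine le_antisymm (fun y hy => K2 y (hET.le ⟨hy.1, ρk.le ?_⟩) (hy.2 z hz))
      fun y hy => ⟨QE (ZQ hy), fun g _ => cz y (Z0 hy) g⟩
    rw [MonoidHom.mem_ker, ρe, d.eq_one_iff]
    intro u hu
    obtain ⟨q, hq, v, hv, rfl⟩ := dec u (VX hu)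
    have : y * (q * v) = q * v * y := by
      rw [← mul_assoc, ← hy.2 q (QE hq), mul_assoc, cz v hv y, mul_assoc]
    show y * (q * v) * y⁻¹ * (q * v)⁻¹ ∈ V0
    rw [this]; simp
  have VQ : V ≤ (Q ⊓ V) ⊔ V0 := fun y hy => c2_odd h.pT (h.le hy) (by
    have m : z * y * z⁻¹ * y⁻¹ ∈ Q ⊓ V :=
      ⟨comm_mem' (h.le hy) hz, V.mul_mem (nV.conj_mem y hy z) (V.inv_mem hy)⟩
    have := mul_mem (inv_mem (mem_sup_left (T := V0) m)) (mem_sup_right (iV y hy))
    convert this using 1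
    group)
  have r1 := c2_range h.toAB σ s kT
  have r2 := c2_range h.toAB σ' s' kT'
  refine ⟨pResOf_pResOf ⊤, ?_, by rw [core, QQ], Or.inl ⟨F, inferInstance, inferInstance, n, hF, ?_, ?_,
    Or.inr ⟨rfl, ?_, ?_, ?_, ?_, ?_, ?_⟩⟩⟩
  · exact commutator_pResOf_eq_of_le h.syl.pgrp le_top (h.res_le (h.syl.pResOf_sup.ge.trans (sup_le
      (le_normalizer_cjClos _ _) ((le_cjClos _ _).trans le_normalizer))) le_rfl (le_cjClos _ _)
      h.not_le)
  · have e : (σ.comp (inclusion (le_top : E ≤ ⊤))).ker = pCore 3 E := by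
      ext g
      have : (g : G) ∈ pCoreOf 3 E ↔ g ∈ pCore 3 E := mem_map_iff_mem E.subtype_injective
      rw [← this, core, ← hET]
      exact ⟨fun k => ⟨g.2, ρk.le ((ρe g).trans k)⟩, fun k => kT g k.2⟩
    exact ⟨(QuotientGroup.quotientMulEquivOfEq e.symm).trans
      ((QuotientGroup.quotientKerEquivRange _).trans (MulEquiv.subgroupCongr r1))⟩
  · rw [core, oz, zc, ← zc0]
    exact actsAs_iff.2 ⟨_, _, c2_res (d.sub inf_le_right le_normalizer_of_normal
      le_normalizer_of_normal VQ) E, r1⟩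
  · rw [core, oz]
    exact actsAs_iff.2 ⟨_, _, c2_res (d'.sub QX le_normalizer_of_normal le_normalizer_of_normal
      (XQ.trans (sup_le_sup_left inf_le_left _))) E, r2⟩
  · rw [core, oz, zc]
  · rw [core, oz, zc]
    have pQ := h.pT.to_le QT
    exact le_antisymm ((PGrp.map_frattini_le_iff pQ).2 ⟨le_rfl, fun y hy =>
      K2 _ (pow_mem hy 3) (cz _ (cube y (QX hy)) z)⟩) ((PGrp.map_frattini_le_iff pQ).1 le_rfl).1
  · rw [core, oz, zc, ze]
  · rw [ze, ← hF]
    refine le_antisymm ?_ (hFS.le.trans (hcard.trans (card_le_of_le XX)))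
    choose sc hsc esc using d'.surj
    have cv : ∀ a ∈ X, ∀ b ∈ X, ∀ c ∈ X, ψ' b = ψ' c → ⁅a, b⁆ = ⁅a, c⁆ := fun a ha b hb c hc e => by
      have m := h.cen ((d'.eq_iff hb hc).1 e) a (XT ha)
      have m0 := cz _ (TX0 a (XT ha) c hc) (b * c⁻¹)
      simp only [commutatorElement_def]
      calc a * b * a⁻¹ * b⁻¹ = (a * (b * c⁻¹)) * c * a⁻¹ * c⁻¹ * (b * c⁻¹)⁻¹ := by group
        _ = (b * c⁻¹ * (a * c * a⁻¹ * c⁻¹)) * (b * c⁻¹)⁻¹ := by rw [m]; group
        _ = _ := by rw [m0]; group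
    have cv2 : ∀ a ∈ X, ∀ b ∈ X, ⁅a, b⁆ = ⁅sc (ψ' a), sc (ψ' b)⁆ := fun a ha b hb => by
      rw [cv a ha b hb _ (hsc _) (esc _).symm, ← commutatorElement_inv,
        cv _ (hsc _) a ha _ (hsc _) (esc _).symm, commutatorElement_inv]
    have ad : ∀ a b c, ⁅sc a, sc (b + c)⁆ = ⁅sc a, sc b⁆ * ⁅sc a, sc c⁆ := fun a b c => by
      rw [cv _ (hsc a) _ (hsc _) _ (mul_mem (hsc b) (hsc c)) (by rw [d'.mul _ (hsc b) _ (hsc c)]; simp [esc])]
      have m0 := cz _ (TX0 _ (XT (hsc a)) _ (hsc c)) (sc b)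
      simp only [commutatorElement_def]
      calc sc a * (sc b * sc c) * (sc a)⁻¹ * (sc b * sc c)⁻¹ = sc a * sc b * (sc a)⁻¹ * (sc b)⁻¹ *
            (sc b * (sc a * sc c * (sc a)⁻¹ * (sc c)⁻¹)) * (sc b)⁻¹ := by group
        _ = _ := by rw [m0]; group
    have fe := form_eq (fun a b => ⁅sc a, sc b⁆) ad (fun y => by
      have := cv2 1 (one_mem _) _ (hsc y)
      rw [d'.one, esc] at this
      simpa using this.symm) (fun a => by simp) (fun g _ a b => by
      obtain ⟨e, rfl⟩ := s' g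
      have := cv2 _ (nX.conj_mem _ (hsc a) e) _ (nX.conj_mem _ (hsc b) e)
      rw [d'.conj e _ (hsc a), d'.conj e _ (hsc b), esc, esc] at this
      show ⁅sc _, sc _⁆ = _
      rw [← this, ← conjugate_commutatorElement]
      have m0 := cz _ (TX0 _ (XT (hsc a)) _ (hsc b)) e
      rw [commutatorElement_def, m0, mul_inv_cancel_right])
    let f : Multiplicative F →* G := MonoidHom.mk' (fun c => ⁅sc e0, sc (c.toAdd • e1)⁆)
      fun a b => by rw [toAdd_mul, add_smul, ad]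
    have : Z ≤ f.range := commutator_le.2 fun a ha b hb =>
      ⟨Multiplicative.ofAdd (dt (ψ' a) (ψ' b)), ((cv2 a (QX ha) b (QX hb)).trans (fe _ _)).symm⟩
    refine (card_le_of_le this).trans ((Nat.card_le_card_of_surjective _ f.rangeRestrict_surjective).trans ?_)
    simp
  · rw [core, oz, ze]
    intro b hb hbc k
    refine hcub b hb (fun t => hbc fun v hv => (h.cen hv.2 b t).symm) ?_
    exact (commutator_mono (XB' _) le_rfl).trans (k.trans (Z0.trans inf_le_right))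

end Cfsg.Agent.Spc.Pu
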