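import Cfsg.Agent.Spc.PuDef
import Cfsg.Agent.Push.Bau

/-! Baumann's lemma for the elementary abelian Thompson subgroup. -/

namespace Cfsg.Agent.Spc.Pu

open Subgroup Cfsg.Agent.LocalEven Cfsg.Agent.PLocal Cfsg.Agent.Push Cfsg.Agent.BHS
open Cfsg.Agent.Glaub
open scoped commutatorElement

universe u

variable {G : Type u} [Group G] {p : ℕ} {S L M T V A B W : Subgroup G} {g a : G}

theorem me_comm (hA : A ∈ Transfer.MaxEA p S) : A ≤ 𝐂⟮A⟯ := elemAb_le_centralizer hA.2.1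

theorem ez_le_self (S : Subgroup G) : OZ p (Jt p S) ≤ S :=
  (omegaOneCenter_le _).trans (Transfer.thompsonSubgroupOf_le S)

theorem ez_cent (hA : A ∈ Transfer.MaxEA p S) : OZ p (Jt p S) ≤ 𝐂⟮A⟯ :=
  (omegaOneCenter_le_centralizer _).trans (centralizer_le (Transfer.le_thompsonSubgroupOf hA))

theorem norm_ez (S : Subgroup G) : 𝐍⟮S⟯ ≤ 𝐍⟮OZ p (Jt p S)⟯ :=
  (Transfer.normalizer_le_normalizer_thompsonSubgroupOf S).trans (normalizer_le_normalizer_omegaOneCenter _)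

variable [Finite G]

theorem ez_le (hA : A ∈ Transfer.MaxEA p S) : OZ p (Jt p S) ≤ A :=
  Transfer.le_of_mem_maxEA hA (ez_le_self S) (elemAb_omegaOneCenter _) (ez_cent hA)

theorem le_ez (h1 : W ≤ S) (h2 : IsElementaryAbelian p W) (h3 : W ≤ 𝐂⟮Jt p S⟯) : W ≤ OZ p (Jt p S) := fun x hx =>
  mem_omegaOneCenter.2 ⟨Transfer.mem_thompsonSubgroupOf_of_mem_centralizer (h1 hx) (h2.2 x hx) (h3 hx), h3 hx, h2.2 x hx⟩

variable [hp : Fact p.Prime]

section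
variable (h : PN p S L M T V) (hA : A ∈ Transfer.MaxEA p S) (hAT : ¬ A ≤ T)
include h hA hAT

theorem ez_maxab : A ⊔ T = S ∧ V ⊓ A = V ⊓ 𝐂⟮S⟯ ∧
    V ≤ V ⊔ (V ⊓ A) ∧ (A ⊓ T) ⊔ V ∈ Transfer.MaxEA p S := by
  have h2 : V ≤ T ⊓ 𝐂⟮T⟯ := le_inf h.le h.cen
  have hW : V ≤ 𝐂⟮V⟯ := h.VV
  have c : A ⊓ T ≤ 𝐂⟮V⟯ := inf_le_right.trans (le_cent_comm (h2.trans inf_le_right))
  have e := elemAb_sup (Transfer.ea_of_le hA.2.1 (inf_le_left : A ⊓ T ≤ A)) h.ea c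
  have l : (A ⊓ T) ⊔ V ≤ S := (sup_le inf_le_right (h2.trans inf_le_left)).trans h.TS
  have b1 := hA.2.2 _ l e
  have b2 := card_mul_card_le (A ⊓ T) V
  have b3 := card_inf_mul_relIndex' T A
  have b4 := card_inf_mul_relIndex' A V
  have b5 : A ⊓ T ⊓ V = V ⊓ A := le_antisymm (le_inf inf_le_right (inf_le_left.trans inf_le_left))
    (le_inf (le_inf inf_le_right (inf_le_left.trans (h2.trans inf_le_left))) inf_le_left)
  rw [b5, ← b4] at b2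
  have p1 : 0 < Nat.card ↥(V ⊓ A) := Nat.card_pos
  have p2 : 0 < Nat.card ↥(A ⊓ T) := Nat.card_pos
  have b6 : Nat.card ↥(A ⊓ T) * A.relIndex V ≤ Nat.card ↥((A ⊓ T) ⊔ V) :=
    Nat.le_of_mul_le_mul_right (by nlinarith) p1
  obtain ⟨r1, r2, r3, r4⟩ := h.off hA.1 hAT (me_comm hA) le_rfl
    (Nat.le_of_mul_le_mul_left (by omega) p2) hW
  refine ⟨r1, r2, r3, Transfer.mem_maxEA_of_card_le hA l e (le_trans ?_ b6)⟩
  rw [← b3]; exact Nat.mul_le_mul_left _ r4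

theorem ez_norm : L ≤ 𝐍⟮OZ p (Jt p S) ⊔ V⟯ := by
  have hB := (ez_maxab h hA hAT).2.2.2
  have bT : (A ⊓ T) ⊔ V ≤ T := sup_le inf_le_right h.le
  have hBT := Transfer.mem_maxEA_of_le hB bT h.TS
  have c : ⁅OZ p (Jt p T), A⁆ ≤ V := (commutator_mono (ez_le hBT) le_rfl).trans
    (commutator_sup_left_le ((comm_bot_of_le_cent (inf_le_left.trans (me_comm hA))).le.trans bot_le)
      (comm_le_left (hA.1.trans h.SN)) (inf_le_left.trans (hA.1.trans h.SN)) le_normalizer)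
  have r := h.res_le (le_normalizer_centMod (h.nT.trans (norm_ez T)) h.nrm) hA.1
    (le_centMod.2 ⟨hA.1.trans h.SN, c⟩) hAT
  have l : OZ p (Jt p S) ⊔ V ≤ OZ p (Jt p T) := sup_le
    (le_ez ((ez_le hB).trans bT) (elemAb_omegaOneCenter _) ((omegaOneCenter_le_centralizer _).trans (centralizer_le
      (Transfer.thompsonSubgroupOf_le_of_mem_maxEA hB bT h.TS))))
    (le_ez h.le h.ea (h.cen.trans (centralizer_le (Transfer.thompsonSubgroupOf_le T))))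
  exact h.syl.pResOf_sup.ge.trans (sup_le
    (le_normalizer_of_commutator_le ((le_centMod.1 r).2.trans le_sup_right) l)
    (le_normalizer_sup (le_normalizer.trans (norm_ez S)) h.SN))

theorem ez_le_T : OZ p (Jt p S) ≤ T :=
  (ez_le (ez_maxab h hA hAT).2.2.2).trans (sup_le inf_le_right h.le)

theorem ez_comm_le : ⁅OZ p (Jt p S), S⁆ ≤ 𝐂⟮pResOf p L⟯ := by
  have n := le_normalizer_commutator (ez_norm h hA hAT) h.nT
  have nS : S ≤ 𝐍⟮OZ p (Jt p S)⟯ := le_normalizer.trans (norm_ez S)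
  have l : ⁅OZ p (Jt p S) ⊔ V, T⁆ ≤ OZ p (Jt p S) := commutator_sup_left_le
    (comm_le_left (h.TS.trans nS)) ((comm_bot_of_le_cent h.cen).le.trans bot_le) le_normalizer
    (h.VS.trans nS)
  refine le_trans ?_ (le_cent_comm (h.res_le (le_normalizer_centralizer n) hA.1
    (le_cent_comm (l.trans (ez_cent hA))) hAT))
  conv_lhs => rw [← (ez_maxab h hA hAT).1]
  rw [(ez_maxab h hA hAT).1]
  nth_rewrite 2 [← (ez_maxab h hA hAT).1]
  exact commutator_sup_right_le ((comm_bot_of_le_cent (ez_cent hA)).le.trans bot_le)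
    (commutator_mono le_sup_left le_rfl) ((hA.1.trans h.syl.le).trans n) (h.TL.trans n)

theorem ez_sc (hg : g ∈ L) (ha : a ∈ 𝐂⟮OZ p (Jt p S)⟯) (hb : g * a * g⁻¹ ∈ S) :
    g * a * g⁻¹ ∈ 𝐂⟮OZ p (Jt p S)⟯ := fun y hy => by
  have n := ez_norm h hA hAT hg
  have cYV : OZ p (Jt p S) ≤ 𝐂⟮V⟯ := (ez_le_T h hA hAT).trans (le_cent_comm h.cen)
  obtain ⟨y₁, hy₁, v₁, hv₁, e⟩ := (mem_sup_iff_of_le_normalizer (cYV.trans
    (centralizer_le_normalizer' V))).1 (inv_conj_mem_of_mem_normalizer n (mem_sup_left hy))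
  have hv := conj_mem_of_mem_normalizer (h.nrm hg) hv₁
  have e1 : y = g * y₁ * g⁻¹ * (g * v₁ * g⁻¹) := by
    rw [show y = g * (g⁻¹ * y * g) * g⁻¹ by group, ← e]; group
  have c1 : g * y₁ * g⁻¹ * (g * a * g⁻¹) = g * a * g⁻¹ * (g * y₁ * g⁻¹) := by
    rw [show g * y₁ * g⁻¹ * (g * a * g⁻¹) = g * (y₁ * a) * g⁻¹ by group, ha y₁ hy₁]; group
  have hy' : g * y₁ * g⁻¹ ∈ 𝐂⟮V⟯ := sup_le cYV h.VV (conj_mem_of_mem_normalizer n (mem_sup_left hy₁))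
  generalize g * a * g⁻¹ = b at *
  generalize g * v₁ * g⁻¹ = v at *
  generalize g * y₁ * g⁻¹ = y' at *
  have c2 : v * b = b * v := by
    by_cases hT : b ∈ T
    · exact (h.cen hv b hT).symm
    have k : b * v * b⁻¹ * v⁻¹ ∈ V := comm_le_left h.SN (comm_mem' hv hb)
    have e2 : b * y * b⁻¹ * y⁻¹ = b * v * b⁻¹ * v⁻¹ := by
      rw [e1, ← mul_assoc, ← c1, ← conj_eq_of_cent' hy' k]; group
    refine (h.fix hb hT hv (le_cent_comm (le_rfl : 𝐂⟮L⟯ ≤ 𝐂⟮L⟯) |> fun _ => ?_) b hb).symm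
    rw [← h.syl.pResOf_sup, centralizer_sup']
    exact ⟨e2 ▸ ez_comm_le h hA hAT (comm_mem' hy hb), h.quad (comm_mem' hv hb)⟩
  rw [e1, mul_assoc, c2, ← mul_assoc, c1, mul_assoc]

end

/-- The basic dichotomy: either `C_S(ZJ(S))` is normal, or there is a natural module. -/
theorem ez_dich (h : AB p S ⊤ M T) (hT : 𝐂⟮T⟯ ≤ T) (hZ : ¬ S ⊓ 𝐂⟮S⟯ ≤ 𝐂⟮(⊤ : Subgroup G)⟯) :
    (S ⊓ 𝐂⟮OZ p (Jt p S)⟯).Normal ∨
      PN p S ⊤ M T (omegaOneCenter p T) ∧ ∃ A ∈ Transfer.MaxEA p S, ¬ A ≤ T := by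
  have c := h.cent_le hT hZ
  have nV : (⊤ : Subgroup G) ≤ 𝐍⟮omegaOneCenter p T⟯ :=
    h.nT.trans (normalizer_le_normalizer_omegaOneCenter T)
  have k : S ⊓ 𝐂⟮omegaOneCenter p T⟯ ≤ T := (minIn_le_pCoreOf h.min h.syl.pgrp
    (le_normalizer_centralizer nV) c (h.syl.pgrp.to_le inf_le_left) inf_le_right).trans h.core.le
  by_cases hJ : thompsonSubgroupOf p S ≤ T
  · left
    have e : OZ p (Jt p S) = OZ p (Jt p T) := by
      rw [Transfer.thompsonSubgroupOf_eq_of_le hJ h.TS]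
    have l : omegaOneCenter p T ≤ OZ p (Jt p T) := le_ez (omegaOneCenter_le T)
      (elemAb_omegaOneCenter T)
      ((omegaOneCenter_le_centralizer T).trans (centralizer_le (Transfer.thompsonSubgroupOf_le T)))
    rw [e, show S ⊓ 𝐂⟮OZ p (Jt p T)⟯ = T ⊓ 𝐂⟮OZ p (Jt p T)⟯ from le_antisymm
      (le_inf ((inf_le_inf_left _ (centralizer_le l)).trans k) inf_le_right) (inf_le_inf_right _ h.TS)]
    exact normalizer_eq_top_iff.1 (top_le_iff.1 (le_normalizer_inf h.nT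
      (le_normalizer_centralizer (h.nT.trans (norm_ez T)))))
  · rw [Transfer.thompsonSubgroupOf_le_iff] at hJ
    push Not at hJ
    obtain ⟨A, hA, hAT⟩ := hJ
    haveI : (omegaOneCenter p T).Normal := normalizer_eq_top_iff.1 (top_le_iff.1 nV)
    exact Or.inr ⟨h.pn (elemAb_omegaOneCenter T) (omegaOneCenter_le T)
      (omegaOneCenter_le_centralizer T) c (Or.inr rfl) hA fun e => hAT ((le_inf hA.1 e).trans k),
      A, hA, hAT⟩

theorem ez_sylow (h : AB p S ⊤ M T) (hT : 𝐂⟮T⟯ ≤ T)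
    (hZ : ¬ S ⊓ 𝐂⟮S⟯ ≤ 𝐂⟮(⊤ : Subgroup G)⟯) : IsSylowIn p (S ⊓ 𝐂⟮OZ p (Jt p S)⟯)
      (cjClos (S ⊓ 𝐂⟮OZ p (Jt p S)⟯) ⊤) := by
  rcases ez_dich h hT hZ with hn | ⟨n, A, hA, hAT⟩
  · rw [cjClos_eq_self le_normalizer_of_normal]
    exact IsSylowIn.self (h.syl.pgrp.to_le inf_le_left)
  obtain ⟨r1, -, -, -⟩ := ez_maxab n hA hAT
  set Y := OZ p (Jt p S) with hY
  set N := cjClos (S ⊓ 𝐂⟮Y⟯) ⊤ with hN
  have nN : (⊤ : Subgroup G) ≤ 𝐍⟮N⟯ := le_normalizer_cjClos _ _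
  have aS : A ≤ S ⊓ 𝐂⟮Y⟯ := le_inf hA.1 (le_cent_comm (ez_cent hA))
  have nX : (⊤ : Subgroup G) ≤ 𝐍⟮T ⊓ 𝐂⟮Y⟯⟯ := by
    have := le_normalizer_inf h.nT (le_normalizer_centralizer (ez_norm n hA hAT))
    rwa [centralizer_sup', inf_comm 𝐂⟮Y⟯, ← inf_assoc, inf_eq_left.2 (le_cent_comm n.cen)] at this
  have nY : S ≤ 𝐍⟮Y⟯ := le_normalizer.trans (norm_ez S)
  have c1 : ⁅T, A⁆ ≤ T ⊓ 𝐂⟮Y⟯ := le_inf (comm_le_left (le_top.trans h.nT))
    (le_cent_of_comm_bot (commutator_commutator_eq_bot_of_rotate (by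
      rw [comm_bot_of_le_cent (aS.trans inf_le_right), commutator_bot_left])
      (comm_bot_of_le_cent ((comm_le_left (h.TS.trans nY)).trans (ez_cent hA)))))
  have e1 : S ⊓ 𝐂⟮Y⟯ = A ⊔ (T ⊓ 𝐂⟮Y⟯) := by
    rw [← r1, inf_sup_of_le_normalizer (le_top.trans h.nT) (aS.trans inf_le_right)]
  have c2 : N ≤ centMod T (T ⊓ 𝐂⟮Y⟯) := cjClos_le (le_centMod.2 ⟨le_top.trans nX, by
    rw [e1]
    exact commutator_sup_right_le c1 (commutator_le_right_of_le_normalizer (le_top.trans nX))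
      (le_top.trans nX) le_normalizer⟩) (le_normalizer_centMod h.nT nX)
  have sP := h.syl.inf_of_le_normalizer le_top nN
  have aN : S ⊓ 𝐂⟮Y⟯ ≤ N := le_cjClos _ _
  have f := focal_le (D := S ⊓ 𝐂⟮Y⟯) sP fun x hx g hg hx' => by
    obtain ⟨a, ha, t, ht, rfl⟩ := (mem_sup_iff_of_le_normalizer (le_top.trans h.nT)).1 (r1.ge hx.1)
    have ht' := conj_mem_of_mem_normalizer (h.nT (mem_top g)) ht
    have k1 : g * a * g⁻¹ ∈ S := by
      have := S.mul_mem hx'.1 (inv_mem (h.TS ht'))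
      simpa [mul_assoc] using this
    have k2 : g * a * g⁻¹ ∈ S ⊓ 𝐂⟮Y⟯ := ⟨k1, ez_sc n hA hAT (mem_top g) (aS ha).2 k1⟩
    have k3 : t⁻¹ * (g * t * g⁻¹) ∈ S ⊓ 𝐂⟮Y⟯ := inf_le_inf_right _ h.TS (by
      simpa [commutatorElement_def, mul_assoc] using (c2 hg).2 _ (inv_mem ht))
    have k4 := inv_conj_mem_of_mem_normalizer
      (le_normalizer_inf le_normalizer (le_normalizer_centralizer nY) (h.TS ht))
      (mul_mem (inv_mem (aS ha)) k2)
    simpa [mul_assoc] using mul_mem k4 k3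
  have eN : pResOf p ⊤ ≤ N := h.res_le nN hA.1 (aS.trans aN) hAT
  have e2 : N ≤ (S ⊓ 𝐂⟮Y⟯) ⊔ ⁅N, N⁆ := cjClos_le le_sup_left (h.syl.pResOf_sup.ge.trans (sup_le
    (le_normalizer_of_commutator_le ((commutator_mono le_rfl eN).trans le_sup_right)
      (sup_le aN (comm_le_left le_normalizer)))
    (le_normalizer_sup (le_normalizer_inf le_normalizer (le_normalizer_centralizer nY))
      (le_top.trans (le_normalizer_commutator nN nN)))))
  have e3 : S ⊓ N = S ⊓ 𝐂⟮Y⟯ := le_antisymm (((le_inf (inf_le_right.trans e2) le_rfl).trans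
    (inf_sup_of_le_normalizer (le_top.trans (le_normalizer_commutator nN nN))
      (le_inf inf_le_left aN)).le).trans (sup_le le_rfl ((inf_comm _ _).le.trans f)))
    (le_inf inf_le_left aN)
  exact e3 ▸ sP

omit [Finite G] in
theorem pe : PE.{u} p := fun _ _ _ _ _ _ h hT hZ => ez_sylow h hT hZ

end Cfsg.Agent.Spc.Pu
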