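import Cfsg.Agent.Spc.PuDef
import Cfsg.Agent.H4J.BkE

/-! The linear case of the pushing-up theorem. -/

namespace Cfsg.Agent.Spc.Pu

open Subgroup Cfsg.Agent.LocalEven Cfsg.Agent.PLocal Cfsg.Agent.Push Cfsg.Agent.BHS
open Cfsg.Agent.Glaub hiding cent_anti
open scoped commutatorElement MatrixGroups

universe u

theorem plb {p : ℕ} [Fact p.Prime] (hR : RB.{u} p) (hT : PT.{u} p) : PL.{u} p := by
  intro G _ _ T M s ⟨L, K, r, nK, hEK, hK⟩
  have hLM : ¬ L ≤ M := fun e => r.ab.min.lt.not_ge (le_inf le_rfl e)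
  have ro := hR G _ L _ _ r.ab r.cen fun W h1 h2 h3 => hLM (h3.trans (s.nc W h1 h2))
  have hEL : pResOf p L ≤ L := pResOf_le L
  have hEM : ¬ pResOf p L ≤ M := fun e => r.ab.res_not_le (le_inf hEL e)
  have blk : IsBaumannBlock p T (pResOf p L) := isBlock_iff.2 ⟨ro.bd, fun e =>
    hEM ((le_cent_of_comm_bot e).trans s.z)⟩
  have hN : K ≤ 𝐍⟮pResOf p L⟯ := hK.trans (sup_le (le_normalizer_pResOf L) (by
    rw [comm_V_eq s.cen s.syl blk]
    exact BHS.Bk.cent_le_norm s.cen (BHS.bt_of s.cen s.syl blk)))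
  have hB : Bm p T ≠ ⊥ := fun e => r.ab.not_le (e.le.trans bot_le)
  refine ⟨pResOf p L, blk, ?_, hEM, ?_, ?_, hT G T M L s.syl.pgrp r ro⟩
  · exact IsSubnormal.step _ K hEK nK.isSubnormal ((normal_subgroupOf_iff_le_normalizer hEK).2 hN)
  · refine ((le_inf (inf_le_right.trans hEL) inf_le_left).trans r.nrm).trans (le_sup_of_le_right ?_)
    exact le_iSup (fun C : {C : Subgroup G // C ≤ Bm p T ∧ C ≠ ⊥ ∧
      (C.subgroupOf (Bm p T)).Characteristic} => 𝐍⟮(C : Subgroup G)⟯)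
      ⟨Bm p T, le_rfl, hB, by rw [subgroupOf_self]; exact topCharacteristic⟩
  · obtain ⟨Y, y1, -, y3, y4⟩ := ro.exY
    refine ⟨Y, y1, (commutator_mono r.vle le_rfl).trans (y4.trans
      ((commutator_comm _ _).le.trans
        (comm_le_left ((pCoreOf_le L).trans (le_normalizer_pResOf L))))), fun e he h => ?_⟩
    by_contra hM
    obtain ⟨a, ha, haT⟩ := SetLike.not_le_iff_exists.1 y3
    refine r.ab.ti (y1 ha) haT (inv_mem (hEL he)) (fun k => hM (by simpa using (mem_inf.1 k).2)) (mem_cj_inv.2 (mem_inf.2 ⟨?_, ?_⟩))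
    · exact L.mul_mem (L.mul_mem (hEL he) (r.ab.syl.le (y1 ha))) (L.inv_mem (hEL he))
    · exact h ⟨a, ha, rfl⟩

end Cfsg.Agent.Spc.Pu
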