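import Cfsg.Agent.Spc.PuTr
import Cfsg.Agent.S2986
import Cfsg.Agent.S2987

/-! From one block to the block structure. -/

namespace Cfsg.Agent.Spc.Pu

open Subgroup Cfsg.Agent.LocalEven Cfsg.Agent.PLocal Cfsg.Agent.Push Cfsg.Agent.BHS
open Cfsg.Agent.Glaub hiding cent_anti
open scoped commutatorElement MatrixGroups

universe u

variable {G : Type u} [Group G] {p : ℕ}

theorem mb_sep [Finite G] [Fact p.Prime] {V Y E : Subgroup G} [V.Normal] (hV : IsPGroup p V)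
    (hs : E.IsSubnormal) (hY : Y ≤ 𝐍⟮E⟯) (h : ⁅V, Y⁆ ≤ 𝐂⟮E⟯) :
    ⁅Y, E⁆ ≤ (pCore p (G ⧸ 𝐂⟮V⟯)).comap (QuotientGroup.mk' _) := by
  have nV : ∀ X : Subgroup G, X ≤ 𝐍⟮V⟯ := fun X => le_normalizer_of_normal
  have hKE : ⁅Y, E⁆ ≤ E := commutator_le_right_of_le_normalizer hY
  have nE : E ≤ 𝐍⟮V ⊓ 𝐂⟮E⟯⟯ := le_normalizer_inf (nV _) (le_normalizer_centralizer le_normalizer)
  have nY : Y ≤ 𝐍⟮V ⊓ 𝐂⟮E⟯⟯ := le_normalizer_inf (nV _) (le_normalizer_centralizer hY)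
  have h1 : Y ≤ centMod V (V ⊓ 𝐂⟮E⟯) := fun y hy => ⟨nY hy, fun v hv =>
    ⟨commutator_le_left_of_le_normalizer (nV Y) (commutator_mem_commutator hv hy),
      h (commutator_mem_commutator hv hy)⟩⟩
  have h2 : ⁅Y, E⁆ ≤ centMod V (V ⊓ 𝐂⟮E⟯) := by
    rw [commutator_le]
    intro y hy e he
    have k : e * y⁻¹ * e⁻¹ ∈ centMod V (V ⊓ 𝐂⟮E⟯) := by
      refine ⟨mul_mem (mul_mem (nE he) (inv_mem (nY hy))) (inv_mem (nE he)), fun v hv => ?_⟩
      have := conj_mem_of_mem_normalizer (nE he)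
        ((h1 (inv_mem hy)).2 _ (inv_conj_mem_of_mem_normalizer (nV E he) hv))
      convert this using 1
      simp only [commutatorElement_def]; group
    have := mul_mem (h1 hy) k
    convert this using 1
    simp only [commutatorElement_def]; group
  have h3 : ⁅⁅V, ⁅Y, E⁆⁆, ⁅Y, E⁆⁆ = ⊥ := by
    rw [commutator_eq_bot_iff_le_centralizer]
    refine le_trans ?_ (Push.cent_anti hKE)
    rw [commutator_le]
    exact fun v hv k hk => ((h2 hk).2 v hv).2
  have h4 := pResOf_le_centralizer_of_quadratic hV (nV _) h3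
  have h5 : (⁅Y, E⁆ : Subgroup G).IsSubnormal := by
    refine IsSubnormal.trans hKE (Normal.isSubnormal ?_) hs
    exact normal_subgroupOf_of_le_normalizer
      (normalizer_commutator_ge_right Y E)
  rw [← map_le_iff_le_comap]
  refine LocalEven.le_pCore_of_isSubnormal (h5.map (QuotientGroup.mk'_surjective _))
    (isPGroup_of_pResOf_eq_bot ?_)
  rw [← map_pResOf, Subgroup.map_eq_bot_iff, QuotientGroup.ker_mk']
  exact h4

theorem mb_inf [Finite G] {M : Subgroup G} {𝓑 : Set (Subgroup G)}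
    (hc : ∀ E ∈ 𝓑, ∀ E' ∈ 𝓑, E ≠ E' → ⁅E, E'⁆ = ⊥)
    (h : ∀ E ∈ 𝓑, ∀ e ∈ E, ∀ c ∈ sSup (𝓑 \ {E}), e * c ∈ M → e ∈ M) :
    M ⊓ sSup 𝓑 ≤ ⨆ E ∈ 𝓑, (M ⊓ E) := by
  have key : ∀ 𝓐 : Set (Subgroup G), 𝓐.Finite → 𝓐 ⊆ 𝓑 → M ⊓ sSup 𝓐 ≤ ⨆ E ∈ 𝓑, (M ⊓ E) := by
    intro 𝓐 hf
    induction 𝓐, hf using Set.Finite.induction_on with
    | empty => simp
    | @insert E 𝓐 hE _ ih =>
      intro hs x ⟨hx, hx'⟩
      have hEB : E ∈ 𝓑 := hs (Set.mem_insert _ _)
      have hA : 𝓐 ⊆ 𝓑 \ {E} := fun F hF => ⟨hs (Set.mem_insert_of_mem _ hF), fun k => hE (k ▸ hF)⟩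
      have n : E ≤ 𝐍⟮sSup 𝓐⟯ := by
        refine le_trans ?_ (centralizer_le_normalizer _)
        rw [le_centralizer_iff]
        exact sSup_le fun F hF => commutator_eq_bot_iff_le_centralizer.1
          (hc F (hA hF).1 E hEB (hA hF).2)
      rw [sSup_insert] at hx'
      obtain ⟨e, he, c, hc', rfl⟩ := (mem_sup_iff_of_le_normalizer n).1 hx'
      have k := h E hEB e he c (sSup_le_sSup hA hc') hx
      refine mul_mem (le_iSup₂ (f := fun E (_ : E ∈ 𝓑) => M ⊓ E) E hEB ⟨k, he⟩)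
        (ih (fun F hF => (hA hF).1) ⟨?_, hc'⟩)
      simpa using mul_mem (inv_mem k) hx
  exact key 𝓑 (Set.toFinite _) le_rfl

theorem mb_le {T : Subgroup G} : T ≤ cStarOf p T :=
  (le_centralizer_omegaOneCenter T).trans le_sup_left

theorem gb_cj {T M E : Subgroup G} (hM : T ≤ M) {t : G} (ht : t ∈ T) (h : GB p T M E) :
    GB p T M (cj t E) := by
  have e1 := cj_eq_of_mem ht
  have e2 := cj_eq_of_mem (hM ht)
  have e3 := cj_eq_of_mem (hM (inv_mem ht))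
  haveI : (OZ p (pCore p G)).Normal := normalizer_eq_top_iff.1 (top_le_iff.1
    (le_normalizer_of_normal.trans (normalizer_le_normalizer_omegaOneCenter (pCore p G))))
  refine ⟨by simpa only [e1] using blk_cj t h.blk, isSubnormal_cj t h.sub,
    fun k => h.nle (by rwa [cj_le_iff, e3] at k), ?_, ?_, by simpa only [e1, e2] using typ_cj t h.typ⟩
  · rw [← e2, ← cj_inf]
    exact cj_le_of_mem (mb_le ht) h.star
  · obtain ⟨Y, h1, h2, h3⟩ := h.sep
    refine ⟨cj t Y, by rw [← e1, ← cj_bm]; exact cj_mono _ h1, ?_, fun e he k => ?_⟩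
    · rw [← cj_eq_of_normal t (OZ p (pCore p G)), ← cj_commutator]; exact cj_mono _ h2
    · obtain ⟨e, he', rfl⟩ := mem_cj'.1 he
      rw [cj_cj, inv_mul_cancel_right, cj_mul, cj_le_iff, e3] at k
      exact mul_mem (mul_mem (hM ht) (h3 e he' k)) (inv_mem (hM ht))

theorem mainb [Fact p.Prime]
    (h : ∀ (G : Type u) [Group G] [Finite G] (T M : Subgroup G), Set0 p T M → ∃ E, GB p T M E)
    {G : Type u} [Group G] [Finite G] (hmin : Cfsg.IsPMinimal p G) (hG : Subgroup.centralizer (Cfsg.pCore p G : Set G) ≤ Cfsg.pCore p G) (T : Sylow p G) (hchar : ∀ C : Subgroup G, C ≤ Cfsg.baumannSubgroupOf p (T : Subgroup G) → C ≠ ⊥ → (C.subgroupOf (Cfsg.baumannSubgroupOf p (T : Subgroup G))).Characteristic → ¬ C.Normal) (hz : ¬ (Cfsg.omegaOneCenter p (T : Subgroup G)).Normal) : ∃ 𝓑 : Set (Subgroup G), Cfsg.HasBaumannBlockStructure p (T : Subgroup G) 𝓑 ∧ (∀ E ∈ 𝓑, ∀ m : ℕ, Nonempty (↥E ⧸ Cfsg.pCore p ↥E ≃* ↥(alternatingGroup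 (Fin (2 * m + 1)))) → ∃ n : ℕ, 2 * m + 1 = 2 ^ n + 1) ∧ Cfsg.cStarOf p (T : Subgroup G) = (Cfsg.cStarOf p (T : Subgroup G) ⊓ sSup 𝓑) ⊔ (T : Subgroup G) := by
  have hT := LocalEven.isSylowIn_top T
  obtain ⟨M, hM'⟩ := (hmin T).2.exists
  have hM : MinIn (T : Subgroup G) ⊤ M := minIn_top.2 (IsPMinimal.minOv' hmin hT hM'.1 hM'.2)
  have nB : (T : Subgroup G) ≤ 𝐍⟮Bm p (T : Subgroup G)⟯ := fun t ht =>
    cj_eq_self_iff.1 (by rw [cj_bm, cj_eq_of_mem ht])
  have nc : Gn.NC (Bm p (T : Subgroup G)) M := fun W h1 h2 => by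
    refine hM.le_of_lt _ (nB.trans (normalizer_le_normalizer_map_subtype W)) (lt_top_iff_ne_top.2 fun k => ?_)
    refine hchar _ (map_subtype_le W) (fun k => h1 ?_) (by rwa [map_subtype_subgroupOf])
      (normalizer_eq_top_iff.1 k)
    exact (map_eq_bot_iff_of_injective _ (subtype_injective _)).1 k
  have z : 𝐂⟮OZ p (T : Subgroup G)⟯ ≤ M := by
    refine hM.le_of_lt _ (le_centralizer_omegaOneCenter _) (lt_top_iff_ne_top.2 fun k => hz ?_)
    exact normalizer_eq_top_iff.1 (top_le_iff.1 (k.ge.trans (centralizer_le_normalizer _)))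
  have cM : cStarOf p (T : Subgroup G) ≤ M := by
    refine sup_le z (iSup_le fun ⟨C, c1, c2, c3⟩ => ?_)
    have := nc (C.subgroupOf _) (fun k => c2 (by
      rw [← map_subgroupOf_eq_of_le c1, k, Subgroup.map_bot])) c3
    rwa [map_subgroupOf_eq_of_le c1] at this
  obtain ⟨E, hE⟩ := h G T M ⟨hT, hM, hG, nc, z⟩
  let 𝓑 : Set (Subgroup G) := {E' | ∃ g, cj g E = E'}
  have b2 : ∀ E ∈ 𝓑, ∀ g : G, cj g E ∈ 𝓑 := by
    rintro _ ⟨a, rfl⟩ g; exact ⟨g * a, cj_mul _ _ _⟩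
  have b0 : ∀ E' ∈ 𝓑, (∃ S : Sylow p G, IsBaumannBlock p (S : Subgroup G) E') ∧ E'.IsSubnormal := by
    rintro _ ⟨a, rfl⟩
    exact ⟨⟨a • T, by rw [sylow_smul_coe]; exact blk_cj a hE.blk⟩, isSubnormal_cj a hE.sub⟩
  have b3 : ∀ E ∈ 𝓑, ∀ E' ∈ 𝓑, E ≠ E' → ⁅E, E'⁆ = ⊥ := fun A hA B hB k =>
    (S2986.result hG A B (b0 A hA).1 (b0 B hB).1 (b0 A hA).2 (b0 B hB).2).resolve_left k
  have hEB : E ∈ 𝓑 := ⟨1, cj_one E⟩
  haveI nD : (sSup 𝓑).Normal := normal_of_cj_le fun g => by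
    rw [cj_le_iff]
    exact sSup_le fun A hA => by rw [← cj_le_iff]; exact le_sSup (b2 A hA g)
  have nT : (T : Subgroup G) ≤ 𝐍⟮sSup 𝓑⟯ := le_normalizer_of_normal
  have top : (T : Subgroup G) ⊔ sSup 𝓑 = ⊤ := by
    by_contra k
    exact hE.nle ((le_sSup hEB).trans (le_sup_right.trans
      (hM.le_of_lt _ le_sup_left (lt_top_iff_ne_top.2 k))))
  have dE : sSup 𝓑 ≤ 𝐍⟮E⟯ := sSup_le fun A hA => by
    by_cases k : A = E
    · rw [k]; exact le_normalizer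
    · exact (commutator_eq_bot_iff_le_centralizer.1 (b3 A hA E hEB k)).trans (centralizer_le_normalizer _)
  have gb : ∀ A ∈ 𝓑, GB p (T : Subgroup G) M A := by
    rintro _ ⟨g, rfl⟩
    obtain ⟨t, ht, d, hd, rfl⟩ := (mem_sup_iff_of_le_normalizer nT).1 (top.ge (mem_top g))
    rw [cj_mul, cj_eq_of_mem_normalizer (dE hd)]
    exact gb_cj hM.le ht hE
  have eM : ∀ A ∈ 𝓑, M ⊓ A = cStarOf p (T : Subgroup G) ⊓ A := fun A hA =>
    le_antisymm (le_inf (gb A hA).star inf_le_right) (inf_le_inf_right _ cM)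
  haveI nV : (OZ p (pCore p G)).Normal := normalizer_eq_top_iff.1 (top_le_iff.1
    (le_normalizer_of_normal.trans (normalizer_le_normalizer_omegaOneCenter (pCore p G))))
  let N := (pCore p (G ⧸ 𝐂⟮OZ p (pCore p G)⟯)).comap (QuotientGroup.mk' _)
  have NM : N ≤ M := by
    have k := LocalEven.normal_le_sylow inferInstance (isPGroup_pCore (p := p) (G := G ⧸ 𝐂⟮OZ p (pCore p G)⟯))
      (T.mapSurjective (QuotientGroup.mk'_surjective _))
    refine (comap_mono k).trans ?_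
    rw [Sylow.coe_mapSurjective, comap_map_eq, QuotientGroup.ker_mk']
    exact sup_le hM.le ((Push.cent_anti (oz_le_oz_core hG hT)).trans z)
  have hV : IsPGroup p (OZ p (pCore p G)) := isPGroup_pCore.to_le (omegaOneCenter_le _)
  have b6 := mb_inf (M := M) b3 fun A hA e he c hc k => by
    obtain ⟨Y, y1, y2, y3⟩ := (gb A hA).sep
    have c1 : sSup (𝓑 \ {A}) ≤ centMod Y N := sSup_le fun B hB b hb => ⟨le_normalizer_of_normal (mem_top b), fun y hy => by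
      refine mb_sep hV (b0 B hB.1).2 (y1.trans ((le_iSup (fun S : Sylow p G => baumannSubgroupOf p (S : Subgroup G)) T).trans
        (S2987.result hG B (b0 B hB.1).1 (b0 B hB.1).2).2.1)) (y2.trans ?_) (commutator_mem_commutator hy hb)
      exact commutator_eq_bot_iff_le_centralizer.1 (b3 A hA B hB.1 fun k => hB.2 k.symm)⟩
    refine y3 e he (cj_le_iff'.2 fun y hy => ?_)
    have k1 := NM (Normal.conj_mem inferInstance _ ((c1 hc).2 y hy) e)
    have k2 : e * c * y * (e * c)⁻¹ ∈ M := mul_mem (mul_mem k (hM.le (bm_le _ (y1 hy)))) (inv_mem k)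
    convert mul_mem k1 k2 using 1
    simp only [commutatorElement_def]; group
  refine ⟨𝓑, ⟨fun A hA => (gb A hA).blk, b2, b3, top_le_iff.1 (top.ge.trans (sup_le_sup_right mb_le _)),
    fun F hF k => ?_, le_antisymm ?_ (iSup₂_le fun A hA => inf_le_inf_left _ (le_sSup hA)), fun A hA => ?_⟩,
    fun A hA => (gb A hA).typ.2, ?_⟩
  · by_contra k2
    have f1 : sSup 𝓑 ≤ 𝐂⟮F⟯ := sSup_le fun A hA => by
      rw [← commutator_eq_bot_iff_le_centralizer, commutator_comm]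
      exact ((S2987.result hG A (b0 A hA).1 (b0 A hA).2).2.2.2 F ⟨T, hF⟩).resolve_left fun k => k2 ⟨A, hA, k⟩
    have f0 : pResOf p F = F := hF.1
    have f2 : F ≤ sSup 𝓑 := f0.ge.trans ((pResOf_mono (le_top.trans (top.ge.trans (sup_comm _ _).le))).trans
      (pResOf_sup_le T.isPGroup' nT))
    have f3 : ⁅⁅pCore p G, F⁆, F⁆ = ⊥ := commutator_eq_bot_iff_le_centralizer.2
      (((commutator_mono le_rfl f2).trans (commutator_le_right _ _)).trans f1)
    refine k (f0.ge.trans ((pResOf_le_centralizer_of_quadratic isPGroup_pCore le_normalizer_of_normal f3).trans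
      (hG.trans ((LocalEven.normal_le_sylow inferInstance isPGroup_pCore T).trans mb_le))))
  · exact (inf_le_inf_right _ cM).trans (b6.trans (iSup₂_mono fun A hA => (eM A hA).le))
  · rw [← eM A hA]; exact (gb A hA).typ.1
  · rw [sup_comm, inf_comm, ← inf_sup_of_le_normalizer nT mb_le, top, top_inf_eq]

end Cfsg.Agent.Spc.Pu
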