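import Cfsg.Agent.Spc.GnDef

/-! The rank one case of the Glauberman-Niles theorem: the Baumann reduction. -/

namespace Cfsg.Agent.Spc.Gn

open Subgroup Cfsg.Agent.LocalEven Cfsg.Agent.Glaub Cfsg.Agent.PLocal Cfsg.Agent.Push
open scoped commutatorElement

universe u

variable {p : ℕ}

theorem p2_char_map {A B : Type*} [Group A] [Group B] (e : A ≃* B) {W : Subgroup A} (h : W.Characteristic) :
    (W.map e.toMonoidHom).Characteristic := characteristic_iff_map_le.2 fun φ => by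
  rintro _ ⟨_, ⟨w, hw, rfl⟩, rfl⟩
  refine ⟨e.symm (φ (e w)), characteristic_iff_map_le.1 h ((e.trans φ).trans e.symm) ⟨w, hw, rfl⟩, ?_⟩
  simp

theorem p2_top {G : Type u} [Group G] (L : Subgroup G) : (⊤ : Subgroup L).map L.subtype = L := by
  rw [← MonoidHom.range_eq_map, range_subtype]

theorem p2_sub [Fact p.Prime] {G : Type u} [Group G] [Finite G] {S L M T : Subgroup G} (h : AB p S L M T) :
    AB p (S.subgroupOf L) ⊤ (M.subgroupOf L) (T.subgroupOf L) := by
  refine ⟨isSylowIn_subgroupOf_top h.syl, (minIn_map_iff L.subtype L.subtype_injective).1 ?_, ?_, ?_⟩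
  · rw [p2_top, map_subgroupOf_eq_of_le h.syl.le, map_subgroupOf_eq_of_le h.min.lt.le]
    exact h.min
  · rw [pCoreOf_top, ← h.core, pCoreOf_subgroupOf]
  · rw [← map_le_map_iff_of_injective L.subtype_injective, map_commutator, map_subgroupOf_eq_of_le h.syl.le,
      map_subgroupOf_eq_of_le h.TL]
    exact h.ab

theorem p2_nd {G : Type u} [Group G] {B L M : Subgroup G} (hBL : B ≤ L) (nc : NC B M) (hL : ¬ L ≤ M) :
    ND (B.subgroupOf L) := fun W h1 h2 h3 => by
  have e : (W.map (subgroupOfEquivOfLe hBL).toMonoidHom).map B.subtype =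
      (W.map (B.subgroupOf L).subtype).map L.subtype := by
    rw [map_map, map_map]; rfl
  have h4 := nc _ (fun h => h1 ((map_eq_bot_iff_of_injective _ (subgroupOfEquivOfLe hBL).injective).1 h))
    (p2_char_map _ h2)
  rw [e] at h4
  refine hL (le_trans ?_ h4)
  have := le_normalizer_map (H := W.map (B.subgroupOf L).subtype) L.subtype
  rwa [normalizer_eq_top_iff.2 h3, p2_top] at this

theorem p2_minIn [Fact p.Prime] {G : Type u} [Group G] [Finite G] {T H N : Subgroup G} (hT : IsSylowIn p T H)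
    (hN : H ⊓ 𝐍⟮T⟯ ≤ N) (h : ¬ H ≤ N) : ∃ P ≤ H, T ≤ P ∧ ¬ P ≤ N ∧ MinIn T P (P ⊓ N) := by
  obtain ⟨P, ⟨h1, h2, h3⟩, hmin⟩ := exists_minimal_of_wellFoundedLT
    (fun P => P ≤ H ∧ T ≤ P ∧ ¬ P ≤ N) ⟨H, le_rfl, hT.le, h⟩
  refine ⟨P, h1, h2, h3, minIn_of_sylow (hT.mono h2 h1) (fun e => h3 ((le_inf h1 e).trans hN))
    (le_inf h2 ((le_inf hT.le le_normalizer).trans hN)) (inf_lt_left.2 h3) fun X a b =>
      le_inf b.le (by_contra fun e => b.not_ge (hmin ⟨b.le.trans h1, a, e⟩ b.le))⟩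

theorem ph2 [Fact p.Prime] (h3 : Ph3.{u} p) : Ph2.{u} p := by
  intro G _ _ S H M Q hQ hC hQS h hZ nc
  have hSH := h.syl.le
  have pQ : IsPGroup p Q := h.syl.pgrp.to_le hQS
  have nQ : ∀ {X : Subgroup G}, X ≤ 𝐍⟮Q⟯ := fun {_} => le_normalizer_of_normal
  have hQT : Q ≤ pCoreOf p H := le_pCoreOf (hQS.trans hSH) nQ pQ
  have hsyl := ((p2_sub h).sylow_closure (by
    rw [centralizer_subgroupOf h.TL]
    exact subgroupOf_mono _ ((Push.cent_anti hQT).trans (hC.trans hQT))) (fun e => hZ (by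
      have := map_mono (f := H.subtype) e
      rw [map_inf_cent' H.subtype_injective, map_subgroupOf_eq_of_le hSH] at this
      refine this.trans ?_
      rintro _ ⟨x, hx, rfl⟩ y hy
      exact congrArg Subtype.val (hx ⟨y, hy⟩ (mem_top _))))).map H.subtype
  rw [map_cjClos, map_inf_cent' H.subtype_injective, Push.map_zj H.subtype_injective,
    map_subgroupOf_eq_of_le hSH, p2_top] at hsyl
  set B := S ⊓ 𝐂⟮centerThompsonAOf S⟯ with hB
  have hBS : B ≤ S := inf_le_left
  set N := cjClos B H with hN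
  have hNH : N ≤ H := cjClos_le_self (hBS.trans hSH)
  have nN : H ≤ 𝐍⟮N⟯ := le_normalizer_cjClos _ _
  have hB0 : B ≠ ⊥ := fun e => hZ (((inf_le_inf_left S (Push.cent_anti (zj_le_self S))).trans e.le).trans bot_le)
  have nB : 𝐍⟮B⟯ ≤ M := by
    have : Nontrivial B := (nontrivial_iff_ne_bot B).2 hB0
    have := nc ⊤ top_ne_bot topCharacteristic
    rwa [p2_top] at this
  have hNM : ¬ N ≤ M := fun e => by
    have h1 := minIn_le_pCoreOf h.min h.syl.pgrp nN (le_inf hNH e) hsyl.pgrp hsyl.le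
    have h2 := hsyl.eq_of_isPGroup (isPGroup_of_le_pCoreOf (cjClos_le h1 (le_normalizer_pCoreOf H)))
    exact h.min.lt.not_ge (le_inf le_rfl ((h2 ▸ nN : H ≤ 𝐍⟮B⟯).trans nB))
  obtain ⟨L, hLN, hBL, hLM, hmin⟩ := p2_minIn hsyl (inf_le_right.trans nB) hNM
  have hLH := hLN.trans hNH
  have hab : AB p B L (L ⊓ M) (pCoreOf p L) := ⟨hsyl.mono hBL hLN, hmin, rfl,
    (le_inf ((commutator_mono hBS hBS).trans h.ab) ((comm_le_left le_normalizer).trans hBL)).trans
      (pCoreOf_inf_le hLH)⟩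
  have nQN : H ≤ 𝐍⟮Q ⊓ N⟯ := le_normalizer_inf nQ nN
  have pQN : IsPGroup p (Q ⊓ N : Subgroup G) := pQ.to_le inf_le_left
  have hQN : Q ⊓ N ≤ pCoreOf p L := le_pCoreOf
    ((hsyl.le_of_le_normalizer inf_le_right pQN ((hBS.trans hSH).trans nQN)).trans hBL) (hLH.trans nQN) pQN
  have cQ : ∀ {X : Subgroup G}, X ≤ N → ⁅Q, X⁆ ≤ Q ⊓ N := fun hX => le_inf (comm_le_left nQ) (by
    rw [Subgroup.commutator_comm]
    exact (commutator_mono hX le_rfl).trans (comm_le_left ((hQS.trans hSH).trans nN)))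
  have hCR : L ⊓ 𝐂⟮pCoreOf p L⟯ ≤ pCoreOf p L := le_pCoreOf inf_le_left
    (le_normalizer_inf le_normalizer (le_normalizer_centralizer (le_normalizer_pCoreOf L)))
    (isPGroup_of_pResOf_le pQ ((pResOf_le_centralizer_of_section pQN
      ((pResOf_le _).trans (inf_le_right.trans (Push.cent_anti hQN)))
      (cQ ((pResOf_le _).trans (inf_le_left.trans hLN)))).trans hC))
  have hEL : pResOf p L ≤ L := pResOf_le L
  have hUR : ⁅Q, pResOf p L⁆ ≤ pCoreOf p L := (cQ (hEL.trans hLN)).trans hQN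
  have hUL := hUR.trans (pCoreOf_le L)
  have hUU : ⁅Q, pResOf p L⁆ ≤ ⁅⁅Q, pResOf p L⁆, pResOf p L⁆ := comm_res_res pQ nQ
  have key := h3 L (B.subgroupOf L) ((L ⊓ M).subgroupOf L) ((pCoreOf p L).subgroupOf L)
    ((⁅Q, pResOf p L⁆ : Subgroup G).subgroupOf L) (p2_sub hab) (by
      rw [centralizer_subgroupOf (pCoreOf_le L)]
      exact fun x hx => hCR ⟨x.2, hx⟩) (p2_nd hBL nc hLM)
    ((normal_subgroupOf_iff_le_normalizer hUL).2 (le_normalizer_commutator nQ (le_normalizer_pResOf L))) (by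
      rw [← map_le_map_iff_of_injective L.subtype_injective, map_commutator, map_subgroupOf_eq_of_le hUL,
        map_subgroupOf_eq_of_le (pCoreOf_le L), map_pResOf_of_injective _ L.subtype_injective, p2_top]
      exact hUU.trans (commutator_mono hUR le_rfl))
  rw [← map_le_map_iff_of_injective L.subtype_injective, map_commutator, map_commutator,
    map_subgroupOf_eq_of_le hUL, p2_top, map_subgroupOf_eq_of_le inf_le_left] at key
  exact ⟨pResOf p L, fun e => hab.res_not_le (le_inf hEL e), hUU.trans ((commutator_mono le_rfl hEL).trans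
    (key.trans (commutator_mono (comm_le_left nQ) inf_le_right)))⟩

end Cfsg.Agent.Spc.Gn
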