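import Cfsg.Agent.Spc.PuDef
import Cfsg.Agent.Spc.GnP2

/-! The rank one analysis inside an ambient group. -/

namespace Cfsg.Agent.Spc.Pu

open Subgroup Cfsg.Agent.LocalEven Cfsg.Agent.PLocal Cfsg.Agent.Push Cfsg.Agent.BHS
open Cfsg.Agent.Glaub hiding cent_anti
open scoped commutatorElement MatrixGroups

universe u

section
variable {G G' : Type u} [Group G] [Group G'] {f : G →* G'} {p : ℕ}

theorem rb_sl2 (hf : Function.Injective f) {F : Type} [Field F] {R : Subgroup SL(2, F)}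
    {E U U₀ : Subgroup G} (h : ActsAsSL2OnSection F R E U U₀) :
    ActsAsSL2OnSection F R (E.map f) (U.map f) (U₀.map f) := by
  obtain ⟨h1, h2, ρ, ψ, h3, h4, h5, h6⟩ := h
  let eE := E.equivMapOfInjective f hf
  let eU := U.equivMapOfInjective f hf
  refine ⟨(map_le_norm hf).2 h1, map_mono h2, ρ.comp eE.symm.toMonoidHom, ψ.comp eU.symm.toMonoidHom,
    ?_, h4.comp eU.symm.surjective, fun u => ?_, fun e u => ?_⟩
  · rw [MonoidHom.range_comp, MonoidHom.range_eq_top.2 eE.symm.surjective, ← MonoidHom.range_eq_map, h3]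
  · obtain ⟨u, rfl⟩ := eU.surjective u
    refine Iff.trans ?_ ((h5 u).trans (mem_map_iff_mem hf).symm)
    simp
  · obtain ⟨u, rfl⟩ := eU.surjective u
    obtain ⟨e, rfl⟩ := eE.surjective e
    obtain ⟨w, hw, hw'⟩ := h6 e u
    refine ⟨eU w, ?_, by simpa using hw'⟩
    show f w = f e * f u * (f e)⁻¹
    rw [hw, map_mul, map_mul, map_inv]

theorem rb_perm (hf : Function.Injective f) {n : ℕ} {R : Subgroup (Equiv.Perm (Fin n))}
    {E U U₀ : Subgroup G} (h : ActsAsOddPermModuleOnSection n R E U U₀) :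
    ActsAsOddPermModuleOnSection n R (E.map f) (U.map f) (U₀.map f) := by
  obtain ⟨h1, h2, ρ, ψ, h3, h4, h4', h5, h6⟩ := h
  let eE := E.equivMapOfInjective f hf
  let eU := U.equivMapOfInjective f hf
  refine ⟨(map_le_norm hf).2 h1, map_mono h2, ρ.comp eE.symm.toMonoidHom, ψ.comp eU.symm.toMonoidHom,
    ?_, fun u => h4 _, fun v hv => ?_, fun u => ?_, fun e u => ?_⟩
  · rw [MonoidHom.range_comp, MonoidHom.range_eq_top.2 eE.symm.surjective, ← MonoidHom.range_eq_map, h3]
  · obtain ⟨u, hu⟩ := h4' v hv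
    exact ⟨eU u, by simpa using hu⟩
  · obtain ⟨u, rfl⟩ := eU.surjective u
    refine Iff.trans ?_ ((h5 u).trans (mem_map_iff_mem hf).symm)
    simp
  · obtain ⟨u, rfl⟩ := eU.surjective u
    obtain ⟨e, rfl⟩ := eE.surjective e
    obtain ⟨w, hw, hw'⟩ := h6 e u
    refine ⟨eU w, ?_, by simpa using hw'⟩
    show f w = f e * f u * (f e)⁻¹
    rw [hw, map_mul, map_mul, map_inv]

theorem rb_quot (hf : Function.Injective f) (E : Subgroup G) {A : Type*} [Group A]
    (h : Nonempty (↥E ⧸ pCore p ↥E ≃* A)) : Nonempty (↥(E.map f) ⧸ pCore p ↥(E.map f) ≃* A) :=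
  ⟨(QuotientGroup.congr _ _ (E.equivMapOfInjective f hf)
    (map_pCore_equiv (E.equivMapOfInjective f hf))).symm.trans h.some⟩

theorem rb_kind (hf : Function.Injective f) {B E : Subgroup G} (h : Kind p B E) :
    Kind p (B.map f) (E.map f) := by
  have eQ : pCoreOf p (E.map f) = (pCoreOf p E).map f := (map_pCoreOf_of_injective f hf E).symm
  have eW : OZ p ((pCoreOf p E).map f) = (OZ p (pCoreOf p E)).map f :=
    (map_omegaOneCenter_of_injective f hf _).symm
  have eZ : (OZ p (pCoreOf p E)).map f ⊓ 𝐂⟮E.map f⟯ = (OZ p (pCoreOf p E) ⊓ 𝐂⟮E⟯).map f :=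
    (map_inf_cent' hf _ _).symm
  have eE : E.map f ⊓ 𝐂⟮E.map f⟯ = (E ⊓ 𝐂⟮E⟯).map f := (map_inf_cent' hf _ _).symm
  have eP : (frattini ↥((pCoreOf p E).map f)).map ((pCoreOf p E).map f).subtype =
      ((frattini ↥(pCoreOf p E)).map (pCoreOf p E).subtype).map f := map_phi' hf _
  unfold Kind
  rw [eQ, eW, eZ, eE, eP]
  rcases h with ⟨F, i1, i2, n, a1, a2, a3, a4⟩ | ⟨a0, m, a1, a2, a3⟩
  · refine Or.inl ⟨F, i1, i2, n, a1, rb_quot hf E a2, rb_sl2 hf a3, a4.imp (fun e => by rw [← e]) ?_⟩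
    rintro ⟨b1, b2, b3, b4, b5, b6, b7⟩
    refine ⟨b1, rb_sl2 hf b2, by rw [← map_commutator, b3], by rw [b4], by rw [b5],
      by rw [card_map_of_injective hf, b6], ?_⟩
    rintro _ ⟨b, hb, rfl⟩ h1 h2
    rw [← MonoidHom.map_zpowers, ← map_commutator, ← map_commutator,
      map_le_map_iff_of_injective hf] at h2
    exact b7 b hb (mt (BHS.map_mem_cent hf).2 h1) h2
  · exact Or.inr ⟨a0, m, rb_quot hf E a1, rb_perm hf a2, by rw [← a3]⟩

theorem rb_bd (hf : Function.Injective f) {B E : Subgroup G} (h : BD p B E) :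
    BD p (B.map f) (E.map f) :=
  ⟨by rw [← map_pResOf_of_injective f hf, h.1], by rw [← map_commutator, h.2.1],
    by rw [← map_pCoreOf_of_injective f hf, ← map_commutator, h.2.2.1], rb_kind hf h.2.2.2⟩

end

theorem rb_of {p : ℕ} [Fact p.Prime] (ha : PA.{u} p) (hb : PB.{u} p) (hc1 : PC1.{u} p)
    (hc2 : PC2.{u} p) : RB.{u} p := by
  intro G _ _ S L M T h hC hnd
  have i := L.subtype_injective
  have hSL : S ≤ L := h.syl.le
  have nd : ND (S.subgroupOf L) := fun W h1 h2 h3 => by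
    have e : (W.map (subgroupOfEquivOfLe hSL).toMonoidHom).map S.subtype =
        (W.map (S.subgroupOf L).subtype).map L.subtype := by
      rw [map_map, map_map]; rfl
    refine hnd _ (fun h => h1 ((map_eq_bot_iff_of_injective _ (subgroupOfEquivOfLe hSL).injective).1 h))
      (Gn.p2_char_map _ h2) ?_
    rw [e]
    have := le_normalizer_map (H := W.map (S.subgroupOf L).subtype) L.subtype
    rwa [normalizer_eq_top_iff.2 h3, Gn.p2_top] at this
  have x := ha L _ _ _ (Gn.p2_sub h) (by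
    rw [centralizer_subgroupOf h.TL]
    exact fun x hx => hC ⟨x.2, hx⟩) nd
  have b := hb L _ _ _ x
  have eS := map_subgroupOf_eq_of_le hSL
  have eT := map_subgroupOf_eq_of_le h.TL
  have eR : (pResOf p (⊤ : Subgroup L)).map L.subtype = pResOf p L := by
    rw [map_pResOf_of_injective _ i, Gn.p2_top]
  have eC : (⁅T.subgroupOf L, pResOf p (⊤ : Subgroup L)⁆ : Subgroup L).map L.subtype =
      ⁅T, pResOf p L⁆ := by rw [map_commutator, eT, eR]
  have eO : (OZ p (T.subgroupOf L)).map L.subtype = OZ p T := by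
    rw [map_omegaOneCenter_of_injective _ i, eT]
  have bd := rb_bd i (x.case.elim (hc1 L _ _ _ x b) (hc2 L _ _ _ x b))
  rw [eS, eR] at bd
  refine ⟨bd, ?_, fun h2 => ?_, ?_, ?_⟩
  · rw [pCoreOf_eq_inf_of_le_normalizer (pResOf_le L) (le_normalizer_pResOf L), h.core, ← eC, ← b,
      map_inf _ _ _ i, eT, eR, inf_comm]
  · rw [← eC, ← eO]
    refine map_mono (x.case.resolve_right fun e => ?_)
    have := e.1
    omega
  · obtain ⟨Y, y1, y2, y3, y4⟩ := x.exY
    refine ⟨Y.map L.subtype, eS ▸ map_mono y1, elemAb_map y2 _, fun hY => ?_, ?_⟩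
    · have hY' : Y ≤ T.subgroupOf L := fun y hy => hY (mem_map_of_mem _ hy)
      rw [sup_eq_right.2 hY'] at y3
      exact x.pn.not_le y3.ge
    · rw [← eC]
      have := map_mono (f := L.subtype) y4
      rwa [map_commutator, eT] at this
  · obtain ⟨n, hn, e⟩ := x.pn.nat.pow
    obtain ⟨F, _, _, hF⟩ := exists_field_card (p := p) hn
    obtain ⟨σ, ψ, d, s, -⟩ := x.pn.nat.nat F (hF.trans e.symm)
    have := normal_of_top_le x.pn.nT
    obtain ⟨ρ, r1, r2, -⟩ := x.pn.quot x.ker d s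
    exact ⟨F, inferInstance, inferInstance, Push.charP_of_card hF, ρ,
      by rw [hF, ← e, x.pn.idxS, relIndex_subgroupOf hSL], r1, r2⟩

end Cfsg.Agent.Spc.Pu
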