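import Cfsg.Agent.Spc.PuDef
import Cfsg.Agent.BHS.Blk
import Cfsg.Agent.Classical.SLBasic

/-! The symmetric block: construction. -/

namespace Cfsg.Agent.Spc.Pu

open Subgroup Cfsg.Agent.LocalEven Cfsg.Agent.PLocal Cfsg.Agent.Push Cfsg.Agent.BHS
open Cfsg.Agent.Glaub hiding cent_anti
open scoped commutatorElement MatrixGroups

universe u

variable {G : Type u} [Group G]

theorem s1_alt {n : ℕ} (hn : 1 ≤ n) (N : Subgroup (Equiv.Perm (Fin (2 ^ n + 1))))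
    (h1 : N ≤ alternatingGroup _) (h2 : N ≠ ⊥)
    (h3 : ∀ g ∈ alternatingGroup (Fin (2 ^ n + 1)), ∀ x ∈ N, g * x * g⁻¹ ∈ N) :
    N = alternatingGroup _ := by
  haveI : IsSimpleGroup (alternatingGroup (Fin (2 ^ n + 1))) := by
    rcases Nat.eq_or_lt_of_le hn with rfl | h
    · haveI : Fact (Nat.Prime 3) := ⟨by norm_num⟩
      refine isSimpleGroup_of_prime_card (p := 3) ?_
      rw [nat_card_alternatingGroup]
      simp [Nat.factorial]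
    · refine alternatingGroup.isSimpleGroup ?_
      have : 2 ^ 2 ≤ 2 ^ n := Nat.pow_le_pow_right (by norm_num) h
      simp only [Nat.card_eq_fintype_card, Fintype.card_fin]
      omega
  have hN : (N.subgroupOf (alternatingGroup (Fin (2 ^ n + 1)))).Normal :=
    ⟨fun x hx g => h3 g g.2 x hx⟩
  rcases hN.eq_bot_or_eq_top with h | h
  · exfalso
    apply h2
    rw [subgroupOf_eq_bot] at h
    exact h.eq_bot_of_le h1
  · exact le_antisymm h1 (subgroupOf_eq_top.1 h)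

theorem s1_z {V E : Subgroup G} [hV : V.Normal] (hc : V ≤ 𝐂⟮V⟯) (h2 : ∀ v ∈ V, v ^ 2 = 1)
    {x : G} (hx : x ∈ E) (h3 : x ^ 3 ∈ 𝐂⟮V⟯) (hE : ∀ e ∈ E, ∃ i : ℕ, (x ^ i)⁻¹ * e ∈ 𝐂⟮V⟯)
    {w : G} (hw : w ∈ ⁅V, E⁆) (hwc : w ∈ 𝐂⟮E⟯) : w = 1 := by
  have cm : ∀ u ∈ V, ∀ v ∈ V, u * v = v * u := fun u hu v hv => hc hv u hu
  let W : Subgroup G :=
    { carrier := {w | ∃ v ∈ V, x * v * x⁻¹ * v⁻¹ = w}
      one_mem' := ⟨1, V.one_mem, by simp⟩
      mul_mem' := by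
        rintro _ _ ⟨u, hu, rfl⟩ ⟨v, hv, rfl⟩
        refine ⟨u * v, V.mul_mem hu hv, ?_⟩
        have := cm _ (V.inv_mem hu) _ (V.mul_mem (hV.conj_mem v hv x) (V.inv_mem hv))
        calc x * (u * v) * x⁻¹ * (u * v)⁻¹ = x * u * x⁻¹ * ((x * v * x⁻¹ * v⁻¹) * u⁻¹) := by group
          _ = _ := by rw [← this]; group
      inv_mem' := by
        rintro _ ⟨u, hu, rfl⟩
        refine ⟨u⁻¹, V.inv_mem hu, ?_⟩
        have := cm _ hu _ (hV.conj_mem _ (V.inv_mem hu) x)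
        calc x * u⁻¹ * x⁻¹ * u⁻¹⁻¹ = x * u⁻¹ * x⁻¹ * u := by group
          _ = _ := by rw [← this]; group }
  have k1 : ∀ e f : G, (∀ v ∈ V, e * v * e⁻¹ * v⁻¹ ∈ W) → (∀ v ∈ V, f * v * f⁻¹ * v⁻¹ ∈ W) →
      ∀ v ∈ V, (e * f) * v * (e * f)⁻¹ * v⁻¹ ∈ W := by
    intro e f he hf v hv
    have := W.mul_mem (he _ (hV.conj_mem v hv f)) (hf v hv)
    convert this using 1
    group
  have k2 : ∀ i : ℕ, ∀ v ∈ V, x ^ i * v * (x ^ i)⁻¹ * v⁻¹ ∈ W := by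
    intro i
    induction i with
    | zero => intro v _; simpa using W.one_mem
    | succ i ih => rw [pow_succ]; exact k1 _ _ ih fun v hv => ⟨v, hv, rfl⟩
  have k3 : ⁅V, E⁆ ≤ W := by
    rw [commutator_comm, commutator_le]
    intro e he v hv
    obtain ⟨i, hi⟩ := hE e he
    have := k1 _ _ (k2 i) (fun v hv => by
      rw [← hi v hv, mul_inv_cancel_right, mul_inv_cancel]; exact W.one_mem) v hv
    rwa [mul_inv_cancel_left] at this
  obtain ⟨v, hv, e⟩ := k3 hw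
  have hwV : w ∈ V := e ▸ V.mul_mem (hV.conj_mem v hv x) (V.inv_mem hv)
  have e1 : x * v * x⁻¹ = w * v := by rw [← e]; group
  have e2 : x * w * x⁻¹ = w := by rw [hwc x hx]; group
  have e3 : x ^ 3 * v * (x ^ 3)⁻¹ = v := by rw [← h3 v hv]; group
  have e4 : x ^ 3 * v * (x ^ 3)⁻¹ = w * (w * (w * v)) := by
    have f : ∀ u : G, x * (w * u) * x⁻¹ = w * (x * u * x⁻¹) := fun u => by
      conv_rhs => rw [← e2]
      simp only [mul_assoc, inv_mul_cancel_left]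
    calc x ^ 3 * v * (x ^ 3)⁻¹ = x * (x * (x * v * x⁻¹) * x⁻¹) * x⁻¹ := by
          simp only [pow_succ, pow_zero, one_mul, mul_inv_rev, mul_assoc]
      _ = _ := by rw [e1, f, e1, f, f, e1]
  have e5 := h2 w hwV
  rw [e3, ← mul_assoc, ← pow_two, e5, one_mul] at e4
  exact (mul_eq_right.1 e4.symm)

theorem s1_cent {V W E : Subgroup G} [hV : V.Normal] (hc : V ≤ 𝐂⟮V⟯) (hW : ⁅V, E⁆ = W) {g : G}
    (h1 : g ∈ 𝐂⟮W⟯) (h2 : ∀ e ∈ E, ⁅e, g⁆ ∈ 𝐂⟮V⟯) {v : G} (hv : v ∈ V) : ⁅v, g⁆ ∈ 𝐂⟮E⟯ := by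
  intro e he
  have hu : e * v * e⁻¹ * v⁻¹ ∈ W := by
    rw [← hW, commutator_comm]; exact commutator_mem_commutator he hv
  have huV : e * v * e⁻¹ * v⁻¹ ∈ V := V.mul_mem (hV.conj_mem v hv e) (V.inv_mem hv)
  have hd : ⁅v, g⁆ ∈ V := by
    have := V.mul_mem hv (hV.conj_mem _ (V.inv_mem hv) g)
    simpa only [commutatorElement_def, mul_assoc] using this
  have a1 := h1 _ hu
  have a2 := h2 e he _ (hV.conj_mem _ (hV.conj_mem _ (V.inv_mem hv) e) g)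
  have a3 := hc hd _ huV
  simp only [commutatorElement_def] at a2 a3 ⊢
  generalize hu' : e * v * e⁻¹ * v⁻¹ = u at a1 a3
  have b1 : e * v * e⁻¹ = u * v := by rw [← hu']; group
  have b2 : e * v⁻¹ * e⁻¹ = v⁻¹ * u⁻¹ := by rw [← hu']; group
  have b3 : u⁻¹ * g⁻¹ = g⁻¹ * u⁻¹ := by rw [← mul_inv_rev, ← a1, mul_inv_rev]
  have b4 : e * (g * v⁻¹ * g⁻¹) * e⁻¹ = g * (e * v⁻¹ * e⁻¹) * g⁻¹ := by
    calc e * (g * v⁻¹ * g⁻¹) * e⁻¹ = (e * g * e⁻¹ * g⁻¹) * (g * (e * v⁻¹ * e⁻¹) * g⁻¹) *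
          (e * g * e⁻¹ * g⁻¹)⁻¹ := by group
      _ = _ := by rw [← a2, mul_inv_cancel_right]
  calc e * (v * g * v⁻¹ * g⁻¹) = (e * v * e⁻¹) * (e * (g * v⁻¹ * g⁻¹) * e⁻¹) * e := by group
    _ = u * v * (g * v⁻¹ * (u⁻¹ * g⁻¹)) * e := by rw [b4, b1, b2]; group
    _ = u * (v * g * v⁻¹ * g⁻¹) * u⁻¹ * e := by rw [b3]; group
    _ = _ := by rw [a3]; group

variable [Finite G]

theorem s1_six {L Q : Subgroup G} {H : Type} [Group H] (ρ : L →* H) (hc : Nat.card H = 6)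
    (hk : ρ.ker = Q.subgroupOf L) (hn : ¬ pResOf 2 L ≤ Q) :
    ∃ x ∈ pResOf 2 L, x ^ 3 ∈ Q ∧ ∀ e ∈ pResOf 2 L, ∃ i : ℕ, (x ^ i)⁻¹ * e ∈ Q := by
  haveI : Finite H := Nat.finite_of_card_ne_zero (by omega)
  haveI : Fact (Nat.Prime 3) := ⟨by norm_num⟩
  obtain ⟨R, hR⟩ := Sylow.exists_subgroup_card_pow_prime (G := H) 3 (n := 1) (by rw [hc]; norm_num)
  have hi : R.index = 2 := by
    have := R.card_mul_index
    rw [hR, hc] at this
    omega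
  have h1 : pResOf 2 L ≤ (R.comap ρ).map L.subtype := by
    rw [pResOf_le_iff]
    intro x hx ho
    refine ⟨⟨x, hx⟩, ?_, rfl⟩
    obtain ⟨k, hk'⟩ : Odd (orderOf x) := (Nat.coprime_two_right).1 ho
    have h2 : (⟨x, hx⟩ : L) ^ (2 * k + 1) = 1 := Subtype.ext (by
      rw [← hk']; exact pow_orderOf_eq_one x)
    have h3 : ρ ⟨x, hx⟩ = ((ρ ⟨x, hx⟩ ^ 2) ^ k)⁻¹ := by
      rw [eq_inv_iff_mul_eq_one, ← pow_mul, ← pow_succ', ← map_pow, h2, map_one]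
    change ρ ⟨x, hx⟩ ∈ R
    rw [h3]
    exact R.inv_mem (R.pow_mem (sq_mem_of_index_two hi _) k)
  obtain ⟨x, hx, hxQ⟩ := SetLike.not_le_iff_exists.1 hn
  obtain ⟨x', hx', rfl⟩ := h1 hx
  have hmem : ∀ z : L, ρ z = 1 → (z : G) ∈ Q := fun z hz =>
    mem_subgroupOf.1 (hk ▸ MonoidHom.mem_ker.2 hz)
  have hne : (⟨ρ x', hx'⟩ : R) ≠ 1 := fun h => hxQ (hmem x' (congrArg Subtype.val h))
  refine ⟨x', hx, ?_, fun e he => ?_⟩
  · refine hmem (x' ^ 3) ?_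
    have := pow_card_eq_one' (x := (⟨ρ x', hx'⟩ : R))
    rw [hR] at this
    rw [map_pow]
    exact congrArg Subtype.val this
  · obtain ⟨e', he', rfl⟩ := h1 he
    have h5 := mem_zpowers_of_prime_card (p := 3) (by rw [hR]; norm_num) hne (g' := ⟨ρ e', he'⟩)
    obtain ⟨i, hi'⟩ := (mem_powers_iff_mem_zpowers.2 h5)
    refine ⟨i, hmem ((x' ^ i)⁻¹ * e') ?_⟩
    have h6 : ρ x' ^ i = ρ e' := congrArg Subtype.val hi'
    rw [map_mul, map_inv, map_pow, h6, inv_mul_cancel]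

theorem s1_pg {N : Subgroup G} {P : Subgroup G} (hP : IsPGroup 2 P) (h : pResOf 2 N ≤ P) :
    IsPGroup 2 N := by
  haveI : Fact (Nat.Prime 2) := ⟨Nat.prime_two⟩
  refine isPGroup_of_pResOf_eq_bot ?_
  rw [← pResOf_pResOf]
  exact pResOf_eq_bot_of_isPGroup (hP.to_le h)

/-- The facts about a rank one subgroup. -/
theorem s1_L (hb : RB.{u} 2) {T M L : Subgroup G} (h : Set0 2 T M) (r : R1 2 T M L) :
    RO 2 (Bm 2 T) L (pCoreOf 2 L) ∧
    ⁅OZ 2 (pCore 2 G), pResOf 2 L⁆ = pCoreOf 2 (pResOf 2 L) ∧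
    pResOf 2 L ≤ centMod (pCore 2 G) (OZ 2 (pCore 2 G)) ∧
    L ⊓ 𝐂⟮⁅OZ 2 (pCore 2 G), pResOf 2 L⁆⟯ ≤ pCoreOf 2 L ∧
    ¬ pResOf 2 L ≤ 𝐂⟮OZ 2 (pCore 2 G)⟯ := by
  haveI : Fact (Nat.Prime 2) := ⟨Nat.prime_two⟩
  haveI := Transfer.omegaOneCenter_normal (p := 2) (pCore 2 G)
  have hLM : ¬ L ≤ M := fun e => r.ab.min.lt.ne (inf_eq_left.2 e)
  have ro := hb G _ L _ _ r.ab r.cen fun W h1 h2 e => hLM (e.trans (h.nc W h1 h2))
  have hz : ¬ pResOf 2 L ≤ 𝐂⟮OZ 2 T⟯ := fun e => hLM (r.ab.syl.pResOf_sup.ge.trans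
    (sup_le (e.trans h.z) (r.ab.min.le.trans inf_le_right)))
  have blk : IsBaumannBlock 2 T (pResOf 2 L) :=
    isBlock_iff.2 ⟨ro.bd, fun e => hz (le_cent_of_comm_bot e)⟩
  have bk := blk_of blk
  have e1 : pCoreOf 2 (pResOf 2 L) = 𝐖⟮2, pResOf 2 L⟯ := by
    obtain e | ⟨F, _, _, _, -, x⟩ := bk.exc
    · exact e
    · exact absurd x.three (by norm_num)
  have e2 : ⁅OZ 2 (pCore 2 G), pResOf 2 L⁆ = pCoreOf 2 (pResOf 2 L) := by
    rw [comm_V_eq h.cen h.syl blk, ← e1, bk.cQ]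
  refine ⟨ro, e2, ?_, ?_, fun e => hz (e.trans (cent_anti (oz_le_oz_core h.cen h.syl)))⟩
  · refine le_centMod.2 ⟨le_normalizer_of_normal, ?_⟩
    refine le_trans ?_ (e2.ge.trans (commutator_le_left _ _))
    exact le_pCoreOf (commutator_le_right_of_le_normalizer (bk.core_le (wc_bm h.syl)))
      (right_le_normalizer_commutator _ _) (isPGroup_pCore.to_le (commutator_le_left _ _))
  · have hn : L ≤ 𝐍⟮L ⊓ 𝐂⟮⁅OZ 2 (pCore 2 G), pResOf 2 L⁆⟯⟯ :=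
      le_normalizer_inf le_normalizer ((le_normalizer_commutator le_normalizer_of_normal
        (le_normalizer_pResOf L)).trans (normalizer_le_normalizer_centralizer _))
    refine le_pCoreOf inf_le_left hn (s1_pg (isPGroup_pCoreOf (pResOf 2 L)) ?_)
    refine le_trans (le_inf (pResOf_mono inf_le_left) ((pResOf_le _).trans inf_le_right)) ?_
    rw [comm_V_eq h.cen h.syl blk]
    exact bk.kerU

theorem ps1 (hb : RB.{u} 2) : PS1.{u} := by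
  intro G _ _ T M V K n σ ψ h s
  haveI : Fact (Nat.Prime 2) := ⟨Nat.prime_two⟩
  obtain rfl := s.eqV
  haveI hVn := Transfer.omegaOneCenter_normal (p := 2) (pCore 2 G)
  set V := OZ 2 (pCore 2 G) with hVdef
  have hVea : IsElementaryAbelian 2 V := elemAb_omegaOneCenter _
  have hVc : V ≤ 𝐂⟮V⟯ := elemAb_le_centralizer hVea
  have hker : ∀ z : K, σ z = 1 ↔ (z : G) ∈ 𝐂⟮V⟯ := fun z => by
    rw [← MonoidHom.mem_ker, s.ker, mem_subgroupOf]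
  have hD : (⊤ : Subgroup G) ≤ 𝐍⟮centMod (pCore 2 G) V⟯ :=
    le_normalizer_centMod le_normalizer_of_normal le_normalizer_of_normal
  set E := pResOf 2 (K ⊓ centMod (pCore 2 G) V) with hEdef
  have hEK : E ≤ K := (pResOf_le _).trans inf_le_left
  have hED : E ≤ centMod (pCore 2 G) V := (pResOf_le _).trans inf_le_right
  have hres : pResOf 2 E = E := pResOf_pResOf _
  have hnK : K ≤ 𝐍⟮E⟯ := (le_normalizer_inf le_normalizer (le_top.trans hD)).trans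
    (normalizer_le_normalizer_pResOf _)
  have hnB : Bm 2 T ≤ 𝐍⟮E⟯ := (le_normalizer_inf s.nB (le_top.trans hD)).trans
    (normalizer_le_normalizer_pResOf _)
  have hCD : 𝐂⟮V⟯ ⊓ centMod (pCore 2 G) V ≤ pCore 2 G := by
    refine le_pCore (normalizer_eq_top_iff.1 (top_le_iff.1 (le_normalizer_inf
      le_normalizer_of_normal hD))) (s1_pg isPGroup_pCore (le_trans ?_ h.cen))
    refine le_cent_comm (le_cent_of_comm_bot ?_)
    rw [← comm_eq_of_res (pResOf_pResOf _) isPGroup_pCore le_normalizer_of_normal, eq_bot_iff]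
    refine (commutator_mono (le_centMod.1 ((pResOf_le _).trans inf_le_right)).2 le_rfl).trans ?_
    exact (comm_bot_of_le_cent (le_cent_comm ((pResOf_le _).trans inf_le_left))).le
  have hEC : E ⊓ 𝐂⟮V⟯ ≤ pCore 2 G := le_trans (le_inf inf_le_right (inf_le_left.trans hED)) hCD
  have hpg : IsPGroup 2 ↥(E ⊓ 𝐂⟮V⟯) := isPGroup_pCore.to_le hEC
  have hA : (E.subgroupOf K).map σ ≤ alternatingGroup _ := by
    have : E ≤ ((alternatingGroup _).comap σ).map K.subtype := by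
      rw [hEdef, pResOf_le_iff]
      intro x hx ho
      refine ⟨⟨x, hx.1⟩, ?_, rfl⟩
      have ho' : Odd (orderOf x) := (Nat.coprime_two_right).1 ho
      have h2 : (⟨x, hx.1⟩ : K) ^ orderOf x = 1 := Subtype.ext (pow_orderOf_eq_one x)
      change Equiv.Perm.sign (σ ⟨x, hx.1⟩) = 1
      rcases Int.units_eq_one_or (Equiv.Perm.sign (σ ⟨x, hx.1⟩)) with e | e
      · exact e
      · have h3 : Equiv.Perm.sign (σ ⟨x, hx.1⟩) ^ orderOf x = 1 := by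
          rw [← map_pow, ← map_pow, h2, map_one, map_one]
        rw [e, ho'.neg_one_pow] at h3
        exact absurd h3 (by decide)
    rintro _ ⟨x, hx, rfl⟩
    obtain ⟨y, hy, e⟩ := this hx
    rwa [← Subtype.ext e]
  have hsub : ∀ N : Subgroup G, N ≤ E → ¬ N ≤ 𝐂⟮V⟯ →
      (∀ g ∈ alternatingGroup (Fin (2 ^ n + 1)), ∃ k : K, σ k = g ∧ (k : G) ∈ 𝐍⟮N⟯) →
      (N.subgroupOf K).map σ = alternatingGroup _ := by
    intro N h1 h2 h3
    refine s1_alt s.pos _ ((map_mono (subgroupOf_mono K h1)).trans hA) (fun e => h2 fun x hx => ?_) ?_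
    · have : σ ⟨x, hEK (h1 hx)⟩ ∈ (N.subgroupOf K).map σ := ⟨_, hx, rfl⟩
      rw [e, mem_bot] at this
      exact (hker _).1 this
    · rintro g hg _ ⟨x, hx, rfl⟩
      obtain ⟨k, rfl, hk⟩ := h3 g hg
      exact ⟨k * x * k⁻¹, mem_subgroupOf.2 (conj_mem_of_mem_normalizer hk (mem_subgroupOf.1 hx)),
        by simp⟩
  have hLE : ∀ L, R1 2 T M L → pResOf 2 L ≤ K → pResOf 2 L ≤ E := fun L r hL =>
    (pResOf_pResOf L).ge.trans (pResOf_mono (le_inf hL (s1_L hb h r).2.2.1))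
  obtain ⟨a₀, ha₀, hs₀⟩ := s.ex
  obtain ⟨L₀, r₀, hL₀, -⟩ := s.sw a₀ ha₀ hs₀
  have himg : (E.subgroupOf K).map σ = alternatingGroup _ :=
    hsub E le_rfl (fun e => (s1_L hb h r₀).2.2.2.2 ((hLE L₀ r₀ hL₀).trans e)) fun g _ => by
      obtain ⟨k, rfl⟩ := s.surj g
      exact ⟨k, rfl, hnK k.2⟩
  refine ⟨E, hEK, hres, hnK, hnB, himg, hpg, ?_,
    commutator_le_right_of_le_normalizer ((hVc.trans s.le).trans hnK), ?_, ?_⟩
  · refine (commutator_mono hEC le_rfl).trans ?_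
    rw [← comm_eq_of_res hres isPGroup_pCore le_normalizer_of_normal]
    exact commutator_mono (le_centMod.1 hED).2 le_rfl
  · have hNE : ⁅E, Bm 2 T⁆ ≤ E := commutator_le_left_of_le_normalizer hnB
    have hEN : E ≤ 𝐍⟮⁅E, Bm 2 T⁆⟯ := left_le_normalizer_commutator _ _
    have h1 := hsub ⁅E, Bm 2 T⁆ hNE (fun e => (s1_L hb h r₀).2.2.2.2
      (((s1_L hb h r₀).1.bd.2.1.ge.trans (commutator_mono (hLE L₀ r₀ hL₀) le_rfl)).trans e))
      fun g hg => by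
        obtain ⟨k, hk, rfl⟩ := himg.ge hg
        exact ⟨k, rfl, hEN hk⟩
    refine le_antisymm hNE (hres.ge.trans ((pResOf_mono ?_).trans
      (pResOf_sup_le hpg (inf_le_left.trans hEN))))
    intro x hx
    obtain ⟨y, hy, e⟩ := h1.ge (hA ⟨⟨x, hEK hx⟩, hx, rfl⟩)
    have h2 : ((y⁻¹ * ⟨x, hEK hx⟩ : K) : G) ∈ 𝐂⟮V⟯ :=
      (hker _).1 (by rw [map_mul, map_inv, e, inv_mul_cancel])
    have h3 : (y : G) * ((y : G)⁻¹ * x) ∈ ⁅E, Bm 2 T⁆ ⊔ (E ⊓ 𝐂⟮V⟯) :=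
      mul_mem_sup hy ⟨E.mul_mem (E.inv_mem (hNE hy)) hx, h2⟩
    rwa [mul_inv_cancel_left] at h3
  · intro a ha hs
    obtain ⟨L, r, hL, hVa, hy, hbb⟩ := s.sw a ha hs
    obtain ⟨ro, e2, -, hCL, hnc⟩ := s1_L hb h r
    have hBL : Bm 2 T ≤ L := r.ab.syl.le
    have hWV : ⁅V, pResOf 2 L⁆ ≤ V := commutator_le_left _ _
    have hWE : ⁅V, pResOf 2 L⁆ ≤ ⁅V, E⁆ := commutator_mono le_rfl (hLE L r hL)
    have ha2 : (a : G) ^ 2 ∈ 𝐂⟮V⟯ := (hker (a ^ 2)).1 (by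
      obtain ⟨i, j, -, e⟩ := hs
      rw [map_pow, e, pow_two, Equiv.swap_mul_self])
    have K1 : ∀ y ∈ Bm 2 T, y ∉ pCoreOf 2 L → ∃ c ∈ zpowers (a : G), (a : G)⁻¹ * c ∈ 𝐂⟮V⟯ ∧
        c⁻¹ * y ∈ 𝐂⟮⁅V, pResOf 2 L⁆⟯ ⊓ centMod (pResOf 2 L) 𝐂⟮V⟯ := by
      intro y hyB hyQ
      obtain ⟨c, hc, hcy⟩ := hy y hyB
      refine ⟨c, hc, ?_, hcy⟩
      obtain ⟨i, rfl⟩ := hc
      obtain ⟨j, rfl | rfl⟩ := Int.even_or_odd' i
      · exfalso
        apply hyQ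
        apply hCL
        refine ⟨hBL hyB, ?_⟩
        have h1 : (a : G) ^ (2 * j) ∈ 𝐂⟮V⟯ := by
          rw [zpow_mul]; exact zpow_mem (by exact_mod_cast ha2) j
        have := mul_mem (cent_anti hWV h1) hcy.1
        rwa [mul_inv_cancel_left] at this
      · have h1 : (a : G) ^ (2 * j) ∈ 𝐂⟮V⟯ := by
          rw [zpow_mul]; exact zpow_mem (by exact_mod_cast ha2) j
        convert h1 using 1
        group
    have K2 : ∀ y ∈ Bm 2 T, y ∉ pCoreOf 2 L → (a : G)⁻¹ * y ∈ 𝐂⟮⁅V, pResOf 2 L⁆⟯ := by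
      intro y hyB hyQ
      obtain ⟨c, -, h1, h2⟩ := K1 y hyB hyQ
      have := mul_mem (cent_anti hWV h1) h2.1
      rwa [mul_assoc, mul_inv_cancel_left] at this
    obtain ⟨Y, hYB, hYe, hYn, hYc⟩ := ro.exY
    obtain ⟨y, hyY, hyQ⟩ := SetLike.not_le_iff_exists.1 hYn
    have hYW : ⁅pCoreOf 2 L, Y⁆ ≤ ⁅V, pResOf 2 L⁆ := hYc.trans (ro.core.ge.trans e2.ge)
    have hVy : ⁅V, zpowers y⁆ ≤ ⁅V, pResOf 2 L⁆ :=
      (commutator_mono r.vle (zpowers_le.2 hyY)).trans hYW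
    have hidx : (pCoreOf 2 L).relIndex (Bm 2 T) = 2 := by
      refine index_eq_two_iff.2 ⟨⟨y, hYB hyY⟩, fun b => ?_⟩
      simp only [mem_subgroupOf, coe_mul]
      by_cases hbQ : (b : G) ∈ pCoreOf 2 L
      · exact Or.inr ⟨hbQ, fun e => hyQ ((mul_mem_cancel_left hbQ).1 e)⟩
      · refine Or.inl ⟨hCL ⟨L.mul_mem (hBL b.2) (hBL (hYB hyY)), ?_⟩, hbQ⟩
        have := mul_mem (inv_mem (K2 _ (inv_mem b.2) fun e => hbQ (inv_mem_iff.1 e)))
          (K2 y (hYB hyY) hyQ)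
        have e : ((a : G)⁻¹ * (b : G)⁻¹)⁻¹ * ((a : G)⁻¹ * y) = b * y := by group
        rwa [e] at this
    obtain ⟨F, _, _, _, ρ, hF, -, hρ⟩ := ro.rho
    have h6 : Nat.card SL(2, F) = 6 := by
      rw [Classical.SLBasic.card_SL_two, Nat.card_eq_fintype_card, hF, hidx]; norm_num
    have hQC : pResOf 2 L ⊓ pCoreOf 2 L ≤ 𝐂⟮V⟯ :=
      (le_pCoreOf inf_le_left (le_normalizer_inf le_normalizer ((pResOf_le L).trans
        (le_normalizer_pCoreOf L))) ((isPGroup_pCoreOf L).to_le inf_le_right)).trans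
        (e2.ge.trans (hWV.trans hVc))
    obtain ⟨x, hx, hx3, hxe⟩ := s1_six ρ h6 hρ fun e => hnc ((le_inf le_rfl e).trans hQC)
    obtain ⟨c, hc, hac, hcy⟩ := K1 y (hYB hyY) hyQ
    have hg : c⁻¹ * y ∈ 𝐂⟮V⟯ := by
      intro v hv
      rw [← commutatorElement_eq_one_iff_mul_comm]
      refine s1_z hVc hVea.2 hx (hQC ⟨pow_mem hx 3, hx3⟩) (fun e he => ?_) ?_
        (s1_cent hVc rfl hcy.1 hcy.2.2 hv)
      · obtain ⟨i, hi⟩ := hxe e he
        exact ⟨i, hQC ⟨(pResOf 2 L).mul_mem ((pResOf 2 L).inv_mem ((pResOf 2 L).pow_mem hx i)) he, hi⟩⟩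
      · have h1 : ⁅v, c⁻¹⁆ ∈ ⁅V, pResOf 2 L⁆ := hVa (commutator_mem_commutator hv (inv_mem hc))
        have h2 : ⁅c⁻¹ * v⁻¹ * c⁻¹⁻¹, c⁻¹ * y * c⁻¹⁻¹⁆ ∈ V := by
          have := hVn.conj_mem _ (hWV (hVy (commutator_mem_commutator (inv_mem hv)
            (mem_zpowers y)))) c⁻¹
          convert this using 1
          simp only [commutatorElement_def]
          group
        have h3 : ⁅v, y⁆ ∈ ⁅V, pResOf 2 L⁆ := hVy (commutator_mem_commutator hv (mem_zpowers y))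
        have h4 : ⁅⁅v, y⁆⁻¹, c⁻¹⁆ ∈ ⁅V, pResOf 2 L⁆ :=
          hVa (commutator_mem_commutator (inv_mem (hWV h3)) (inv_mem hc))
        have := mul_mem h1 (mul_mem h3 h4)
        convert this using 1
        simp only [commutatorElement_def]
        group
    have hcK : c ∈ K := (zpowers_le.2 a.2) hc
    have hyK : y ∈ K := by
      have := K.mul_mem hcK (s.le hg)
      rwa [mul_inv_cancel_left] at this
    refine ⟨⟨y, hyK⟩, hYB hyY, ?_, hYe.2 y hyY, hVy.trans hWE, fun b hbB hbs hne => ?_⟩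
    · have h1 : σ (a⁻¹ * ⟨y, hyK⟩) = 1 := (hker _).2 (by
        have := mul_mem hac hg
        rwa [mul_assoc, mul_inv_cancel_left] at this)
      rw [map_mul, map_inv, inv_mul_eq_one] at h1
      exact h1.symm
    · have hbQ : (b : G) ∈ pCoreOf 2 L := hCL ⟨hBL hbB, hbb b (bm_le T hbB) hbs hne⟩
      refine hWE (hYW ?_)
      rw [commutator_comm]
      exact commutator_mem_commutator hyY hbQ

end Cfsg.Agent.Spc.Pu
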