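import Cfsg.Agent.Spc.PuDef

/-! The kernel of a symmetric block lies in the commutator with the module. -/

namespace Cfsg.Agent.Spc.Pu

open Subgroup Cfsg.Agent.LocalEven Cfsg.Agent.PLocal Cfsg.Agent.Push Cfsg.Agent.BHS
open Cfsg.Agent.Glaub hiding cent_anti
open scoped commutatorElement MatrixGroups

universe u

theorem s2_key {α : Type*} [DecidableEq α] {a b d : α} (hab : a ≠ b) (had : a ≠ d)
    (hc : Commute (Equiv.swap a b) (Equiv.swap a d)) : Equiv.swap a d = Equiv.swap a b := by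
  by_cases hbd : d = b
  · rw [hbd]
  · exfalso
    have h := congrArg (fun f : Equiv.Perm α => f a) hc.eq
    simp only [Equiv.Perm.mul_apply, Equiv.swap_apply_left] at h
    rw [Equiv.swap_apply_of_ne_of_ne had.symm hbd,
      Equiv.swap_apply_of_ne_of_ne hab.symm (Ne.symm hbd)] at h
    exact hbd h

theorem s2_disj {α : Type*} [DecidableEq α] {s t : Equiv.Perm α} (hs : s.IsSwap) (ht : t.IsSwap)
    (hne : t ≠ s) (hc : Commute s t) : s.Disjoint t := by
  obtain ⟨a, b, hab, rfl⟩ := hs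
  obtain ⟨c, d, hcd, rfl⟩ := ht
  intro x
  by_contra h
  rw [not_or] at h
  apply hne
  rcases Equiv.eq_or_eq_of_swap_apply_ne_self h.1 with rfl | rfl <;>
    rcases Equiv.eq_or_eq_of_swap_apply_ne_self h.2 with rfl | rfl
  · exact s2_key hab hcd hc
  · rw [Equiv.swap_comm c x] at hc ⊢
    exact s2_key hab hcd.symm hc
  · rw [Equiv.swap_comm a x] at hc ⊢
    exact s2_key hab.symm hcd hc
  · rw [Equiv.swap_comm a x, Equiv.swap_comm c x] at hc ⊢
    exact s2_key hab.symm hcd.symm hc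

theorem s2_ncomm {n : ℕ} (hn : 2 ≤ n) {P : Subgroup (Equiv.Perm (Fin (2 ^ n + 1)))}
    (hP : IsSylowIn 2 P (alternatingGroup (Fin (2 ^ n + 1))))
    {s : Equiv.Perm (Fin (2 ^ n + 1))} (hs : s.IsSwap) : ∃ t ∈ P, ¬ Commute t s := by
  by_contra hcon
  push Not at hcon
  have : Fact (Nat.Prime 2) := ⟨Nat.prime_two⟩
  have hpos : 0 < 2 ^ n := Nat.pos_of_ne_zero (by positivity)
  have : Nontrivial (Fin (2 ^ n + 1)) := Fin.nontrivial_iff_two_le.2 (by omega)
  set C : Subgroup (Equiv.Perm (Fin (2 ^ n + 1))) := centralizer {s} with hC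
  set A := alternatingGroup (Fin (2 ^ n + 1)) with hA
  have hAi : A.index = 2 := alternatingGroup.index_eq_two
  have hPC : P ≤ C := fun t ht => mem_centralizer_singleton_iff.2 (hcon t ht).eq
  have h1 : A.relIndex C = 2 := by
    have hd : A.relIndex C ∣ 2 := (relIndex_dvd_index_of_normal A C).trans (dvd_of_eq hAi)
    rcases (Nat.dvd_prime Nat.prime_two).1 hd with h | h
    · exfalso
      have hsA : s ∈ A := relIndex_eq_one.1 h (mem_centralizer_singleton_iff.2 rfl)
      rw [hA, Equiv.Perm.mem_alternatingGroup, hs.sign_eq] at hsA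
      exact absurd hsA (by decide)
    · exact h
  have h2 : (A ⊓ C).index = 2 * C.index := by
    rw [← relIndex_mul_index (inf_le_right : A ⊓ C ≤ C), inf_relIndex_right, h1]
  have h3 : P.index = P.relIndex A * 2 := by rw [← relIndex_mul_index hP.le, hAi]
  have h4 : C.index ∣ P.relIndex A := by
    have := index_dvd_of_le (le_inf hP.le hPC)
    rw [h2, h3, mul_comm 2] at this
    exact Nat.dvd_of_mul_dvd_mul_right two_pos this
  have h5 : Nat.card C = (2 ^ n - 1).factorial * 2 := by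
    rw [hC, Equiv.Perm.nat_card_centralizer, Equiv.Perm.isSwap_iff_cycleType.1 hs]
    simp only [Fintype.card_fin, Multiset.sum_singleton, Multiset.prod_singleton,
      Multiset.toFinset_singleton, Finset.prod_singleton, Multiset.count_singleton_self,
      Nat.factorial_one, mul_one]
    congr 2
  have h6 : Nat.card C * C.index = (2 ^ n + 1) * (2 ^ n * (2 ^ n - 1).factorial) := by
    rw [card_mul_index, Nat.card_eq_fintype_card, Fintype.card_perm, Fintype.card_fin,
      Nat.factorial_succ, Nat.mul_factorial_pred hpos.ne']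
  have h7 : 2 * C.index = (2 ^ n + 1) * 2 ^ n := by
    refine Nat.eq_of_mul_eq_mul_left (Nat.factorial_pos (2 ^ n - 1)) ?_
    rw [h5] at h6
    linarith
  apply hP.not_dvd
  refine Dvd.dvd.trans ?_ h4
  obtain ⟨k, rfl⟩ := Nat.exists_eq_add_of_le hn
  refine ⟨(2 ^ (2 + k) + 1) * 2 ^ k, ?_⟩
  have : 2 ^ (2 + k) = 4 * 2 ^ k := by rw [pow_add]; norm_num
  refine Nat.eq_of_mul_eq_mul_left two_pos ?_
  rw [h7]
  conv_lhs => rw [mul_comm]; arg 1; rw [this]
  ring

theorem ps2 (hz : PZ.{u}) : PS2.{u} := by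
  intro G _ _ T M V K E n σ ψ h0 hd hb
  have : Fact (Nat.Prime 2) := ⟨Nat.prime_two⟩
  obtain ⟨a, haT, has⟩ := hd.ex
  obtain ⟨y, hyB, hya, hy2, -, hyb⟩ := hb.lift a haT has
  have hpos : 0 < 2 ^ n := Nat.pos_of_ne_zero (by positivity)
  have : Nontrivial (Fin (2 ^ n + 1)) := Fin.nontrivial_iff_two_le.2 (by omega)
  have hVn : (⊤ : Subgroup G) ≤ 𝐍⟮V⟯ := by
    rw [hd.eqV]
    exact le_trans le_normalizer_of_normal (normalizer_le_normalizer_omegaOneCenter _)
  have hVc : V ≤ 𝐂⟮V⟯ := by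
    rw [hd.eqV]
    exact (omegaOneCenter_le _).trans (le_centralizer_omegaOneCenter _)
  have hVN : V.Normal := normalizer_eq_top_iff.1 (top_le_iff.1 hVn)
  have hVE : ⁅V, E⁆ ≤ 𝐂⟮V⟯ := (commutator_le_left V E).trans hVc
  set H : Subgroup G := E ⊔ zpowers (y : G) with hH
  have hHK : H ≤ K := sup_le hb.le (zpowers_le.2 y.2)
  have hHE : H ≤ 𝐍⟮E⟯ := hHK.trans hb.nK
  have hEH : E ≤ H := le_sup_left
  have hyH : (y : G) ∈ H := le_sup_right (a := E) (mem_zpowers _)
  let σ' : H →* Equiv.Perm (Fin (2 ^ n + 1)) := σ.comp (inclusion hHK)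
  have hker : ∀ x : H, x ∈ σ'.ker ↔ (x : G) ∈ 𝐂⟮V⟯ := fun x => by
    have : x ∈ σ'.ker ↔ inclusion hHK x ∈ σ.ker := Iff.rfl
    rw [this, hd.ker, mem_subgroupOf]
    rfl
  have hy' : σ' ⟨y, hyH⟩ = σ a := hya
  have hEN : (E.subgroupOf H).Normal := (normal_subgroupOf_iff_le_normalizer hEH).2 hHE
  have hgen : E.subgroupOf H ⊔ zpowers (⟨y, hyH⟩ : H) = ⊤ := by
    apply map_injective (f := H.subtype) Subtype.val_injective
    rw [Subgroup.map_sup, subgroupOf_map_subtype, MonoidHom.map_zpowers, inf_eq_left.2 hEH,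
      ← MonoidHom.range_eq_map, range_subtype]
    rfl
  have hy2' : (⟨y, hyH⟩ : H) ^ 2 = 1 := Subtype.ext hy2
  have hsq : ∀ x : H, x ^ 2 ∈ E.subgroupOf H := fun x => by
    have hx : x ∈ E.subgroupOf H ⊔ zpowers (⟨y, hyH⟩ : H) := hgen ▸ mem_top x
    rw [← SetLike.mem_coe, normal_mul] at hx
    obtain ⟨e, he, z, ⟨k, rfl⟩, rfl⟩ := hx
    have h1 : ((⟨y, hyH⟩ : H) ^ k) ^ 2 = 1 := by
      rw [← zpow_natCast, ← zpow_mul, mul_comm, zpow_mul, zpow_natCast, hy2', one_zpow]
    set z := (⟨y, hyH⟩ : H) ^ k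
    have h2 : (e * z) ^ 2 = e * (z * e * z⁻¹) * z ^ 2 := by simp only [pow_two]; group
    change (e * z) ^ 2 ∈ _
    rw [h2, h1, mul_one]
    exact mul_mem he (hEN.conj_mem e he z)
  have hres : pResOf 2 (⊤ : Subgroup H) = E.subgroupOf H := by
    apply le_antisymm
    · rw [pResOf_le_iff]
      intro x _ hx
      obtain ⟨k, hk⟩ := exists_pow_eq_self_of_coprime hx.symm
      rw [← hk]
      exact pow_mem (hsq x) k
    · calc E.subgroupOf H = pResOf 2 (E.subgroupOf H) := by rw [pResOf_subgroupOf_eq hEH, hb.res]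
        _ ≤ _ := pResOf_mono le_top
  have hsurj : Function.Surjective σ' := by
    rw [← MonoidHom.range_eq_top]
    have hA : alternatingGroup (Fin (2 ^ n + 1)) ≤ σ'.range := by
      rw [← hb.img]
      rintro _ ⟨e, he, rfl⟩
      exact ⟨⟨e, hEH he⟩, rfl⟩
    have hs : σ a ∈ σ'.range := ⟨_, hy'⟩
    rw [eq_top_iff]
    intro g _
    rcases Int.units_eq_one_or (Equiv.Perm.sign g) with h | h
    · exact hA (Equiv.Perm.mem_alternatingGroup.2 h)
    · have h1 : g * (σ a)⁻¹ ∈ σ'.range := hA (Equiv.Perm.mem_alternatingGroup.2 (by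
        rw [map_mul, map_inv, h, has.sign_eq]; decide))
      simpa using mul_mem h1 hs
  have hWN : (⁅V, E⁆.subgroupOf H).Normal :=
    (normal_subgroupOf_iff_le_normalizer (hb.VE.trans hEH)).2
      (LocalEven.le_normalizer_commutator (le_top.trans hVn) hHE)
  have hWk : ⁅V, E⁆.subgroupOf H ≤ σ'.ker := fun x hx => (hker x).2 (hVE hx)
  have hpg : IsPGroup 2 σ'.ker := by
    intro x
    have hx2 : ((x : H) : G) ^ 2 ∈ E ⊓ 𝐂⟮V⟯ := ⟨hsq x, pow_mem ((hker x).1 x.2) 2⟩
    obtain ⟨k, hk⟩ := hb.pg ⟨_, hx2⟩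
    refine ⟨k + 1, Subtype.ext (Subtype.ext ?_)⟩
    have := congrArg Subtype.val hk
    simp only [SubmonoidClass.coe_pow, OneMemClass.coe_one] at this ⊢
    rw [pow_succ', pow_mul]
    exact this
  have key := hz H (2 ^ n + 1) σ' (⁅V, E⁆.subgroupOf H) ⟨y, hyH⟩ hsurj hWN hWk hpg
    (hy2' ▸ one_mem _) (hy' ▸ has) (hres ▸ hgen) (by
      rw [hres, commutator_le]
      intro x hx e he
      exact hb.cc (commutator_mem_commutator (g₁ := (x : G)) (g₂ := (e : G))
        ⟨hx.2, (hker x).1 hx.1⟩ he)) (by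
      intro h4
      have hn : 2 ≤ n := by
        by_contra hlt
        have : n = 1 := by have := hd.pos; omega
        subst this
        omega
      have hT : IsSylowIn 2 (T ⊓ K ⊓ E) E :=
        (sylow_inf_subnormal h0.syl.toSylowTop hd.sub).inf_of_le_normalizer hb.le hb.nK
      have hP := (hT.subgroupOf hb.le).map σ
      rw [hb.img] at hP
      obtain ⟨_, ⟨t, ht, rfl⟩, hnc⟩ := s2_ncomm hn hP has
      have htT : (t : G) ∈ T := ht.1.1
      have htE : (t : G) ∈ E := ht.2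
      have hbB : ((t * y * t⁻¹ : K) : G) ∈ Bm 2 T :=
        (mem_normalizer_iff.1 (norm_le_norm_bm T (le_normalizer htT)) _).1 hyB
      have hσ : σ (t * y * t⁻¹) = σ t * σ a * (σ t)⁻¹ := by rw [map_mul, map_mul, map_inv, hya]
      have hsw : (σ (t * y * t⁻¹)).IsSwap := by
        obtain ⟨i, j, hij, he⟩ := has
        rw [hσ, he, ← Equiv.swap_apply_apply]
        exact ⟨_, _, fun h => hij ((σ t).injective h), rfl⟩
      have hne : σ (t * y * t⁻¹) ≠ σ a := fun h => hnc (by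
        rw [hσ, mul_inv_eq_iff_eq_mul] at h
        exact h)
      have hm := hyb _ hbB hsw hne
      have hc : Commute (σ a) (σ (t * y * t⁻¹)) := by
        rw [← hya, ← commutatorElement_eq_one_iff_commute, ← map_commutatorElement,
          ← MonoidHom.mem_ker, hd.ker, mem_subgroupOf]
        exact hVE hm
      refine ⟨⟨t, hEH htE⟩, ?_, hm⟩
      rw [hy']
      exact s2_disj has hsw hne hc)
  intro x hx
  exact key (x := ⟨x, hEH hx.1⟩) ⟨(hker _).2 hx.2, hres ▸ hx.1⟩

end Cfsg.Agent.Spc.Pu
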