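import Cfsg.Agent.Spc.PuDef

/-! The symmetric block is a Baumann block. -/

namespace Cfsg.Agent.Spc.Pu

open Subgroup Cfsg.Agent.LocalEven Cfsg.Agent.PLocal Cfsg.Agent.Push Cfsg.Agent.BHS
open Cfsg.Agent.Glaub hiding cent_anti
open scoped commutatorElement MatrixGroups

universe u

variable {G : Type u} [Group G]

theorem s3_three {N : ℕ} (hN : 3 ≤ N) {i k : Fin N} (h : i ≠ k) :
    ∃ j : Fin N, j ≠ i ∧ j ≠ k ∧ ∃ g ∈ alternatingGroup (Fin N), g i = j ∧ g j = k := by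
  classical
  obtain ⟨j, -, hj⟩ : ∃ j ∈ (Finset.univ : Finset (Fin N)), j ∉ ({i, k} : Finset (Fin N)) :=
    Finset.exists_mem_notMem_of_card_lt_card
      (lt_of_le_of_lt Finset.card_le_two (by simp; omega))
  simp only [Finset.mem_insert, Finset.mem_singleton, not_or] at hj
  refine ⟨j, hj.1, hj.2, Equiv.swap i k * Equiv.swap i j, ?_, ?_, ?_⟩
  · rw [Equiv.Perm.mem_alternatingGroup, map_mul, Equiv.Perm.sign_swap h,
      Equiv.Perm.sign_swap (Ne.symm hj.1)]
    simp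
  · simp [Equiv.swap_apply_of_ne_of_ne hj.1 hj.2]
  · simp

theorem s3_alt {N : ℕ} (hN : N = 3 ∨ 5 ≤ N) (R : Subgroup (alternatingGroup (Fin N))) [hR : R.Normal]
    (h2 : IsPGroup 2 R) : R = ⊥ := by
  rcases hN with rfl | hN
  · obtain ⟨k, hk⟩ := IsPGroup.iff_card.1 h2
    have h3 := two_mul_nat_card_alternatingGroup (α := Fin 3)
    rw [Nat.card_perm, Nat.card_fin] at h3
    change _ = 6 at h3
    have h4 := card_subgroup_dvd_card R
    rw [show Nat.card (alternatingGroup (Fin 3)) = 3 by omega, hk] at h4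
    have : Nat.Coprime (2 ^ k) 3 := Nat.Coprime.pow_left _ (by norm_num)
    rw [← card_eq_one, hk]
    exact Nat.Coprime.eq_one_of_dvd this h4
  · haveI := alternatingGroup.isSimpleGroup (α := Fin N) (by simpa using hN)
    refine (hR.eq_bot_or_eq_top).resolve_right ?_
    rintro rfl
    obtain ⟨k, hk⟩ := IsPGroup.iff_card.1 h2
    haveI : Nontrivial (Fin N) := Fin.nontrivial_iff_two_le.2 (by omega)
    have h3 := two_mul_nat_card_alternatingGroup (α := Fin N)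
    rw [Nat.card_perm, Nat.card_fin, ← card_top, hk, ← pow_succ'] at h3
    have h4 : 3 ∣ 2 ^ (k + 1) := h3 ▸ Nat.dvd_factorial (by norm_num) (by omega)
    exact absurd (Nat.prime_three.dvd_of_dvd_pow h4) (by norm_num)

theorem s3_perm {m : ℕ} (hm : 1 ≤ m) {V K E : Subgroup G} {σ : K →* Equiv.Perm (Fin (2 * m + 1))} {ψ}
    (d : PermData (2 * m + 1) K ⁅V, K⁆ (⁅V, K⁆ ⊓ 𝐂⟮K⟯) σ ψ) (hE : E ≤ K) (hV : ⁅V, K⁆ ≤ V)
    (hr : (σ.comp (inclusion hE)).range = alternatingGroup (Fin (2 * m + 1))) :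
    PermData (2 * m + 1) E ⁅V, E⁆ (⁅V, E⁆ ⊓ 𝐂⟮E⟯) (σ.comp (inclusion hE)) ψ := by
  classical
  have hU : ⁅V, E⁆ ≤ ⁅V, K⁆ := commutator_mono le_rfl hE
  have h1 : ψ 1 = 0 := (d.ker 1 (one_mem _)).2 (one_mem _)
  have hinv : ∀ u ∈ ⁅V, K⁆, ψ u⁻¹ = ψ u := fun u hu => by
    have := d.mul u hu u⁻¹ (inv_mem hu)
    rw [mul_inv_cancel, h1] at this
    rw [eq_neg_of_add_eq_zero_right this.symm]
    ext i
    exact ZMod.neg_eq_self_mod_two _
  refine ⟨right_le_normalizer_commutator _ _, inf_le_left, fun u hu v hv => d.mul u (hU hu) v (hU hv),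
    fun u hu => d.even u (hU hu), ?_, fun u hu => ⟨fun e => ⟨hu, ?_⟩, fun e => ?_⟩,
    fun e u hu i => d.conj (inclusion hE e) u (hU hu) i⟩
  · let S : AddSubmonoid (Fin (2 * m + 1) → ZMod 2) :=
      { carrier := {x | ∃ u ∈ ⁅V, E⁆, ψ u = x}
        zero_mem' := ⟨1, one_mem _, h1⟩
        add_mem' := by
          rintro _ _ ⟨u, hu, rfl⟩ ⟨v, hv, rfl⟩
          exact ⟨u * v, mul_mem hu hv, d.mul u (hU hu) v (hU hv)⟩ }
    have key : ∀ i k : Fin (2 * m + 1), Pi.single i (1 : ZMod 2) + Pi.single k 1 ∈ S := by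
      intro i k
      by_cases h : i = k
      · subst h
        have : (Pi.single i (1 : ZMod 2) + Pi.single i 1 : Fin (2 * m + 1) → ZMod 2) = 0 := by
          rw [← Pi.single_add]; exact Pi.single_zero i
        rw [this]; exact S.zero_mem
      obtain ⟨j, hji, hjk, g, hg, gi, gj⟩ := s3_three (by omega) h
      obtain ⟨e, rfl⟩ := hr.ge hg
      obtain ⟨u, hu, hψ⟩ := d.surj (Pi.single i (1 : ZMod 2) + Pi.single j 1) (by
        simp only [Pi.add_apply, Finset.sum_add_distrib, Finset.sum_pi_single', Finset.mem_univ,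
          if_true]
        rfl)
      refine ⟨⁅u, (e : G)⁆, commutator_mem_commutator (hV hu) e.2, ?_⟩
      have e1 : ⁅u, (e : G)⁆ = u * ((e : G) * u⁻¹ * (e : G)⁻¹) := by
        rw [commutatorElement_def]; group
      have hm' : (e : G) * u⁻¹ * (e : G)⁻¹ ∈ ⁅V, K⁆ :=
        conj_mem_of_mem_normalizer (d.norm (hE e.2)) (inv_mem hu)
      rw [e1, d.mul _ hu _ hm']
      ext x
      have e2 := d.conj (inclusion hE e) u⁻¹ (inv_mem hu) x
      rw [hinv u hu] at e2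
      change ψ ((e : G) * u⁻¹ * (e : G)⁻¹) x = ψ u ((σ.comp (inclusion hE) e)⁻¹ x) at e2
      rw [Pi.add_apply, e2, hψ]
      simp only [Pi.add_apply, Pi.single_apply, Equiv.Perm.inv_eq_iff_eq, gi, gj]
      have : ∀ a b c : ZMod 2, a + b + (b + c) = a + c := by decide
      exact this _ _ _
    intro x hx
    have e : x = ∑ i, x i • (Pi.single i (1 : ZMod 2) + Pi.single 0 1 : Fin (2 * m + 1) → ZMod 2) := by
      simp only [smul_add, Finset.sum_add_distrib, ← Finset.sum_smul, hx, zero_smul, add_zero]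
      ext j
      simp [Finset.sum_apply, Pi.single_apply]
    have : x ∈ S := by
      rw [e]
      refine S.sum_mem fun i _ => ?_
      have h01 : ∀ a : ZMod 2, a = 0 ∨ a = 1 := by decide
      rcases h01 (x i) with h | h <;> rw [h]
      · rw [zero_smul]; exact S.zero_mem
      · rw [one_smul]; exact key i 0
    exact this
  · exact centralizer_le (SetLike.coe_subset_coe.2 hE) ((d.ker u (hU hu)).1 e).2
  · have hc : ∀ i, ψ u i = ψ u 0 := by
      intro i
      by_cases h : i = 0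
      · rw [h]
      obtain ⟨j, -, -, g, hg, gi, gj⟩ := s3_three (by omega) h
      obtain ⟨a, rfl⟩ := hr.ge hg
      have hfix : ∀ x, ψ u (σ.comp (inclusion hE) a x) = ψ u x := fun x => by
        have e2 := d.conj (inclusion hE a) u (hU hu) (σ.comp (inclusion hE) a x)
        have e3 : (a : G) * u * (a : G)⁻¹ = u := by
          rw [mem_centralizer_iff.1 e.2 a a.2]; group
        change ψ ((a : G) * u * (a : G)⁻¹) _ = ψ u ((σ.comp (inclusion hE) a)⁻¹ _) at e2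
        rw [e3] at e2
        simpa using e2
      rw [← gj, hfix, ← gi, hfix]
    have hs := d.even u (hU hu)
    rw [Finset.sum_congr rfl fun i _ => hc i, Finset.sum_const, Finset.card_univ, Fintype.card_fin,
      nsmul_eq_mul] at hs
    push_cast at hs
    rw [show (2 : ZMod 2) = 0 from rfl, zero_mul, zero_add, one_mul] at hs
    ext i
    rw [hc i, hs]; rfl

theorem s3_main [Finite G] {N m : ℕ} (hN : N = 2 * m + 1) (hm : 1 ≤ m) {B V K E : Subgroup G}
    {σ : K →* Equiv.Perm (Fin N)} {ψ} (eqV : V = OZ 2 (pCore 2 G))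
    (d : PermData N K ⁅V, K⁆ (⁅V, K⁆ ⊓ 𝐂⟮K⟯) σ ψ) (ker : σ.ker = 𝐂⟮V⟯.subgroupOf K) (hE : E ≤ K)
    (res : pResOf 2 E = E) (img : (E.subgroupOf K).map σ = alternatingGroup (Fin N))
    (VE : ⁅V, E⁆ ≤ E) (cB : ⁅E, B⁆ = E) (h : E ⊓ 𝐂⟮V⟯ ≤ ⁅V, E⁆) :
    BD 2 B E ∧ pCoreOf 2 E = E ⊓ 𝐂⟮V⟯ := by
  subst hN
  haveI : Fact (Nat.Prime 2) := ⟨Nat.prime_two⟩
  have nV : ∀ X : Subgroup G, X ≤ 𝐍⟮V⟯ := fun X => by
    rw [eqV]
    refine le_trans ?_ (normalizer_le_normalizer_omegaOneCenter _)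
    rw [normalizer_eq_top]; exact le_top
  have hV : ∀ X : Subgroup G, ⁅V, X⁆ ≤ V := fun X => commutator_le_left_of_le_normalizer (nV X)
  have hVV : V ≤ 𝐂⟮V⟯ := by
    rw [eqV]; exact (omegaOneCenter_le _).trans (le_centralizer_omegaOneCenter _)
  have hV2 : ∀ v ∈ V, v ^ 2 = 1 := fun v hv => by
    rw [eqV] at hv; exact (mem_omegaOneCenter.1 hv).2.2
  have pV : IsPGroup 2 V := fun v => ⟨1, Subtype.ext (by simpa using hV2 v v.2)⟩
  have hQ : E ⊓ 𝐂⟮V⟯ = ⁅V, E⁆ := le_antisymm h (le_inf VE ((hV E).trans hVV))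
  have hr : (σ.comp (inclusion hE)).range = alternatingGroup (Fin (2 * m + 1)) := by
    rw [← img, MonoidHom.range_comp, inclusion_range]
  have hk : ∀ e : E, σ.comp (inclusion hE) e = 1 ↔ (e : G) ∈ 𝐂⟮V⟯ := fun e => by
    rw [MonoidHom.comp_apply, ← MonoidHom.mem_ker, ker, mem_subgroupOf]; rfl
  have hker : pCore 2 E = (σ.comp (inclusion hE)).ker := by
    apply le_antisymm
    · let τ : E →* alternatingGroup (Fin (2 * m + 1)) :=
        (σ.comp (inclusion hE)).codRestrict _ fun e => hr ▸ ⟨e, rfl⟩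
      have hτ : Function.Surjective τ := fun g => by
        obtain ⟨e, he⟩ := hr.ge g.2
        exact ⟨e, Subtype.ext he⟩
      haveI : ((pCore 2 E).map τ).Normal := Normal.map inferInstance τ hτ
      have := s3_alt (by omega) ((pCore 2 E).map τ) (isPGroup_pCore.map τ)
      intro e he
      have h1 : τ e ∈ (pCore 2 E).map τ := mem_map_of_mem τ he
      rw [this, mem_bot] at h1
      exact congrArg Subtype.val h1
    · intro e he
      have h1 : (e : G) ∈ ⁅V, E⁆ := h ⟨e.2, (hk e).1 he⟩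
      exact mem_pCoreOf.1 (le_pCoreOf VE (right_le_normalizer_commutator _ _) (pV.to_le (hV E)) h1)
  have hcore : pCoreOf 2 E = ⁅V, E⁆ := by
    rw [← hQ]
    ext x
    constructor
    · rintro ⟨e, he, rfl⟩
      exact ⟨e.2, (hk e).1 (hker.le he)⟩
    · rintro ⟨h1, h2⟩
      exact ⟨⟨x, h1⟩, hker.ge ((hk ⟨x, h1⟩).2 h2), rfl⟩
  have hOZ : OZ 2 ⁅V, E⁆ = ⁅V, E⁆ := le_antisymm (omegaOneCenter_le _) fun x hx =>
    mem_omegaOneCenter.2 ⟨hx, centralizer_le (SetLike.coe_subset_coe.2 (hV E)) (hVV (hV E hx)),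
      hV2 x (hV E hx)⟩
  refine ⟨⟨res, cB, ?_, Or.inr ⟨rfl, m, ⟨?_⟩, ?_, ?_⟩⟩, hcore.trans hQ.symm⟩
  · rw [hcore]; exact comm_eq_of_res res pV (nV E)
  · exact (QuotientGroup.quotientMulEquivOfEq hker).trans
      ((QuotientGroup.quotientKerEquivRange _).trans (MulEquiv.subgroupCongr hr))
  · rw [hcore, hOZ]
    exact actsAsPerm_iff.2 ⟨_, ψ, s3_perm hm d hE (hV K) hr, hr⟩
  · rw [hcore, hOZ]

theorem ps3 : PS3.{u} := by
  intro G _ _ T M V K E n σ ψ _ sd sb h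
  obtain ⟨k, rfl⟩ : ∃ k, n = k + 1 := ⟨n - 1, by have := sd.pos; omega⟩
  exact s3_main (m := 2 ^ k) (by rw [pow_succ']) Nat.one_le_two_pow sd.eqV sd.perm sd.ker sb.le sb.res
    sb.img sb.VE sb.cB h

end Cfsg.Agent.Spc.Pu
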