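import Mathlib
import Cfsg.Agent.LocalEven.SylowIn

/-! Permutation group facts for the symmetric block. -/

namespace Cfsg.Agent.Spc.Pu

open Subgroup Cfsg.Agent.LocalEven Equiv

theorem s4_pt {n : ℕ} (hn : 1 ≤ n) {P : Subgroup (Perm (Fin (2 ^ n + 1)))} (hP : IsSylowIn 2 P ⊤) :
    ∃ i₀, (∀ g ∈ P, g i₀ = i₀) ∧ ∀ i j, i ≠ i₀ → j ≠ i₀ → ∃ g ∈ P, g i = j := by
  have : Fact (Nat.Prime 2) := ⟨Nat.prime_two⟩
  have h2 : 2 ∣ 2 ^ n := dvd_pow_self 2 (by omega)
  have h2' : 2 ≤ 2 ^ n := Nat.le_of_dvd (by positivity) h2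
  obtain ⟨i₀, hi⟩ := hP.pgrp.nonempty_fixed_point_of_prime_not_dvd_card (Fin (2 ^ n + 1)) (by
    simp only [Nat.card_eq_fintype_card, Fintype.card_fin]; omega)
  have hfix : ∀ g ∈ P, g i₀ = i₀ := fun g hg => hi ⟨g, hg⟩
  refine ⟨i₀, hfix, ?_⟩
  obtain ⟨c, hc⟩ := (Perm.exists_with_cycleType_iff (Fin (2 ^ n + 1)) (m := {2 ^ n})).2 ⟨by simp, by simpa using h2'⟩
  have c1 : c.IsCycle := Perm.card_cycleType_eq_one.1 (by rw [hc]; simp)
  have c2 : c.support.card = 2 ^ n := by rw [← Perm.sum_cycleType, hc]; simp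
  obtain ⟨h, -, hh⟩ := hP.exists_conj_mem (mem_top c) (k := n) (orderOf_dvd_iff_pow_eq_one.1 (c1.orderOf.trans c2).dvd)
  have d1 : (h * c * h⁻¹).IsCycle := c1.conj
  have d2 : (h * c * h⁻¹).support = Finset.univ.erase i₀ := by
    apply Finset.eq_of_subset_of_card_le
    · intro x hx
      rw [Finset.mem_erase]
      refine ⟨?_, Finset.mem_univ _⟩
      rintro rfl
      exact Perm.mem_support.1 hx (hfix _ hh)
    · rw [Perm.card_support_conj, c2]; simp
  intro i j hi hj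
  obtain ⟨k, hk⟩ := d1.exists_pow_eq (x := i) (y := j) (Perm.mem_support.1 (by rw [d2]; simpa using hi))
    (Perm.mem_support.1 (by rw [d2]; simpa using hj))
  exact ⟨_, P.pow_mem hh k, hk⟩

theorem s4_stab {N m : ℕ} (h : N = m + 1) (i₀ : Fin N) (D : Subgroup (Perm (Fin N)))
    (hD : ∀ g, g ∈ D ↔ g ∈ alternatingGroup (Fin N) ∧ g i₀ = i₀) :
    Nonempty (D ≃* alternatingGroup (Fin m)) := by
  let φ : alternatingGroup {x : Fin N // x ≠ i₀} →* Perm (Fin N) :=
    (Perm.ofSubtype : Perm {x : Fin N // x ≠ i₀} →* Perm (Fin N)).comp (alternatingGroup _).subtype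
  have hφ : Function.Injective φ := Perm.ofSubtype_injective.comp (subtype_injective _)
  have hr : φ.range = D := by
    ext g
    rw [hD]
    constructor
    · rintro ⟨x, rfl⟩
      exact ⟨Perm.mem_alternatingGroup.2 ((Perm.sign_ofSubtype x.1).trans (Perm.mem_alternatingGroup.1 x.2)),
        Perm.ofSubtype_apply_of_not_mem x.1 (by simp)⟩
    · rintro ⟨h1, h2⟩
      have k1 : ∀ x, g x ≠ i₀ ↔ x ≠ i₀ := fun x => by
        conv_lhs => rw [← h2]
        exact g.injective.ne_iff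
      have k2 : ∀ x, g x ≠ x → x ≠ i₀ := fun x hx e => hx (e ▸ h2)
      exact ⟨⟨g.subtypePerm k1, Perm.mem_alternatingGroup.2
        ((Perm.sign_subtypePerm g k1 k2).trans (Perm.mem_alternatingGroup.1 h1))⟩, Perm.ofSubtype_subtypePerm k1 k2⟩
  have e : {x : Fin N // x ≠ i₀} ≃ Fin m := Fintype.equivFinOfCardEq (by simp [h])
  exact ⟨((MulEquiv.subgroupCongr hr.symm).trans (MonoidHom.ofInjective hφ).symm).trans e.altCongrHom⟩

theorem s4_deg {a b : ℕ} (hb : 2 ≤ b)
    (e : alternatingGroup (Fin (a + 1)) ≃* alternatingGroup (Fin (b + 1))) : a = b := by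
  have h1 := Nat.card_congr e.toEquiv
  have : Nontrivial (Fin (b + 1)) := Fin.nontrivial_iff_two_le.2 (by omega)
  have h2 := two_mul_nat_card_alternatingGroup (α := Fin (b + 1))
  rw [Nat.card_perm, Nat.card_eq_fintype_card (α := Fin (b + 1)), Fintype.card_fin] at h2
  have h6 : Nat.factorial 3 ≤ (b + 1).factorial := Nat.factorial_le (by omega)
  rcases Nat.eq_zero_or_pos a with rfl | ha
  · have : Subsingleton (alternatingGroup (Fin (0 + 1))) :=
      ⟨fun x y => Subtype.ext (Equiv.ext fun i => Subsingleton.elim (α := Fin 1) _ _)⟩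
    have : Nat.card (alternatingGroup (Fin (0 + 1))) = 1 := Nat.card_unique
    rw [← h1, this] at h2
    rw [← h2] at h6
    exact absurd h6 (by decide)
  · have : Nontrivial (Fin (a + 1)) := Fin.nontrivial_iff_two_le.2 (by omega)
    have h3 := two_mul_nat_card_alternatingGroup (α := Fin (a + 1))
    rw [Nat.card_perm, Nat.card_eq_fintype_card (α := Fin (a + 1)), Fintype.card_fin, h1, h2] at h3
    have := (Nat.factorial_inj (by omega)).1 h3
    omega

theorem s4_hom {S G : Type*} [Group S] [Finite S] [Group G] {P : Subgroup S} (hP : IsSylowIn 2 P ⊤) (φ : S →* G)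
    (h1 : P ≤ φ.ker) (h2 : ∀ s, φ s ^ 2 = 1) (s : S) : φ s = 1 := by
  have : Fact (Nat.Prime 2) := ⟨Nat.prime_two⟩
  by_contra hne
  apply hP.not_dvd_of_le h1
  rw [relIndex_top_right, index_ker, ← orderOf_eq_prime (h2 s) hne]
  exact φ.range.orderOf_dvd_natCard ⟨s, rfl⟩

end Cfsg.Agent.Spc.Pu
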