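import Cfsg.Agent.Spc.PuDef
import Cfsg.Agent.Spc.PuS4a

/-! The symmetric block is a subnormal block outside `M`. -/

namespace Cfsg.Agent.Spc.Pu

open Subgroup Cfsg.Agent.LocalEven Cfsg.Agent.PLocal Cfsg.Agent.Push Cfsg.Agent.BHS
open Cfsg.Agent.Glaub hiding cent_anti
open scoped commutatorElement MatrixGroups

universe u

theorem s4_cen {G : Type u} [Group G] [Finite G] {T M V K : Subgroup G} {n : ℕ} {σ ψ} (h0 : Set0 2 T M)
    (hd : SD T M V K n σ ψ) (hs : IsSylowIn 2 (T.subgroupOf K) ⊤) {i₀ : Fin (2 ^ n + 1)}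
    (hf : ∀ t : K, t.1 ∈ T → σ t i₀ = i₀)
    (ht : ∀ i j, i ≠ i₀ → j ≠ i₀ → ∃ t : K, t.1 ∈ T ∧ σ t i = j) (k : K) (hk : σ k i₀ = i₀) :
    k.1 ∈ 𝐂⟮OZ 2 T⟯ := by
  have : Fact (Nat.Prime 2) := ⟨Nat.prime_two⟩
  have hOT : pCore 2 G ≤ T := pCoreOf_top (p := 2) (G := G) ▸ h0.syl.pCoreOf_le
  have hVn : ∀ g : G, g ∈ 𝐍⟮V⟯ := fun g => by
    rw [hd.eqV]
    exact normalizer_le_normalizer_omegaOneCenter _ (by rw [normalizer_eq_top]; trivial)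
  have hV2 : ∀ v ∈ V, v ^ 2 = 1 := fun v hv => (mem_omegaOneCenter.1 (hd.eqV ▸ hv)).2.2
  have hUV : ⁅V, K⁆ ≤ V := commutator_le.2 fun v hv g _ => by
    rw [commutatorElement_def, mul_assoc, mul_assoc, ← mul_assoc g]
    exact V.mul_mem hv ((mem_normalizer_iff.1 (hVn g) _).1 (V.inv_mem hv))
  intro z hz
  obtain ⟨z1, z2, z3⟩ := mem_omegaOneCenter.1 hz
  have z4 : z ∈ 𝐂⟮pCore 2 G⟯ := centralizer_le hOT z2
  have zV : z ∈ V := hd.eqV ▸ mem_omegaOneCenter.2 ⟨h0.cen z4, z4, z3⟩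
  have hVc : V ≤ 𝐂⟮V⟯ := by
    rw [hd.eqV]
    exact (omegaOneCenter_le _).trans (le_centralizer_omegaOneCenter _)
  have hn : ⁅V, K⁆ ≤ 𝐍⟮V ⊓ 𝐂⟮K⟯⟯ := fun u hu =>
    centralizer_le_normalizer _ (centralizer_le (inf_le_left : V ⊓ 𝐂⟮K⟯ ≤ V) (hVc (hUV hu)))
  obtain ⟨u, hu, c, hc, rfl⟩ := (mem_sup_iff_of_le_normalizer hn).1 (hd.dec zV)
  have ufix : ∀ t : K, t.1 ∈ T → t.1 * u * t.1⁻¹ = u := fun t tT => by
    have e1 : t.1 * (u * c) = u * c * t.1 := z2 _ tT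
    have e2 : t.1 * c = c * t.1 := hc.2 _ t.2
    rw [mul_inv_eq_iff_eq_mul]
    apply mul_right_cancel (b := c)
    rw [mul_assoc u, e2, ← mul_assoc u, ← e1, mul_assoc]
  have hconst : ∀ i j, i ≠ i₀ → j ≠ i₀ → ψ u i = ψ u j := fun i j hi hj => by
    obtain ⟨t, tT, e⟩ := ht i j hi hj
    have := hd.perm.conj t u hu j
    rw [ufix t tT, ← e] at this
    rw [← e, this]; simp
  let S : Subgroup K := (MulAction.stabilizer (Equiv.Perm (Fin (2 ^ n + 1))) i₀).comap σ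
  have hU : ∀ s : K, s.1 * u * s.1⁻¹ ∈ ⁅V, K⁆ := fun s => (mem_normalizer_iff.1 (hd.perm.norm s.2) u).1 hu
  have ui : u⁻¹ = u := by rw [inv_eq_iff_mul_eq_one, ← pow_two, hV2 u (hUV hu)]
  have hcen : ∀ s : S, s.1.1 * u * s.1.1⁻¹ * u⁻¹ ∈ ⁅V, K⁆ ⊓ 𝐂⟮K⟯ := fun s => by
    rw [ui, ← hd.perm.ker _ (mul_mem (hU s.1) hu), hd.perm.mul _ (hU s.1) _ hu]
    funext i
    have s0 : σ s.1 i₀ = i₀ := s.2
    have : ψ u ((σ s.1)⁻¹ i) = ψ u i := by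
      by_cases hi : i = i₀
      · rw [hi, Equiv.Perm.inv_eq_iff_eq.2 s0.symm]
      · exact hconst _ _ (fun e => hi ((Equiv.Perm.inv_eq_iff_eq.1 e).trans s0)) hi
    rw [Pi.add_apply, hd.perm.conj s.1 u hu i, this]
    exact CharTwo.add_self_eq_zero _
  let φ : S →* G := MonoidHom.mk' (fun s => s.1.1 * u * s.1.1⁻¹ * u⁻¹) fun a b => by
    have e : a.1.1 * (b.1.1 * u * b.1.1⁻¹ * u⁻¹) = (b.1.1 * u * b.1.1⁻¹ * u⁻¹) * a.1.1 := (hcen b).2 _ a.1.2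
    have e' : (b.1.1 * u * b.1.1⁻¹ * u⁻¹) * (a.1.1 * u * a.1.1⁻¹ * u⁻¹) =
        (a.1.1 * u * a.1.1⁻¹ * u⁻¹) * (b.1.1 * u * b.1.1⁻¹ * u⁻¹) := hVc (hUV (hcen a).1) _ (hUV (hcen b).1)
    show (a.1.1 * b.1.1) * u * (a.1.1 * b.1.1)⁻¹ * u⁻¹ = _
    rw [← e', ← mul_assoc _ _ u⁻¹, ← mul_assoc _ _ a.1.1⁻¹, ← mul_assoc _ _ u, ← e]
    group
  have hTS : T.subgroupOf K ≤ S := fun t tT => hf t tT
  have hS : IsSylowIn 2 ((T.subgroupOf K).subgroupOf S) ⊤ := by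
    have := (hs.mono hTS le_top).subgroupOf le_rfl
    rwa [subgroupOf_self] at this
  have h1 := s4_hom hS φ (fun t tT => by
    show t.1.1 * u * t.1.1⁻¹ * u⁻¹ = 1
    rw [ufix t.1 tT, mul_inv_cancel]) (fun s => hV2 _ (hUV (hcen s).1)) ⟨k, hk⟩
  have h2 : k.1 * u * k.1⁻¹ * u⁻¹ = 1 := h1
  have h3 : k.1 * u = u * k.1 := by rw [← mul_inv_eq_iff_eq_mul, ← mul_inv_eq_one]; exact h2
  have e2 : k.1 * c = c * k.1 := hc.2 _ k.2
  rw [mul_assoc, ← e2, ← mul_assoc, ← h3, mul_assoc]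

theorem ps4b : PS4.{u} := by
  intro G _ _ T M V K E n σ ψ h0 hd hb hBD hcore
  have : Fact (Nat.Prime 2) := ⟨Nat.prime_two⟩
  have hs : IsSylowIn 2 (T.subgroupOf K) ⊤ := by
    have := (sylow_inf_subnormal h0.syl.toSylowTop hd.sub).subgroupOf le_rfl
    rwa [subgroupOf_self, inf_subgroupOf_right] at this
  have hP := hs.map σ
  rw [← MonoidHom.range_eq_map, MonoidHom.range_eq_top.2 hd.surj] at hP
  obtain ⟨i₀, f1, f2⟩ := s4_pt hd.pos hP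
  have hf : ∀ t : K, t.1 ∈ T → σ t i₀ = i₀ := fun t tT => f1 _ ⟨t, tT, rfl⟩
  have ht : ∀ i j, i ≠ i₀ → j ≠ i₀ → ∃ t : K, t.1 ∈ T ∧ σ t i = j := fun i j hi hj => by
    obtain ⟨_, ⟨t, tT, rfl⟩, e⟩ := f2 i j hi hj
    exact ⟨t, tT, e⟩
  have cen := s4_cen h0 hd hs hf ht
  have inM : ∀ k : K, σ k i₀ = i₀ → k.1 ∈ M := fun k hk => h0.z (cen k hk)
  have ofM : ∀ k : K, k.1 ∈ M → σ k i₀ = i₀ := fun k hk => by
    by_contra hne
    refine hd.nle fun x hx => ?_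
    by_cases hx0 : σ ⟨x, hx⟩ i₀ = i₀
    · exact inM _ hx0
    obtain ⟨t, tT, e⟩ := ht _ _ hne hx0
    have := inM ((t * k)⁻¹ * ⟨x, hx⟩) (by
      rw [map_mul, map_inv, Equiv.Perm.mul_apply, Equiv.Perm.inv_eq_iff_eq, map_mul, Equiv.Perm.mul_apply, e])
    exact (M.mul_mem_cancel_left (M.inv_mem (M.mul_mem (h0.min.le tT) hk))).1 this
  have h2n : 2 ≤ 2 ^ n := Nat.le_of_dvd (by positivity) (dvd_pow_self 2 (by have := hd.pos; omega))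
  have nle : ¬ E ≤ M := fun h => by
    have := alternatingGroup.isPretransitive_of_three_le_card (α := Fin (2 ^ n + 1)) (by simp; omega)
    have : Nontrivial (Fin (2 ^ n + 1)) := Fin.nontrivial_iff_two_le.2 (by omega)
    obtain ⟨j, hj⟩ := exists_ne i₀
    obtain ⟨⟨g, hg⟩, e⟩ := MulAction.exists_smul_eq (alternatingGroup (Fin (2 ^ n + 1))) i₀ j
    rw [← hb.img] at hg
    obtain ⟨k, hk, rfl⟩ := hg
    exact hj (e.symm.trans (ofM k (h hk)))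
  have hVn : K ≤ 𝐍⟮V⟯ := fun g _ => by
    rw [hd.eqV]
    exact normalizer_le_normalizer_omegaOneCenter _ (by rw [normalizer_eq_top]; trivial)
  let τ : E →* Equiv.Perm (Fin (2 ^ n + 1)) := σ.comp (inclusion hb.le)
  have hker : τ.ker = pCore 2 E := by
    ext x
    rw [← mem_pCoreOf, hcore]
    change inclusion hb.le x ∈ σ.ker ↔ _
    rw [hd.ker]
    exact ⟨fun h => ⟨x.2, h⟩, fun h => h.2⟩
  have hr : τ.range = alternatingGroup (Fin (2 ^ n + 1)) := by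
    rw [← hb.img]
    ext g
    exact ⟨fun ⟨x, hx⟩ => ⟨inclusion hb.le x, x.2, hx⟩, fun ⟨k, hk, e⟩ => ⟨⟨k.1, hk⟩, e⟩⟩
  have e1 : (E ⧸ pCore 2 E) ≃* alternatingGroup (Fin (2 ^ n + 1)) :=
    ((QuotientGroup.quotientMulEquivOfEq hker.symm).trans (QuotientGroup.quotientKerEquivRange τ)).trans
      (MulEquiv.subgroupCongr hr)
  refine ⟨isBlock_iff.2 ⟨hBD, fun h => nle ((commutator_eq_bot_iff_le_centralizer.1 h).trans h0.z)⟩,
    IsSubnormal.trans hb.le ((normal_subgroupOf_iff_le_normalizer hb.le).2 hb.nK).isSubnormal hd.sub, nle,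
    fun x hx => (le_sup_left : 𝐂⟮OZ 2 T⟯ ≤ cStarOf 2 T) (cen ⟨x, hb.le hx.2⟩ (ofM _ hx.1)),
    ⟨Bm 2 T ⊓ (K ⊓ centMod V ⁅V, E⁆), inf_le_left, ?_, ?_⟩, ?_, ?_⟩
  · rw [← hd.eqV]
    exact commutator_le.2 fun v hv y hy => hb.VE (hy.2.2.2 v hv)
  · intro e he hY
    refine inM ⟨e, hb.le he⟩ ?_
    by_contra hne
    obtain ⟨a, aT, x, y, xy, ha⟩ := hd.ex
    have x0 : x ≠ i₀ := fun h => by
      have := hf a aT
      rw [ha, ← h, Equiv.swap_apply_left] at this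
      exact xy this.symm
    obtain ⟨t, tT, et⟩ := ht x ((σ ⟨e, hb.le he⟩)⁻¹ i₀) x0 fun h => hne (Equiv.Perm.inv_eq_iff_eq.1 h).symm
    have ea : σ (t * a * t⁻¹) = Equiv.swap (σ t x) (σ t y) := by
      rw [map_mul, map_mul, map_inv, ha, Equiv.swap_apply_apply]
    obtain ⟨w, w1, w2, -, w4, -⟩ := hb.lift (t * a * t⁻¹) (T.mul_mem (T.mul_mem tT aT) (T.inv_mem tT))
      ⟨_, _, (σ t).injective.ne xy, ea⟩
    have wY : w.1 ∈ Bm 2 T ⊓ (K ⊓ centMod V ⁅V, E⁆) :=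
      ⟨w1, w.2, le_normalizer_commutator hVn hb.nK w.2, fun v hv =>
        w4 (commutator_mem_commutator hv (mem_zpowers _))⟩
    have := ofM (⟨e, hb.le he⟩ * w * ⟨e, hb.le he⟩⁻¹) (hY (conj_mem_cj wY))
    rw [map_mul, map_mul, map_inv, Equiv.Perm.mul_apply, Equiv.Perm.mul_apply, ← Equiv.Perm.eq_inv_iff_eq, ← et,
      w2, ea, Equiv.swap_apply_left] at this
    exact xy ((σ t).injective this).symm
  · obtain ⟨m, hm⟩ : 2 ∣ 2 ^ n := dvd_pow_self 2 (by have := hd.pos; omega)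
    refine Or.inr (Or.inl ⟨rfl, m, ⟨e1.trans (finCongr (by rw [hm])).altCongrHom⟩, ?_⟩)
    let l : (E ⧸ pCore 2 E) →* Equiv.Perm (Fin (2 ^ n + 1)) := QuotientGroup.lift _ τ hker.ge
    have hl : Function.Injective l := by
      rw [injective_iff_map_eq_one]
      intro q hq
      obtain ⟨x, rfl⟩ := QuotientGroup.mk_surjective q
      exact (QuotientGroup.eq_one_iff x).2 (hker.le hq)
    obtain ⟨e2⟩ := s4_stab (m := 2 * m) (by rw [hm]) i₀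
      ((((M ⊓ E).subgroupOf E).map (QuotientGroup.mk' (pCore 2 E))).map l) fun g => by
        constructor
        · rintro ⟨_, ⟨x, hx, rfl⟩, rfl⟩
          exact ⟨hr ▸ ⟨x, rfl⟩, ofM (inclusion hb.le x) hx.1⟩
        · rintro ⟨h1, h2⟩
          rw [← hr] at h1
          obtain ⟨x, rfl⟩ := h1
          exact ⟨_, ⟨x, ⟨inM (inclusion hb.le x) h2, x.2⟩, rfl⟩, rfl⟩
    exact ⟨(equivMapOfInjective _ l hl).trans e2⟩
  · rintro m ⟨e⟩
    exact ⟨n, by rw [s4_deg h2n (e.symm.trans e1)]⟩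

end Cfsg.Agent.Spc.Pu
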