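import Cfsg.Agent.BHS.SL
import Mathlib

/-! Small facts on `SL₂` used for the type of a linear block. -/

namespace Cfsg.Agent.Spc.Pu

open Subgroup Cfsg.Agent.BHS
open scoped commutatorElement MatrixGroups

section
variable {F : Type*} [Field F]

theorem t0_ent (g : SL(2, F)) : g 0 0 * g 1 1 - g 0 1 * g 1 0 = 1 := by
  have := g.2
  rwa [Matrix.det_fin_two] at this

theorem t0_mul (g h : SL(2, F)) (i j : Fin 2) : (g * h) i j = g i 0 * h 0 j + g i 1 * h 1 j := by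
  simp [Matrix.mul_apply, Fin.sum_univ_two]

theorem t0_one : (1 : SL(2, F)) 0 0 = 1 ∧ (1 : SL(2, F)) 0 1 = 0 ∧ (1 : SL(2, F)) 1 0 = 0 ∧
    (1 : SL(2, F)) 1 1 = 1 := by simp

theorem t0_ext {g h : SL(2, F)} (h0 : g 0 0 = h 0 0) (h1 : g 0 1 = h 0 1) (h2 : g 1 0 = h 1 0)
    (h3 : g 1 1 = h 1 1) : g = h := by
  ext i j; fin_cases i <;> fin_cases j <;> assumption

theorem t0_odd (h2 : (2 : F) ≠ 0) {a b : SL(2, F)} (ha : a * a = 1) (hb : b * b = 1) (a1 : a ≠ 1)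
    (b1 : b ≠ 1) : a = b := by
  have key : ∀ g : SL(2, F), g * g = 1 → g ≠ 1 →
      g 0 0 = -1 ∧ g 0 1 = 0 ∧ g 1 0 = 0 ∧ g 1 1 = -1 := fun g hg g1 => by
    obtain ⟨o0, o1, o2, o3⟩ := t0_one (F := F)
    have e0 := t0_mul g g 0 0
    have e1 := t0_mul g g 0 1
    have e2 := t0_mul g g 1 0
    rw [hg] at e0 e1 e2
    rw [o0] at e0; rw [o1] at e1; rw [o2] at e2
    have d := t0_ent g
    have ht : g 0 0 + g 1 1 ≠ 0 := fun h => h2 (by linear_combination e0 - d + g 0 0 * h)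
    have hb : g 0 1 = 0 := (mul_eq_zero.1 (show g 0 1 * (g 0 0 + g 1 1) = 0 by
      linear_combination -e1)).resolve_right ht
    have hc : g 1 0 = 0 := (mul_eq_zero.1 (show g 1 0 * (g 0 0 + g 1 1) = 0 by
      linear_combination -e2)).resolve_right ht
    have hs : g 0 0 * g 0 0 = 1 := by rw [hb] at e0; linear_combination -e0
    have hd : g 0 0 * g 1 1 = 1 := by rw [hb] at d; linear_combination d
    rcases mul_self_eq_one_iff.1 hs with h | h
    · exact absurd (t0_ext (h.trans o0.symm) (hb.trans o1.symm) (hc.trans o2.symm)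
        (by rw [o3]; rw [h] at hd; linear_combination hd)) g1
    · exact ⟨h, hb, hc, by rw [h] at hd; linear_combination -hd⟩
  obtain ⟨x0, x1, x2, x3⟩ := key a ha a1
  obtain ⟨y0, y1, y2, y3⟩ := key b hb b1
  exact t0_ext (x0.trans y0.symm) (x1.trans y1.symm) (x2.trans y2.symm) (x3.trans y3.symm)

theorem t0_even (h2 : (2 : F) = 0) {g : SL(2, F)} (hg : g * g * (g * g) = 1) : g * g = 1 := by
  obtain ⟨o0, o1, o2, o3⟩ := t0_one (F := F)
  have tr : ∀ h : SL(2, F), h * h = 1 → h 0 0 + h 1 1 = 0 := fun h hh => by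
    have e0 := t0_mul h h 0 0
    have e3 := t0_mul h h 1 1
    rw [hh] at e0 e3
    rw [o0] at e0; rw [o3] at e3
    have d := t0_ent h
    refine pow_eq_zero_iff (two_ne_zero) |>.1 ?_
    linear_combination -e0 - e3 + 2 * d + 2 * h2
  have h1 := tr _ hg
  have d := t0_ent g
  rw [t0_mul, t0_mul] at h1
  have ht : g 0 0 + g 1 1 = 0 := by
    refine pow_eq_zero_iff (two_ne_zero) |>.1 ?_
    linear_combination h1 + 2 * d + h2
  refine t0_ext ?_ ?_ ?_ ?_ <;> rw [t0_mul]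
  · rw [o0]; linear_combination g 0 0 * ht - d - h2
  · rw [o1]; linear_combination g 0 1 * ht
  · rw [o2]; linear_combination g 1 0 * ht
  · rw [o3]; linear_combination g 1 1 * ht - d - h2

end

/-- Transport of `SL₂` along a ring isomorphism. -/
noncomputable def t0_sl {F F' : Type*} [Field F] [Field F'] (e : F ≃+* F') :
    SL(2, F) ≃* SL(2, F') :=
  MonoidHom.toMulEquiv (Matrix.SpecialLinearGroup.map e.toRingHom)
    (Matrix.SpecialLinearGroup.map e.symm.toRingHom)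
    (by ext g i j; simp) (by ext g i j; simp)

theorem t0_c2 : Nat.card (commutator SL(2, ZMod 2)) = 3 := by
  have h1 : ∀ a b : SL(2, ZMod 2), a ^ 3 = 1 → b ^ 3 = 1 → (a * b) ^ 3 = 1 := by decide +kernel
  have h2 : ∀ a b : SL(2, ZMod 2), (a * b * a⁻¹ * b⁻¹) ^ 3 = 1 := by decide +kernel
  let X : Subgroup SL(2, ZMod 2) := ⟨⟨⟨{g | g ^ 3 = 1}, fun ha hb => h1 _ _ ha hb⟩, one_pow 3⟩,
    fun {a} (ha : a ^ 3 = 1) => show a⁻¹ ^ 3 = 1 by rw [inv_pow, ha, inv_one]⟩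
  have e : commutator SL(2, ZMod 2) = X := by
    refine le_antisymm (commutator_le.2 fun a _ b _ => h2 a b) fun g hg => ?_
    refine mem_comm_of_coprime (p := 2) (Nat.Coprime.coprime_dvd_left
      (orderOf_dvd_of_pow_eq_one hg) (by norm_num))
  rw [e]
  have : Nat.card X = Fintype.card {g : SL(2, ZMod 2) // g ^ 3 = 1} := by
    rw [← Nat.card_eq_fintype_card]; rfl
  rw [this]
  decide +kernel

theorem t0_c3 {g : SL(2, ZMod 3)} (hg : g ∈ commutator SL(2, ZMod 3)) : g ^ 4 = 1 := by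
  have h1 : ∀ a b : SL(2, ZMod 3), a ^ 4 = 1 → b ^ 4 = 1 → (a * b) ^ 4 = 1 := by decide +kernel
  have h2 : ∀ a b : SL(2, ZMod 3), (a * b * a⁻¹ * b⁻¹) ^ 4 = 1 := by decide +kernel
  let X : Subgroup SL(2, ZMod 3) := ⟨⟨⟨{g | g ^ 4 = 1}, fun ha hb => h1 _ _ ha hb⟩, one_pow 4⟩,
    fun {a} (ha : a ^ 4 = 1) => show a⁻¹ ^ 4 = 1 by rw [inv_pow, ha, inv_one]⟩
  exact (commutator_le.2 fun a _ b _ => h2 a b : commutator SL(2, ZMod 3) ≤ X) hg

theorem t0_12 (g : SL(2, ZMod 3)) : (g ^ 3) ^ 4 = 1 := by revert g; decide +kernel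

theorem t0_cen (u g : SL(2, ZMod 3)) : u ≠ 1 → u ^ 3 = 1 → g ^ 4 = 1 → g * u = u * g →
    g = 1 ∨ g = -1 := by revert u g; decide +kernel

theorem t0_cen' (g : SL(2, ZMod 3)) : (∀ h : SL(2, ZMod 3), h * h = -1 → h * g = g * h) →
    g = 1 ∨ g = -1 := by revert g; decide +kernel

theorem t0_a7 : (∃ a b : alternatingGroup (Fin 7), a * a = 1 ∧ b * b = 1 ∧ a ≠ 1 ∧ b ≠ 1 ∧ a ≠ b) ∧
    ∃ g : alternatingGroup (Fin 7), g * g * (g * g) = 1 ∧ g * g ≠ 1 := by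
  refine ⟨⟨⟨Equiv.swap 0 1 * Equiv.swap 2 3, Equiv.Perm.mem_alternatingGroup.2 ?_⟩,
    ⟨Equiv.swap 0 2 * Equiv.swap 1 3, Equiv.Perm.mem_alternatingGroup.2 ?_⟩,
    ?_, ?_, ?_, ?_, ?_⟩, ⟨Equiv.swap 0 1 * Equiv.swap 1 2 * Equiv.swap 2 3 * Equiv.swap 4 5,
    Equiv.Perm.mem_alternatingGroup.2 ?_⟩, ?_, ?_⟩
  · simp
  · simp
  · simp only [ne_eq, Subtype.ext_iff, coe_mul, coe_one]; decide
  · simp only [ne_eq, Subtype.ext_iff, coe_mul, coe_one]; decide
  · simp only [ne_eq, Subtype.ext_iff, coe_mul, coe_one]; decide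
  · simp only [ne_eq, Subtype.ext_iff, coe_mul, coe_one]; decide
  · simp only [ne_eq, Subtype.ext_iff, coe_mul, coe_one]; decide
  · simp
  · simp only [ne_eq, Subtype.ext_iff, coe_mul, coe_one]; decide
  · simp only [ne_eq, Subtype.ext_iff, coe_mul, coe_one]; decide

end Cfsg.Agent.Spc.Pu
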