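import Cfsg.Agent.Spc.PuDef
import Cfsg.Agent.Spc.PuT0
import Cfsg.Agent.AltS.F35

/-! The isomorphism type of a linear block. -/

namespace Cfsg.Agent.Spc.Pu

open Subgroup Cfsg.Agent.LocalEven Cfsg.Agent.PLocal Cfsg.Agent.Push Cfsg.Agent.BHS
open Cfsg.Agent.Glaub hiding cent_anti
open scoped commutatorElement MatrixGroups

universe u

variable {G : Type u} [Group G] [Finite G] {p : ℕ} [hp : Fact p.Prime] {B L M : Subgroup G}

theorem t_eps (h : AB p B L (L ⊓ M) (pCoreOf p L)) {F : Type*} [Field F] [_root_.CharP F p]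
    (ρ : L →* SL(2, F)) (s : Function.Surjective ρ) (k : ρ.ker = (pCoreOf p L).subgroupOf L) :
    ∃ ε : (↥(pResOf p L) ⧸ pCore p ↥(pResOf p L)) ≃* ↥(_root_.commutator SL(2, F)),
      ∀ e : pResOf p L, (ε (QuotientGroup.mk' _ e) : SL(2, F)) = ρ (inclusion (pResOf_le L) e) := by
  let φ := ρ.comp (inclusion (pResOf_le (p := p) L))
  have e1 : φ.ker = pCore p ↥(pResOf p L) := by
    ext x
    rw [← mem_pCoreOf, pCoreOf_eq_inf_of_le_normalizer (pResOf_le L) (le_normalizer_pResOf L),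
      mem_inf]
    have : x ∈ φ.ker ↔ inclusion (pResOf_le (p := p) L) x ∈ ρ.ker := Iff.rfl
    rw [this, k, mem_subgroupOf]
    exact ⟨fun e => ⟨e, x.2⟩, fun e => e.1⟩
  have e2 : φ.range = _root_.commutator SL(2, F) := by
    apply le_antisymm
    · rintro _ ⟨e, rfl⟩
      have : pResOf p L ≤ ((_root_.commutator SL(2, F)).comap ρ).map L.subtype :=
        pResOf_le_iff.2 fun x hx ho => ⟨⟨x, hx⟩, mem_comm_of_coprime (p := p)
          (Nat.Coprime.coprime_dvd_left ((orderOf_map_dvd ρ ⟨x, hx⟩).trans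
            (Subgroup.orderOf_coe (⟨x, hx⟩ : L)).symm.dvd) ho), rfl⟩
      obtain ⟨y, hy, hy'⟩ := this e.2
      have : y = inclusion (pResOf_le (p := p) L) e := Subtype.ext hy'
      subst this
      exact hy
    · haveI hn : φ.range.Normal := ⟨by
        rintro _ ⟨e, rfl⟩ g
        obtain ⟨l, rfl⟩ := s g
        refine ⟨⟨l * e * (l : G)⁻¹, (mem_normalizer_iff.1 (le_normalizer_pResOf L l.2) e).1 e.2⟩, ?_⟩
        change ρ _ = ρ l * ρ (inclusion (pResOf_le (p := p) L) e) * (ρ l)⁻¹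
        rw [← map_inv, ← map_mul, ← map_mul]
        rfl⟩
      rw [commutator_def, Subgroup.commutator_le]
      intro a _ b _
      obtain ⟨a, rfl⟩ := s a
      obtain ⟨b, rfl⟩ := s b
      obtain ⟨e, he, x, hx, ea⟩ := h.syl.exists_mul_eq a.2
      obtain ⟨e', he', y, hy, eb⟩ := h.syl.exists_mul_eq b.2
      have ea' : a = inclusion (pResOf_le (p := p) L) ⟨e, he⟩ * ⟨x, h.syl.le hx⟩ :=
        Subtype.ext ea.symm
      have eb' : b = inclusion (pResOf_le (p := p) L) ⟨e', he'⟩ * ⟨y, h.syl.le hy⟩ :=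
        Subtype.ext eb.symm
      rw [← QuotientGroup.eq_one_iff]
      let π := QuotientGroup.mk' φ.range
      have e1 : π (ρ (inclusion (pResOf_le (p := p) L) ⟨e, he⟩)) = 1 :=
        (QuotientGroup.eq_one_iff _).2 ⟨⟨e, he⟩, rfl⟩
      have e2 : π (ρ (inclusion (pResOf_le (p := p) L) ⟨e', he'⟩)) = 1 :=
        (QuotientGroup.eq_one_iff _).2 ⟨⟨e', he'⟩, rfl⟩
      have e3 : ρ ⁅(⟨x, h.syl.le hx⟩ : L), (⟨y, h.syl.le hy⟩ : L)⁆ = 1 := by
        rw [← MonoidHom.mem_ker, k, mem_subgroupOf]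
        exact h.ab (commutator_mem_commutator hx hy)
      change π ⁅ρ a, ρ b⁆ = 1
      rw [ea', eb', map_commutatorElement, map_mul, map_mul, map_mul, map_mul, e1, e2, one_mul,
        one_mul, ← map_commutatorElement, ← map_commutatorElement, e3, map_one]
  exact ⟨(QuotientGroup.quotientMulEquivOfEq e1.symm).trans
    ((QuotientGroup.quotientKerEquivRange _).trans (MulEquiv.subgroupCongr e2)), fun e => rfl⟩

theorem t_nle (h : AB p B L (L ⊓ M) (pCoreOf p L)) : ¬ pResOf p L ≤ M := fun k =>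
  h.min.lt.not_ge (h.syl.pResOf_sup.ge.trans (sup_le (le_inf (pResOf_le L) k) h.min.le))

theorem t_nQ (h : AB p B L (L ⊓ M) (pCoreOf p L)) : ¬ B ≤ pCoreOf p L := fun k =>
  h.min.not_le_normalizer' (by
    rw [le_antisymm k h.syl.pCoreOf_le]; exact le_normalizer_pCoreOf L)

theorem t_core (h : AB p B L (L ⊓ M) (pCoreOf p L)) {x : pResOf p L}
    (hx : x ∈ pCore p ↥(pResOf p L)) : (x : G) ∈ M := by
  rw [← mem_pCoreOf, pCoreOf_eq_inf_of_le_normalizer (pResOf_le L) (le_normalizer_pResOf L)] at hx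
  exact (h.min.le (h.syl.pCoreOf_le hx.1)).2

theorem t_mem (h : AB p B L (L ⊓ M) (pCoreOf p L)) (x : pResOf p L) :
    QuotientGroup.mk' (pCore p ↥(pResOf p L)) x ∈ ((M ⊓ pResOf p L).subgroupOf (pResOf p L)).map
      (QuotientGroup.mk' (pCore p ↥(pResOf p L))) ↔ (x : G) ∈ M := by
  refine ⟨?_, fun hx => ⟨x, ⟨hx, x.2⟩, rfl⟩⟩
  rintro ⟨y, hy, e⟩
  have h1 := t_core h (QuotientGroup.eq.1 e)
  have h2 := M.mul_mem (mem_subgroupOf.1 hy).1 h1
  simpa using h2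

theorem t_last (h : AB p B L (L ⊓ M) (pCoreOf p L)) {F : Type*} [Field F]
    (ε : (↥(pResOf p L) ⧸ pCore p ↥(pResOf p L)) ≃* ↥(_root_.commutator SL(2, F))) (m : ℕ)
    (A : (↥(pResOf p L) ⧸ pCore p ↥(pResOf p L)) ≃* ↥(alternatingGroup (Fin (2 * m + 1)))) :
    ∃ n : ℕ, 2 * m + 1 = 2 ^ n + 1 := by
  rcases Nat.lt_or_ge m 3 with hm | hm
  · interval_cases m
    · exfalso
      haveI : Subsingleton (Fin (2 * 0 + 1)) := inferInstanceAs (Subsingleton (Fin 1))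
      haveI : Subsingleton (↥(pResOf p L) ⧸ pCore p ↥(pResOf p L)) := A.toEquiv.subsingleton
      exact t_nle h fun x hx => t_core h (x := ⟨x, hx⟩)
        ((QuotientGroup.eq_one_iff _).1 (Subsingleton.elim _ _))
    · exact ⟨1, rfl⟩
    · exact ⟨2, rfl⟩
  · exfalso
    obtain ⟨ι, hι⟩ := Cfsg.Agent.AltS.f35_emb (n := 7) (r := 2 * m + 1) (by omega)
    let j : alternatingGroup (Fin 7) →* SL(2, F) := (_root_.commutator SL(2, F)).subtype.comp
      (ε.toMonoidHom.comp (A.symm.toMonoidHom.comp ι))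
    have hj : Function.Injective j :=
      Subtype.val_injective.comp (ε.injective.comp (A.symm.injective.comp hι))
    obtain ⟨⟨a, b, ha, hb, a1, b1, ab⟩, g, hg, g1⟩ := t0_a7
    by_cases h2 : (2 : F) = 0
    · refine g1 (hj ?_)
      rw [map_mul, map_one]
      exact t0_even h2 (by rw [← map_mul, ← map_mul, hg, map_one])
    · exact ab (hj (t0_odd h2 (by rw [← map_mul, ha, map_one]) (by rw [← map_mul, hb, map_one])
        (fun e => a1 (hj (e.trans (map_one j).symm))) (fun e => b1 (hj (e.trans (map_one j).symm)))))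

theorem t_big {T : Subgroup G} (hT : IsPGroup p T) (hB : B ≤ T)
    (h : AB p B L (L ⊓ M) (pCoreOf p L)) (hn : L ⊓ M ≤ 𝐍⟮B⟯) {F : Type*} [Field F]
    (ρ : L →* SL(2, F)) (k : ρ.ker = (pCoreOf p L).subgroupOf L)
    (hs : ∀ g, ∃ e : pResOf p L, ρ (inclusion (pResOf_le L) e) = g) :
    M ⊓ pResOf p L = pResOf p L ⊓ 𝐍⟮T ⊓ pResOf p L⟯ := by
  have e1 : T ⊓ L = B := h.syl.max _ inf_le_right hT.to_inf_left (le_inf hB h.syl.le)
  have e2 : T ⊓ pResOf p L = B ⊓ pResOf p L := by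
    rw [← e1, inf_assoc, inf_eq_right.2 (pResOf_le L)]
  have e3 : ∀ x, x ∈ L → x ∈ 𝐍⟮B⟯ → x ∈ 𝐍⟮B ⊓ pResOf p L⟯ := fun x h1 h2 =>
    mem_normalizer_iff.2 fun y => and_congr (mem_normalizer_iff.1 h2 y)
      (mem_normalizer_iff.1 (le_normalizer_pResOf L h1) y)
  rw [e2]
  refine le_antisymm (fun x hx => ⟨hx.2, e3 x (pResOf_le L hx.2) (hn ⟨pResOf_le L hx.2, hx.1⟩)⟩)
    fun x hx => ⟨?_, hx.1⟩
  refine (h.min.le_of_lt (L ⊓ 𝐍⟮B ⊓ pResOf p L⟯) (fun b hb => ⟨h.syl.le hb,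
    e3 b (h.syl.le hb) (le_normalizer hb)⟩) (lt_of_le_of_ne inf_le_left fun e => t_nQ h ?_)
    ⟨pResOf_le L hx.1, hx.2⟩).2
  have e4 : B ⊓ pResOf p L ≤ pCoreOf p L := le_pCoreOf (inf_le_left.trans h.syl.le)
    (e.ge.trans inf_le_right) h.syl.pgrp.to_inf_left
  intro b hb
  obtain ⟨y, hy⟩ := hs (ρ ⟨b, h.syl.le hb⟩)
  have h1 : (inclusion (pResOf_le (p := p) L) y)⁻¹ * ⟨b, h.syl.le hb⟩ ∈ ρ.ker := by
    rw [MonoidHom.mem_ker, map_mul, map_inv, hy, inv_mul_cancel]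
  rw [k, mem_subgroupOf] at h1
  have h1' : (y : G)⁻¹ * b ∈ pCoreOf p L := h1
  have h2 : (y : G) ∈ B := by
    have := B.mul_mem hb (B.inv_mem (h.syl.pCoreOf_le h1'))
    simpa using this
  simpa using (pCoreOf p L).mul_mem (e4 ⟨h2, y.2⟩) h1'

theorem t_two (h : AB p B L (L ⊓ M) (pCoreOf p L))
    (hc : Nat.card (↥(pResOf p L) ⧸ pCore p ↥(pResOf p L)) = 3) :
    Nonempty (↥(pResOf p L) ⧸ pCore p ↥(pResOf p L) ≃* ↥(alternatingGroup (Fin 3))) ∧
      Nonempty (↥(((M ⊓ pResOf p L).subgroupOf (pResOf p L)).map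
        (QuotientGroup.mk' (pCore p ↥(pResOf p L)))) ≃* ↥(alternatingGroup (Fin 2))) := by
  haveI : Fact (Nat.Prime 3) := ⟨Nat.prime_three⟩
  refine ⟨⟨mulEquivOfPrimeCardEq hc (by rw [nat_card_alternatingGroup]; simp [Nat.factorial])⟩, ?_⟩
  haveI : Fact (Nat.card (↥(pResOf p L) ⧸ pCore p ↥(pResOf p L))).Prime := ⟨hc ▸ Nat.prime_three⟩
  rcases Subgroup.eq_bot_or_eq_top_of_prime_card (((M ⊓ pResOf p L).subgroupOf (pResOf p L)).map
    (QuotientGroup.mk' (pCore p ↥(pResOf p L)))) with e | e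
  · rw [e]
    haveI : Subsingleton (alternatingGroup (Fin 2)) :=
      (Nat.card_eq_one_iff_unique.1 (by rw [nat_card_alternatingGroup]; simp [Nat.factorial])).1
    letI : Unique (alternatingGroup (Fin 2)) := uniqueOfSubsingleton 1
    exact ⟨MulEquiv.ofUnique⟩
  · exact absurd (fun x hx => (t_mem h ⟨x, hx⟩).1 (e ▸ mem_top _)) (t_nle h)

theorem t_aux {H : Type*} [Group H] {g : H} {k : ℕ} (h1 : g ^ 4 = 1) (h2 : g ^ 3 ^ k = 1) :
    g = 1 := by
  have := pow_gcd_eq_one.2 ⟨h1, h2⟩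
  rwa [Nat.Coprime.gcd_eq_one (Nat.Coprime.pow_right k (by norm_num)), pow_one] at this

theorem t_three [Fact (Nat.Prime 3)] (h : AB 3 B L (L ⊓ M) (pCoreOf 3 L)) (hn : L ⊓ M ≤ 𝐍⟮B⟯)
    (ρ : L →* SL(2, ZMod 3)) (k : ρ.ker = (pCoreOf 3 L).subgroupOf L)
    (ε : (↥(pResOf 3 L) ⧸ pCore 3 ↥(pResOf 3 L)) ≃* ↥(_root_.commutator SL(2, ZMod 3)))
    (hε : ∀ e : pResOf 3 L,
      (ε (QuotientGroup.mk' _ e) : SL(2, ZMod 3)) = ρ (inclusion (pResOf_le L) e)) :
    ((M ⊓ pResOf 3 L).subgroupOf (pResOf 3 L)).map (QuotientGroup.mk' (pCore 3 ↥(pResOf 3 L))) =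
      center (↥(pResOf 3 L) ⧸ pCore 3 ↥(pResOf 3 L)) := by
  ext y
  obtain ⟨x, rfl⟩ := QuotientGroup.mk'_surjective _ y
  rw [t_mem h, mem_center_iff]
  have pm : ∀ g : SL(2, ZMod 3), g = 1 ∨ g = -1 → ∀ z, z * g = g * z := by
    rintro g (rfl | rfl) z <;> simp
  have p3 : ∀ l : L, (l : G) ∈ B → ∃ k, ρ l ^ 3 ^ k = 1 := fun l hl => by
    obtain ⟨k, hk⟩ := h.syl.pgrp ⟨l, hl⟩
    refine ⟨k, ?_⟩
    have h0 : (l : G) ^ 3 ^ k = 1 := congrArg Subtype.val hk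
    rw [← map_pow, show l ^ 3 ^ k = 1 from Subtype.ext h0, map_one]
  set x' : L := inclusion (pResOf_le (p := 3) L) x with hx'
  constructor
  · intro hx z
    obtain ⟨b, hb, hb'⟩ := SetLike.not_le_iff_exists.1 (t_nQ h)
    let b' : L := ⟨b, h.syl.le hb⟩
    have u1 : ρ b' ≠ 1 := fun e => hb' (by
      rw [← MonoidHom.mem_ker, k, mem_subgroupOf] at e; exact e)
    have u3 : ρ b' ^ 3 = 1 := by
      obtain ⟨k, hk⟩ := p3 b' hb
      exact t_aux (k := k) (t0_12 _) (by rw [← pow_mul, mul_comm, pow_mul, hk, one_pow])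
    have g4 : ρ x' ^ 4 = 1 := t0_c3 (hε x ▸ (ε _).2)
    have c1 : ρ ⁅x', b'⁆ = 1 := by
      obtain ⟨k, hk⟩ := p3 ⁅x', b'⁆ (B.mul_mem
        ((mem_normalizer_iff.1 (hn ⟨x'.2, hx⟩) b).1 hb) (B.inv_mem hb))
      refine t_aux (t0_c3 ?_) hk
      rw [map_commutatorElement]
      exact commutator_mem_commutator (mem_top _) (mem_top _)
    rw [map_commutatorElement, commutatorElement_eq_one_iff_mul_comm] at c1
    have := pm _ (t0_cen _ _ u1 u3 g4 c1)
    apply ε.injective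
    apply Subtype.ext
    rw [map_mul, map_mul, coe_mul, coe_mul, hε x]
    exact this _
  · intro hx
    have h1 : ρ x' = 1 ∨ ρ x' = -1 := t0_cen' _ fun g hg => by
      obtain ⟨z, hz⟩ := ε.surjective ⟨g, mem_comm_of_sq (p := 3) (by norm_num) hg⟩
      have := congrArg (fun t => (ε t : SL(2, ZMod 3))) (hx z)
      simp only [map_mul, coe_mul, hz] at this
      rwa [hε x] at this
    have h2 : (x : G) ∈ 𝐍⟮B⟯ := mem_normalizer_fintype fun b hb => by
      have h3 : ⁅x', (⟨b, h.syl.le hb⟩ : L)⁆ ∈ ρ.ker := by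
        rw [MonoidHom.mem_ker, map_commutatorElement, commutatorElement_eq_one_iff_mul_comm]
        exact (pm _ h1 _).symm
      rw [k, mem_subgroupOf] at h3
      have h4 : (x : G) * b * (x : G)⁻¹ * b⁻¹ ∈ B := h.syl.pCoreOf_le h3
      simpa using B.mul_mem h4 hb
    exact (h.min.le_of_lt (L ⊓ 𝐍⟮B⟯) (le_inf h.syl.le le_normalizer) (lt_of_le_of_ne inf_le_left
      fun e => h.min.not_le_normalizer' (e.ge.trans inf_le_right)) ⟨x'.2, h2⟩).2

theorem pt : PT.{u} p := by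
  intro G _ _ T M L hT h1 h2
  have h := h1.ab
  obtain ⟨F, _, _, _, ρ, -, s, k⟩ := h2.rho
  obtain ⟨ε, hε⟩ := t_eps h ρ s k
  refine ⟨?_, fun m ⟨A⟩ => t_last h ε m A⟩
  obtain ⟨n, -, hn⟩ := FiniteField.card F p
  rcases Nat.lt_or_ge (Fintype.card F) 4 with h4 | h4
  swap
  · have e := comm_eq_top h4
    refine Or.inl ⟨F, inferInstance, inferInstance, n, by omega, hn,
      ⟨ε.trans ((MulEquiv.subgroupCongr e).trans topEquiv)⟩, t_big hT (bm_le T) h h1.nrm ρ k fun g => ?_⟩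
    obtain ⟨z, hz⟩ := ε.surjective ⟨g, e ▸ mem_top g⟩
    obtain ⟨x, rfl⟩ := QuotientGroup.mk'_surjective _ z
    exact ⟨x, by rw [← hε, hz]⟩
  have hd : p ∣ Fintype.card F := hn ▸ dvd_pow_self p n.ne_zero
  have h1' : 1 < Fintype.card F := Fintype.one_lt_card
  have hq : Fintype.card F = p := by
    have h23 : Fintype.card F = 2 ∨ Fintype.card F = 3 := by omega
    rcases h23 with e | e <;> rw [e] at hd ⊢
    · exact ((Nat.prime_dvd_prime_iff_eq hp.out Nat.prime_two).1 hd).symm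
    · exact ((Nat.prime_dvd_prime_iff_eq hp.out Nat.prime_three).1 hd).symm
  let τ := t0_sl (ZMod.ringEquivOfPrime F hp.out hq).symm
  let ρ' : L →* SL(2, ZMod p) := τ.toMonoidHom.comp ρ
  have s' : Function.Surjective ρ' := τ.surjective.comp s
  have k' : ρ'.ker = (pCoreOf p L).subgroupOf L := by
    rw [← k]
    exact MonoidHom.ker_comp_of_injective _ _ τ.injective
  obtain ⟨ε', hε'⟩ := t_eps h ρ' s' k'
  clear_value ρ'
  have h23 : p = 2 ∨ p = 3 := by omega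
  rcases h23 with rfl | rfl
  · exact Or.inr (Or.inl ⟨rfl, 1, t_two h ((Nat.card_congr ε'.toEquiv).trans t0_c2)⟩)
  · exact Or.inr (Or.inr ⟨rfl, ⟨ε'⟩, t_three h h1.nrm ρ' k' ε' hε'⟩)

end Cfsg.Agent.Spc.Pu
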