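import Cfsg.Agent.Spc.PuDef

/-! Recognition of transpositions on the even permutation module. -/

namespace Cfsg.Agent.Spc.Pu

open Subgroup Cfsg.Agent.LocalEven Cfsg.Agent.PLocal Cfsg.Agent.Push Cfsg.Agent.BHS
open Cfsg.Agent.Glaub hiding cent_anti
open scoped commutatorElement MatrixGroups

universe u

theorem pw_pts {N : ℕ} (hN : N % 2 = 1) (s : Equiv.Perm (Fin N)) (h1 : s ≠ 1) (h2 : s ^ 2 = 1)
    (hs : ¬ s.IsSwap) : ∃ i j k : Fin N, s i ≠ i ∧ s j ≠ j ∧ j ≠ i ∧ j ≠ s i ∧ k ≠ i ∧ k ≠ s i ∧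
      k ≠ j ∧ k ≠ s j := by
  classical
  have hss : ∀ t, s (s t) = t := fun t => by
    rw [← Equiv.Perm.mul_apply, ← pow_two, h2, Equiv.Perm.one_apply]
  obtain ⟨i, hi⟩ : ∃ i, s i ≠ i := by
    by_contra h
    push Not at h
    exact h1 (Equiv.ext h)
  obtain ⟨j, hj, hji, hjs⟩ : ∃ j, s j ≠ j ∧ j ≠ i ∧ j ≠ s i := by
    by_contra h
    push Not at h
    refine hs ⟨i, s i, hi.symm, Equiv.ext fun t => ?_⟩
    by_cases t1 : t = i
    · rw [t1, Equiv.swap_apply_left]
    by_cases t2 : t = s i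
    · rw [t2, Equiv.swap_apply_right, hss]
    rw [Equiv.swap_apply_of_ne_of_ne t1 t2]
    by_contra h3
    exact t2 (h t h3 t1)
  have a1 : s j ≠ i := fun e => hjs (by rw [← e, hss])
  have a2 : s j ≠ s i := fun e => hji (s.injective e)
  obtain ⟨k, hk⟩ : ∃ k, k ≠ i ∧ k ≠ s i ∧ k ≠ j ∧ k ≠ s j := by
    by_contra h
    push Not at h
    have e : (Finset.univ : Finset (Fin N)) = {i, s i, j, s j} := by
      ext t
      simp only [Finset.mem_univ, Finset.mem_insert, Finset.mem_singleton, true_iff]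
      by_contra hh
      push Not at hh
      exact hh.2.2.2 (h t hh.1 hh.2.1 hh.2.2.1)
    have c := congrArg Finset.card e
    rw [Finset.card_univ, Fintype.card_fin, Finset.card_insert_of_notMem, Finset.card_insert_of_notMem,
      Finset.card_insert_of_notMem, Finset.card_singleton] at c
    · omega
    · simpa using hj.symm
    · simp only [Finset.mem_insert, Finset.mem_singleton, not_or]
      exact ⟨hjs.symm, a2.symm⟩
    · simp only [Finset.mem_insert, Finset.mem_singleton, not_or]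
      exact ⟨hi.symm, hji.symm, a1.symm⟩
  exact ⟨i, j, k, hi, hj, hji, hjs, hk⟩

theorem pw : PW.{u} := by
  intro G _ _ K U U₀ n σ ψ a hn hP h1 h2 hi
  classical
  by_contra hs
  obtain ⟨i, j, k, si, sj, ji, jsi, ki, ksi, kj, ksj⟩ := pw_pts (by
    obtain ⟨m, rfl⟩ : ∃ m, n = m + 1 := ⟨n - 1, by omega⟩
    rw [pow_succ]; omega) (σ a) h1 h2 hs
  have hinv : (σ a)⁻¹ = σ a := by
    rw [inv_eq_iff_mul_eq_one, ← pow_two, h2]
  have hss : ∀ t, σ a (σ a t) = t := fun t => by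
    rw [← Equiv.Perm.mul_apply, ← pow_two, h2, Equiv.Perm.one_apply]
  have key : ∀ w ∈ U, w ∈ 𝐂⟮zpowers (a : G)⟯ → ∀ t, ψ w (σ a t) = ψ w t := by
    intro w hw hc t
    have e : (a : G) * w = w * a := Subgroup.mem_centralizer_iff.1 hc _ (mem_zpowers _)
    have := hP.conj a w hw t
    rw [e, mul_inv_cancel_right, hinv] at this
    exact this.symm
  have hev : ∀ x y : Fin (2 ^ n + 1),
      ∑ t, ((Pi.single x 1 + Pi.single y 1 : Fin (2 ^ n + 1) → ZMod 2) t) = 0 := fun x y => by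
    simp only [Pi.add_apply, Finset.sum_add_distrib, Finset.sum_pi_single', Finset.mem_univ,
      if_true]
    decide
  obtain ⟨x, hx, ex⟩ := hP.surj _ (hev i k)
  obtain ⟨y, hy, ey⟩ := hP.surj _ (hev j k)
  have a1 : σ a j ≠ i := fun e => jsi (by rw [← e, hss])
  have nx : x ∉ 𝐂⟮zpowers (a : G)⟯ := fun h => by
    have := key x hx h i
    rw [ex] at this
    simp [Pi.single_apply, si, ksi.symm, ki.symm] at this
  have ny : y ∉ 𝐂⟮zpowers (a : G)⟯ := fun h => by
    have := key y hy h j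
    rw [ey] at this
    simp [Pi.single_apply, sj, ksj.symm, kj.symm] at this
  have nxy : x * y ∉ 𝐂⟮zpowers (a : G)⟯ := fun h => by
    have := key _ (U.mul_mem hx hy) h i
    rw [hP.mul x hx y hy, ex, ey] at this
    simp [Pi.single_apply, si, ksi.symm, ki.symm, ji.symm, jsi.symm] at this
  have h0 : 𝐂⟮zpowers (a : G)⟯.relIndex U ≠ 0 := Subgroup.index_ne_zero_of_finite
  rcases (by omega : 𝐂⟮zpowers (a : G)⟯.relIndex U = 1 ∨ 𝐂⟮zpowers (a : G)⟯.relIndex U = 2) with
    h | h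
  · exact nx (Subgroup.relIndex_eq_one.1 h hx)
  · exact nxy ((Subgroup.mul_mem_iff_of_index_two h (a := ⟨x, hx⟩) (b := ⟨y, hy⟩)).2
      ⟨fun h' => absurd h' nx, fun h' => absurd h' ny⟩)

end Cfsg.Agent.Spc.Pu
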