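import Mathlib

set_option autoImplicit false

namespace Cfsg.Agent.Spc.PuZ

open Equiv Equiv.Perm
open scoped commutatorElement

variable {H : Type*} [Group H] {m : ℕ} (σ : H →* Perm (Fin m))

theorem comm_tr (hz : ∀ z, σ z = 1 → ∀ g, Commute g z) {c d c' d' : H} (h : Commute c d)
    (e1 : σ c' = σ c) (e2 : σ d' = σ d) : Commute c' d' := by
  have h1 := hz (c⁻¹ * c') (by rw [map_mul, map_inv, e1, inv_mul_cancel])
  have h2 := hz (d⁻¹ * d') (by rw [map_mul, map_inv, e2, inv_mul_cancel])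
  have a1 : c' = c * (c⁻¹ * c') := by group
  have a2 : d' = d * (d⁻¹ * d') := by group
  rw [a1, a2]
  exact (h.mul_right (h2 c)).mul_left (h1 _).symm

theorem lemB (hs : Function.Surjective σ) (hz : ∀ z, σ z = 1 → ∀ g, Commute g z) {a : H}
    {x y : Fin m} (hxy : x ≠ y) (ha : σ a = swap x y)
    (hk : 4 ≤ m → ∃ k : H, (σ a).Disjoint (σ (k * a * k⁻¹)) ∧ Commute a (k * a * k⁻¹))
    {b : H} {u v : Fin m} (hb : σ b = swap u v) (huv : u ≠ v) (h1 : u ≠ x) (h2 : u ≠ y)
    (h3 : v ≠ x) (h4 : v ≠ y) : Commute a b := by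
  have hg : Function.Injective (![x, y, u, v] : Fin 4 → Fin m) := by
    intro i j
    fin_cases i <;> fin_cases j <;>
      simp [hxy, huv, h1, h2, h3, h4, hxy.symm, huv.symm, h1.symm, h2.symm, h3.symm, h4.symm]
  have hm : 4 ≤ m := by simpa using Fintype.card_le_of_injective _ hg
  obtain ⟨k, hd, hc⟩ := hk hm
  have e : σ (k * a * k⁻¹) = swap (σ k x) (σ k y) := by
    rw [map_mul, map_mul, map_inv, ha, swap_apply_apply]
  rw [e, ha] at hd
  have huv0 : σ k x ≠ σ k y := (σ k).injective.ne hxy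
  set u0 := σ k x
  set v0 := σ k y
  have n1 : u0 ≠ x ∧ u0 ≠ y := by
    rcases hd u0 with h | h
    · constructor
      · rintro e; rw [e, swap_apply_left] at h; exact hxy h.symm
      · rintro e; rw [e, swap_apply_right] at h; exact hxy h
    · rw [swap_apply_left] at h; exact absurd h.symm huv0
  have n2 : v0 ≠ x ∧ v0 ≠ y := by
    rcases hd v0 with h | h
    · constructor
      · rintro e; rw [e, swap_apply_left] at h; exact hxy h.symm
      · rintro e; rw [e, swap_apply_right] at h; exact hxy h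
    · rw [swap_apply_right] at h; exact absurd h huv0
  have hf : Function.Injective (![x, y, u0, v0] : Fin 4 → Fin m) := by
    intro i j
    fin_cases i <;> fin_cases j <;>
      simp [hxy, huv0, n1.1, n1.2, n2.1, n2.2, hxy.symm, huv0.symm, n1.1.symm, n1.2.symm,
        n2.1.symm, n2.2.symm]
  obtain ⟨g, hg'⟩ := Equiv.Perm.exists_extending_pair _ _ hf hg
  obtain ⟨h, rfl⟩ := hs g
  have c0 : σ h x = x := hg' 0
  have c1 : σ h y = y := hg' 1
  have c2 : σ h u0 = u := hg' 2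
  have c3 : σ h v0 = v := hg' 3
  refine comm_tr σ hz (hc.conj h) ?_ ?_
  · rw [map_mul, map_mul, map_inv, ha, ← swap_apply_apply, c0, c1]
  · rw [map_mul, map_mul σ h, map_inv, e, ← swap_apply_apply, c2, c3, hb]

theorem lemA (hs : Function.Surjective σ) (hz : ∀ z, σ z = 1 → ∀ g, Commute g z) {a : H}
    {x y : Fin m} (hxy : x ≠ y) (ha : σ a = swap x y)
    (hk : 4 ≤ m → ∃ k : H, (σ a).Disjoint (σ (k * a * k⁻¹)) ∧ Commute a (k * a * k⁻¹)) (n : ℕ) :
    ∀ h : H, (σ h).support.card ≤ n → σ h x = x → σ h y = y → Commute a h := by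
  induction n with
  | zero =>
    intro h hc _ _
    exact hz h (by simpa using hc) a
  | succ n ih =>
    intro h hc hx hy
    by_cases h1 : σ h = 1
    · exact hz h h1 a
    obtain ⟨u, hu⟩ : ∃ u, σ h u ≠ u := by
      by_contra hn
      push Not at hn
      exact h1 (Equiv.ext hn)
    obtain ⟨b, hb⟩ := hs (swap u (σ h u))
    have h1 : u ≠ x := by rintro rfl; exact hu hx
    have h2 : u ≠ y := by rintro rfl; exact hu hy
    have h3 : σ h u ≠ x := fun e => h1 ((σ h).injective (e.trans hx.symm))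
    have h4 : σ h u ≠ y := fun e => h2 ((σ h).injective (e.trans hy.symm))
    have c1 := lemB σ hs hz hxy ha hk hb hu.symm h1 h2 h3 h4
    have c2 := ih (b * h) (by
      have := card_support_swap_mul hu
      rw [map_mul, hb]; omega)
      (by rw [map_mul, hb, Perm.mul_apply, hx, swap_apply_of_ne_of_ne h1.symm h3.symm])
      (by rw [map_mul, hb, Perm.mul_apply, hy, swap_apply_of_ne_of_ne h2.symm h4.symm])
    have : h = b⁻¹ * (b * h) := by group
    rw [this]
    exact c1.inv_right.mul_right c2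

theorem lemC (hs : Function.Surjective σ) (hz : ∀ z, σ z = 1 → ∀ g, Commute g z) {a : H}
    {x y : Fin m} (hxy : x ≠ y) (ha : σ a = swap x y)
    (hk : 4 ≤ m → ∃ k : H, (σ a).Disjoint (σ (k * a * k⁻¹)) ∧ Commute a (k * a * k⁻¹))
    (h h' : H) (e : swap (σ h x) (σ h y) = swap (σ h' x) (σ h' y)) :
    h * a * h⁻¹ = h' * a * h'⁻¹ := by
  have key : Commute a (h'⁻¹ * h) := by
    have e1 := congrArg (fun g : Perm (Fin m) => g (σ h x)) e
    have hne : σ h x ≠ σ h y := (σ h).injective.ne hxy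
    simp only [swap_apply_left] at e1
    by_cases c1 : σ h x = σ h' x
    · rw [c1, swap_apply_left] at e1
      refine lemA σ hs hz hxy ha hk _ _ le_rfl ?_ ?_
      · rw [map_mul, map_inv, Perm.mul_apply, c1]; simp
      · rw [map_mul, map_inv, Perm.mul_apply, e1]; simp
    by_cases c2 : σ h x = σ h' y
    · rw [c2, swap_apply_right] at e1
      have := lemA σ hs hz hxy ha hk _ (a * (h'⁻¹ * h)) le_rfl
        (by rw [map_mul, map_mul, map_inv, Perm.mul_apply, Perm.mul_apply, c2, ha]; simp)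
        (by rw [map_mul, map_mul, map_inv, Perm.mul_apply, Perm.mul_apply, e1, ha]; simp)
      have e2 : h'⁻¹ * h = a⁻¹ * (a * (h'⁻¹ * h)) := by group
      rw [e2]
      exact (Commute.refl a).inv_right.mul_right this
    · rw [swap_apply_of_ne_of_ne c1 c2] at e1
      exact absurd e1.symm hne
  calc h * a * h⁻¹ = h' * ((h'⁻¹ * h) * a) * h⁻¹ := by group
    _ = h' * (a * (h'⁻¹ * h)) * h⁻¹ := by rw [key.eq]
    _ = _ := by group

theorem exS (hs : Function.Surjective σ) (hz : ∀ z, σ z = 1 → ∀ g, Commute g z) {a : H}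
    {x y : Fin m} (hxy : x ≠ y) (ha : σ a = swap x y) (h2 : a ^ 2 = 1)
    (hk : 4 ≤ m → ∃ k : H, (σ a).Disjoint (σ (k * a * k⁻¹)) ∧ Commute a (k * a * k⁻¹)) :
    ∃ s : Fin m → Fin m → H, ∀ i j, i ≠ j → σ (s i j) = swap i j ∧ s i j * s i j = 1 ∧
      s j i = s i j ∧ ∀ h, h * s i j * h⁻¹ = s (σ h i) (σ h j) := by
  have ex : ∀ i j : Fin m, ∃ h : H, i ≠ j → σ h x = i ∧ σ h y = j := fun i j => by
    by_cases hij : i = j
    · exact ⟨1, fun h => absurd hij h⟩
    have hf : Function.Injective (![x, y] : Fin 2 → Fin m) := by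
      intro i j
      fin_cases i <;> fin_cases j <;> simp [hxy, hxy.symm]
    have hg : Function.Injective (![i, j] : Fin 2 → Fin m) := by
      intro a b
      fin_cases a <;> fin_cases b <;> simp [hij, Ne.symm hij]
    obtain ⟨g, hg'⟩ := Equiv.Perm.exists_extending_pair _ _ hf hg
    obtain ⟨h, rfl⟩ := hs g
    exact ⟨h, fun _ => ⟨hg' 0, hg' 1⟩⟩
  choose c hc using ex
  refine ⟨fun i j => c i j * a * (c i j)⁻¹, fun i j hij => ⟨?_, ?_, ?_, fun h => ?_⟩⟩
  · rw [map_mul, map_mul, map_inv, ha, ← swap_apply_apply, (hc i j hij).1, (hc i j hij).2]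
  · rw [← pow_two, conj_pow, h2]; simp
  · refine lemC σ hs hz hxy ha hk _ _ ?_
    rw [(hc i j hij).1, (hc i j hij).2, (hc j i hij.symm).1, (hc j i hij.symm).2, swap_comm]
  · have hne : σ h i ≠ σ h j := (σ h).injective.ne hij
    beta_reduce
    rw [← lemC σ hs hz hxy ha hk (h * c i j) (c (σ h i) (σ h j)) (by
      rw [(hc _ _ hne).1, (hc _ _ hne).2, map_mul, Perm.mul_apply, Perm.mul_apply,
        (hc i j hij).1, (hc i j hij).2])]
    group

def LL (s : Fin m → Fin m → H) (k : ℕ) : Subgroup H :=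
  Subgroup.closure {g | ∃ i j : Fin m, i ≠ j ∧ i.val < k ∧ j.val < k ∧ g = s i j}

theorem LL_triv (s : Fin m → Fin m → H) (hS : ∀ i j, i ≠ j → σ (s i j) = swap i j ∧
    s i j * s i j = 1 ∧ s j i = s i j ∧ ∀ h, h * s i j * h⁻¹ = s (σ h i) (σ h j)) (k : ℕ) :
    ∀ l ∈ LL s k, σ l = 1 → l = 1 := by
  induction k with
  | zero =>
    intro l hl _
    have : LL s 0 ≤ ⊥ := by
      rw [LL, Subgroup.closure_le]
      rintro _ ⟨i, j, -, h, -⟩
      omega
    exact this hl
  | succ k ih =>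
    intro l hl h1
    by_cases hk : k < m
    swap
    · refine ih l (Subgroup.closure_mono ?_ hl) h1
      rintro _ ⟨i, j, hij, -, -, rfl⟩
      exact ⟨i, j, hij, by omega, by omega, rfl⟩
    let t : Fin m := ⟨k, hk⟩
    have tv : t.val = k := rfl
    have fixt : ∀ l ∈ LL s k, σ l t = t := by
      intro l hl
      induction hl using Subgroup.closure_induction with
      | mem g hg =>
        obtain ⟨i, j, hij, hi, hj, rfl⟩ := hg
        rw [(hS i j hij).1, swap_apply_of_ne_of_ne (by rintro rfl; omega) (by rintro rfl; omega)]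
      | one => simp
      | mul a b _ _ ha hb => rw [map_mul, Perm.mul_apply, hb, ha]
      | inv a _ ha => rw [map_inv, Perm.inv_eq_iff_eq, ha]
    have gen : ∀ i j : Fin m, i ≠ j → i.val < k → j.val < k → s i j ∈ LL s k :=
      fun i j h hi hj => Subgroup.subset_closure ⟨i, j, h, hi, hj, rfl⟩
    let P : H → Prop := fun l => l ∈ LL s k ∨ ∃ i : Fin m, i.val < k ∧ ∃ l' ∈ LL s k, l = s i t * l'
    have nt : ∀ i : Fin m, i.val < k → i ≠ t := fun i hi => by rintro rfl; omega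
    have st1 : ∀ j : Fin m, j.val < k → ∀ l, P l → P (s j t * l) := by
      rintro j hj l (hl | ⟨i, hi, l', hl', rfl⟩)
      · exact Or.inr ⟨j, hj, l, hl, rfl⟩
      · by_cases hij : j = i
        · subst hij
          left
          rw [← mul_assoc, (hS j t (nt j hj)).2.1, one_mul]; exact hl'
        · refine Or.inr ⟨i, hi, s j i * l', mul_mem (gen j i hij hj hi) hl', ?_⟩
          have e := (hS j i hij).2.2.2 (s i t)
          rw [(hS i t (nt i hi)).1, swap_apply_left,
            swap_apply_of_ne_of_ne hij (nt j hj)] at e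
          rw [← e]; group
    have st2 : ∀ i j : Fin m, i ≠ j → i.val < k + 1 → j.val < k + 1 → ∀ l, P l → P (s i j * l) := by
      intro i j hij hi hj l hl
      by_cases h1 : j = t
      · subst h1
        exact st1 i (by have := Fin.val_ne_of_ne hij; omega) l hl
      by_cases h2 : i = t
      · subst h2
        rw [← (hS _ _ hij).2.2.1]
        exact st1 j (by have := Fin.val_ne_of_ne hij; omega) l hl
      have hi' : i.val < k := by have := Fin.val_ne_of_ne h2; omega
      have hj' : j.val < k := by have := Fin.val_ne_of_ne h1; omega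
      rcases hl with hl | ⟨u, hu, l', hl', rfl⟩
      · exact Or.inl (mul_mem (gen i j hij hi' hj') hl)
      · have e := (hS u t (nt u hu)).2.2.2 (s i j)
        rw [fixt _ (gen i j hij hi' hj'), (hS i j hij).1] at e
        refine Or.inr ⟨swap i j u, ?_, s i j * l', mul_mem (gen i j hij hi' hj') hl', ?_⟩
        · rw [swap_apply_def]; split_ifs <;> assumption
        · rw [← e]; group
    have all : ∀ l ∈ LL s (k + 1), P l := by
      intro l hl
      induction hl using Subgroup.closure_induction_left with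
      | one => exact Or.inl (one_mem _)
      | mul_left g hg l _ hl =>
        obtain ⟨i, j, hij, hi, hj, rfl⟩ := hg
        exact st2 i j hij hi hj l hl
      | inv_mul_cancel g hg l _ hl =>
        obtain ⟨i, j, hij, hi, hj, rfl⟩ := hg
        rw [inv_eq_of_mul_eq_one_right (hS i j hij).2.1]
        exact st2 i j hij hi hj l hl
    rcases all l hl with h | ⟨i, hi, l', hl', rfl⟩
    · exact ih l h h1
    · have := congrArg (fun g : Perm (Fin m) => g t) h1
      simp only [map_mul, Perm.mul_apply, fixt _ hl', (hS i t (nt i hi)).1, swap_apply_right,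
        Perm.one_apply] at this
      exact absurd this (nt i hi)

theorem core (hs : Function.Surjective σ) (hz : ∀ z, σ z = 1 → ∀ g, Commute g z)
    (hp : ∀ z, σ z = 1 → ∃ k : ℕ, z ^ 2 ^ k = 1) {a : H}
    (ha : (σ a).IsSwap) (h2 : a ^ 2 = 1)
    (hk : 4 ≤ m → ∃ k : H, (σ a).Disjoint (σ (k * a * k⁻¹)) ∧ Commute a (k * a * k⁻¹)) :
    ∃ L : Subgroup H, L.Normal ∧ (∀ h : H, ∃ k : ℕ, h ^ 2 ^ k ∈ L) ∧ ∀ l ∈ L, σ l = 1 → l = 1 := by
  obtain ⟨x, y, hxy, ha⟩ := ha
  obtain ⟨s, hS⟩ := exS σ hs hz hxy ha h2 hk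
  have gen : ∀ i j : Fin m, i ≠ j → s i j ∈ LL s m :=
    fun i j h => Subgroup.subset_closure ⟨i, j, h, i.2, j.2, rfl⟩
  refine ⟨LL s m, ⟨fun l hl g => ?_⟩, fun h => ?_, LL_triv σ s hS m⟩
  · induction hl using Subgroup.closure_induction with
    | mem g hg =>
      obtain ⟨i, j, hij, -, -, rfl⟩ := hg
      rw [(hS i j hij).2.2.2]
      exact gen _ _ ((σ _).injective.ne hij)
    | one => simp
    | mul a b _ _ ha hb =>
      have : g * (a * b) * g⁻¹ = g * a * g⁻¹ * (g * b * g⁻¹) := by group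
      rw [this]; exact mul_mem ha hb
    | inv a _ ha =>
      have : g * a⁻¹ * g⁻¹ = (g * a * g⁻¹)⁻¹ := by group
      rw [this]; exact inv_mem ha
  · have sj : ∀ g : Perm (Fin m), ∃ l ∈ LL s m, σ l = g := fun g => by
      induction g using Equiv.Perm.swap_induction_on with
      | one => exact ⟨1, one_mem _, map_one _⟩
      | swap_mul f i j hij ih =>
        obtain ⟨l, hl, rfl⟩ := ih
        exact ⟨s i j * l, mul_mem (gen i j hij) hl, by rw [map_mul, (hS i j hij).1]⟩
    obtain ⟨l, hl, e⟩ := sj (σ h)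
    have e1 : σ (l⁻¹ * h) = 1 := by rw [map_mul, map_inv, e, inv_mul_cancel]
    obtain ⟨k, hk⟩ := hp _ e1
    refine ⟨k, ?_⟩
    have : h = l * (l⁻¹ * h) := by group
    rw [this, (hz _ e1 l).mul_pow, hk, mul_one]
    exact pow_mem hl _

theorem pz0 [Finite H] (hs : Function.Surjective σ)
    (hp : ∀ z, σ z = 1 → ∃ k : ℕ, z ^ 2 ^ k = 1) {a : H}
    (ha : (σ a).IsSwap) (h2 : a ^ 2 = 1) (E : Subgroup H)
    (hE : ∀ L : Subgroup H, L.Normal → (∀ h : H, ∃ k : ℕ, h ^ 2 ^ k ∈ L) → E ≤ L)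
    (hEa : ∀ h, h ∈ E ∨ h * a ∈ E) (hc : ∀ z ∈ E, σ z = 1 → ∀ e ∈ E, Commute e z)
    (hk : 4 ≤ m → ∃ k : H, (σ a).Disjoint (σ (k * a * k⁻¹)) ∧ Commute a (k * a * k⁻¹)) :
    ∀ z, σ z = 1 → z = 1 := by
  have KE : ∀ z, σ z = 1 → z ∈ E := fun z hz => by
    refine (hEa z).resolve_right fun h => ?_
    have h1 := hE (sign.comp σ).ker inferInstance (fun h => ⟨1, by
      rw [MonoidHom.mem_ker, map_pow, pow_one, Int.units_sq]⟩) h
    rw [MonoidHom.mem_ker, MonoidHom.comp_apply, map_mul, hz, one_mul, ha.sign_eq] at h1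
    exact absurd h1 (by decide)
  have hW : (⁅σ.ker, ⊤⁆ : Subgroup H) ≤ σ.ker := Subgroup.commutator_le_left _ _
  have KW : σ.ker ≤ ⁅σ.ker, ⊤⁆ := by
    let π := QuotientGroup.mk' (⁅σ.ker, ⊤⁆ : Subgroup H)
    have hπ : Function.Surjective π := QuotientGroup.mk'_surjective _
    let τ := QuotientGroup.lift (⁅σ.ker, ⊤⁆ : Subgroup H) σ hW
    have hτ : ∀ h, τ (π h) = σ h := fun h => rfl
    obtain ⟨L, hL, h3, h4⟩ := core τ (fun g => by
        obtain ⟨h, rfl⟩ := hs g
        exact ⟨π h, rfl⟩) (fun z hz g => by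
        obtain ⟨z, rfl⟩ := hπ z
        obtain ⟨g, rfl⟩ := hπ g
        symm
        rw [← commutatorElement_eq_one_iff_commute, ← map_commutatorElement]
        exact (QuotientGroup.eq_one_iff _).2
          (Subgroup.commutator_mem_commutator hz (Subgroup.mem_top g)))
      (fun z hz => by
        obtain ⟨z, rfl⟩ := hπ z
        obtain ⟨k, hk⟩ := hp z hz
        exact ⟨k, by rw [← map_pow, hk, map_one]⟩) (a := π a) ha (by rw [← map_pow, h2, map_one])
      (fun h => by
        obtain ⟨k, h1, h2⟩ := hk h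
        refine ⟨π k, h1, ?_⟩
        rw [← map_inv, ← map_mul, ← map_mul]
        exact h2.map π)
    intro z hz
    have h5 := hE (L.comap π) (hL.comap π) (fun h => by
      obtain ⟨k, hk⟩ := h3 (π h)
      exact ⟨k, by rw [Subgroup.mem_comap, map_pow]; exact hk⟩) (KE z hz)
    exact (QuotientGroup.eq_one_iff _).1 (h4 _ h5 hz)
  have aa : a * a = 1 := by rw [← pow_two, h2]
  have ai : a⁻¹ = a := inv_eq_of_mul_eq_one_right aa
  have kc : ∀ z ∈ σ.ker, ∀ w ∈ σ.ker, Commute z w := fun z hz w hw => hc w (KE w hw) hw z (KE z hz)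
  have kn : ∀ z ∈ σ.ker, ∀ h, h * z * h⁻¹ ∈ σ.ker := fun z hz h =>
    (MonoidHom.normal_ker σ).conj_mem z hz h
  have act : ∀ z ∈ σ.ker, ∀ h, ⁅z, h⁆ = 1 ∨ ⁅z, h⁆ = z * (a * z⁻¹ * a⁻¹) := fun z hz h => by
    rcases hEa h with h1 | h1
    · exact Or.inl (commutatorElement_eq_one_iff_commute.2 (hc z (KE z hz) hz h h1).symm)
    · right
      have h3 := kn _ (inv_mem hz) a⁻¹
      have h4 := (hc _ (KE _ h3) h3 _ h1).eq
      calc ⁅z, h⁆ = z * ((h * a) * (a⁻¹ * z⁻¹ * a⁻¹⁻¹) * (h * a)⁻¹) := by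
            rw [commutatorElement_def]; group
        _ = z * (a⁻¹ * z⁻¹ * a⁻¹⁻¹) := by rw [h4]; group
        _ = _ := by rw [inv_inv, ai]
  let I : Subgroup H :=
    { carrier := {z | z ∈ σ.ker ∧ a * z * a⁻¹ = z⁻¹}
      one_mem' := ⟨one_mem _, by simp⟩
      mul_mem' := by
        rintro z w ⟨hz, e1⟩ ⟨hw, e2⟩
        refine ⟨mul_mem hz hw, ?_⟩
        calc a * (z * w) * a⁻¹ = (a * z * a⁻¹) * (a * w * a⁻¹) := by group
          _ = (w * z)⁻¹ := by rw [e1, e2]; group
          _ = _ := by rw [(kc z hz w hw).eq]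
      inv_mem' := by
        rintro z ⟨hz, e1⟩
        refine ⟨inv_mem hz, ?_⟩
        calc a * z⁻¹ * a⁻¹ = (a * z * a⁻¹)⁻¹ := by group
          _ = _ := by rw [e1] }
  have KI : σ.ker ≤ I := KW.trans (Subgroup.commutator_le.2 fun z hz h _ => by
    rcases act z hz h with e | e
    · rw [e]; exact one_mem _
    · rw [e]
      refine ⟨mul_mem hz (kn _ (inv_mem hz) a), ?_⟩
      calc a * (z * (a * z⁻¹ * a⁻¹)) * a⁻¹ = a * z * a⁻¹ * ((a * a) * z⁻¹ * (a * a)⁻¹) := by group
        _ = _ := by rw [aa]; group)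
  let S : Subgroup H :=
    { carrier := {z | ∃ w ∈ σ.ker, z = w ^ 2}
      one_mem' := ⟨1, one_mem _, by simp⟩
      mul_mem' := by
        rintro _ _ ⟨z, hz, rfl⟩ ⟨w, hw, rfl⟩
        exact ⟨z * w, mul_mem hz hw, ((kc z hz w hw).mul_pow 2).symm⟩
      inv_mem' := by
        rintro _ ⟨z, hz, rfl⟩
        exact ⟨z⁻¹, inv_mem hz, by simp⟩ }
  have KS : σ.ker ≤ S := KW.trans (Subgroup.commutator_le.2 fun z hz h _ => by
    rcases act z hz h with e | e
    · rw [e]; exact one_mem _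
    · rw [e, (KI (inv_mem hz)).2]
      exact ⟨z, hz, by simp [pow_two]⟩)
  have it : ∀ k : ℕ, ∀ z ∈ σ.ker, ∃ w ∈ σ.ker, z = w ^ 2 ^ k := fun k => by
    induction k with
    | zero => exact fun z hz => ⟨z, hz, by simp⟩
    | succ k ih =>
      intro z hz
      obtain ⟨w, hw, rfl⟩ := ih z hz
      obtain ⟨v, hv, rfl⟩ := KS hw
      exact ⟨v, hv, by rw [← pow_mul, pow_succ']⟩
  haveI : Fact (Nat.Prime 2) := ⟨Nat.prime_two⟩
  have hP : IsPGroup 2 σ.ker := fun z => by
    obtain ⟨k, hk⟩ := hp z z.2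
    exact ⟨k, Subtype.ext hk⟩
  obtain ⟨N, hN⟩ := IsPGroup.iff_card.1 hP
  intro z hz
  obtain ⟨w, hw, rfl⟩ := it N z hz
  have := pow_card_eq_one' (x := (⟨w, hw⟩ : σ.ker))
  rw [hN] at this
  exact congrArg Subtype.val this

theorem pz1 [Finite H] (W : Subgroup H) (a : H) (hs : Function.Surjective σ) (hWn : W.Normal)
    (hW : W ≤ σ.ker) (hp : IsPGroup 2 σ.ker) (h2 : a ^ 2 ∈ W) (ha : (σ a).IsSwap) (E : Subgroup H)
    [E.Normal] (hE : ∀ L : Subgroup H, L.Normal → (∀ h : H, ∃ k : ℕ, h ^ 2 ^ k ∈ L) → E ≤ L)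
    (hEa : E ⊔ Subgroup.zpowers a = ⊤) (hc : ⁅σ.ker ⊓ E, E⁆ ≤ W)
    (hk : 4 ≤ m → ∃ k : H, (σ a).Disjoint (σ (k * a * k⁻¹)) ∧ ⁅a, k * a * k⁻¹⁆ ∈ W) :
    σ.ker ≤ W := by
  let π := QuotientGroup.mk' W
  have hπ : Function.Surjective π := QuotientGroup.mk'_surjective _
  let τ := QuotientGroup.lift W σ hW
  have h2' : π a ^ 2 = 1 := by rw [← map_pow]; exact (QuotientGroup.eq_one_iff _).2 h2
  have key := pz0 τ (fun g => by
      obtain ⟨h, rfl⟩ := hs g
      exact ⟨π h, rfl⟩) (fun z hz => by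
      obtain ⟨z, rfl⟩ := hπ z
      obtain ⟨k, hk⟩ := hp ⟨z, hz⟩
      have hk' : z ^ 2 ^ k = 1 := congrArg Subtype.val hk
      exact ⟨k, by rw [← map_pow, hk', map_one]⟩) (a := π a) ha h2' (E.map π)
    (fun L hL h3 => Subgroup.map_le_iff_le_comap.2 (hE (L.comap π) (hL.comap π) fun h => by
      obtain ⟨k, hk⟩ := h3 (π h)
      exact ⟨k, by rw [Subgroup.mem_comap, map_pow]; exact hk⟩))
    (fun h => by
      obtain ⟨h, rfl⟩ := hπ h
      have : h ∈ E ⊔ Subgroup.zpowers a := hEa ▸ Subgroup.mem_top h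
      obtain ⟨e, he, _, ⟨i, rfl⟩, rfl⟩ := Subgroup.mem_sup_of_normal_left.1 this
      have q : ∀ j : ℤ, π a ^ (2 * j) = 1 := fun j => by
        rw [zpow_mul, zpow_two, ← pow_two, h2', one_zpow]
      rcases Int.even_or_odd' i with ⟨j, rfl | rfl⟩
      · left
        rw [map_mul, map_zpow, q, mul_one]
        exact ⟨e, he, rfl⟩
      · right
        rw [map_mul, map_zpow, zpow_add_one, q, one_mul, mul_assoc, ← pow_two, h2', mul_one]
        exact ⟨e, he, rfl⟩)
    (by
      rintro _ ⟨z, hz, rfl⟩ h1 _ ⟨e, he, rfl⟩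
      symm
      rw [← commutatorElement_eq_one_iff_commute, ← map_commutatorElement]
      exact (QuotientGroup.eq_one_iff _).2
        (hc (Subgroup.commutator_mem_commutator ⟨h1, hz⟩ he)))
    (fun h => by
      obtain ⟨k, h1, h2⟩ := hk h
      refine ⟨π k, h1, ?_⟩
      rw [← map_inv, ← map_mul, ← map_mul, ← commutatorElement_eq_one_iff_commute,
        ← map_commutatorElement]
      exact (QuotientGroup.eq_one_iff _).2 h2)
  intro z hz
  exact (QuotientGroup.eq_one_iff _).1 (key (π z) hz)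

end Cfsg.Agent.Spc.PuZ
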