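import Cfsg.Agent.Spc.PuDef
import Cfsg.Agent.Spc.PuZ0

namespace Cfsg.Agent.Spc.Pu

open Subgroup Cfsg.Agent.LocalEven

universe u

theorem pz : PZ.{u} := by
  intro H _ _ m σ W a hs hWn hW hp h2 ha hEa hc hk
  haveI : Fact (Nat.Prime 2) := ⟨Nat.prime_two⟩
  haveI := pResOf_normal (p := 2) (⊤ : Subgroup H)
  refine inf_le_left.trans (PuZ.pz1 σ W a hs hWn hW hp h2 ha _ (fun L _ h => ?_) hEa hc hk)
  refine pResOf_le_iff.2 fun x _ hx => ?_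
  obtain ⟨k, hk⟩ := h x
  obtain ⟨j, hj⟩ := exists_pow_eq_self_of_coprime (x := x) (n := 2 ^ k)
    (Nat.Coprime.pow_left k hx.symm)
  rw [← hj]
  exact pow_mem hk j

end Cfsg.Agent.Spc.Pu
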