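import Cfsg.Agent.Spc.PuA
import Cfsg.Agent.Spc.PuB
import Cfsg.Agent.Spc.PuC1
import Cfsg.Agent.Spc.PuC2
import Cfsg.Agent.Spc.PuT
import Cfsg.Agent.Spc.PuE
import Cfsg.Agent.Spc.PuW
import Cfsg.Agent.Spc.PuMb
import Cfsg.Agent.Spc.PuRB
import Cfsg.Agent.Spc.PuLb
import Cfsg.Agent.Spc.PuZ
import Cfsg.Agent.Spc.PuS1
import Cfsg.Agent.Spc.PuS2
import Cfsg.Agent.Spc.PuS3
import Cfsg.Agent.Spc.PuS4b

/-! Gluing the pieces of the pushing-up theorem. -/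

namespace Cfsg.Agent.Spc.Pu

universe u

theorem asm {p : ℕ} [Fact p.Prime] (hr : PR.{u} p) :
    ∀ (G : Type u) [Group G] [Finite G] (T M : Subgroup G), Set0 p T M → ∃ E, GB p T M E := by
  intro G _ _ T M h
  have rb : RB.{u} p := rb_of pa pb pc1 pc2
  rcases hr G T M h with hl | ⟨rfl, V, K, n, σ, ψ, hs⟩
  · exact plb rb pt G T M h hl
  · obtain ⟨E, hE⟩ := ps1 rb G T M V K n σ ψ h hs
    have h2 := ps2 pz G T M V K E n σ ψ h hs hE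
    obtain ⟨h3, h4⟩ := ps3 G T M V K E n σ ψ h hs hE h2
    exact ⟨E, ps4b G T M V K E n σ ψ h hs hE h3 h4⟩

end Cfsg.Agent.Spc.Pu
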