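import Cfsg.Agent.Spc.PuDef
import Cfsg.Agent.BHS.SL

/-! The maximal overgroup of the Sylow subgroup of a rank one group normalizes it. -/

namespace Cfsg.Agent.Spc.Pu

open Subgroup Cfsg.Agent.LocalEven Cfsg.Agent.PLocal Cfsg.Agent.Push Cfsg.Agent.BHS
open Cfsg.Agent.Glaub hiding cent_anti
open Cfsg.Agent.Classical.SL2Basic
open scoped commutatorElement MatrixGroups

universe u

/-- The upper unitriangular subgroup. -/
def nrmU (F : Type*) [Field F] : Subgroup SL(2, F) where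
  carrier := Set.range upper
  mul_mem' := by rintro _ _ ⟨a, rfl⟩ ⟨b, rfl⟩; exact ⟨a + b, upper_add a b⟩
  one_mem' := ⟨0, upper_zero⟩
  inv_mem' := by
    rintro _ ⟨a, rfl⟩
    exact ⟨-a, eq_inv_of_mul_eq_one_left (by rw [← upper_add, neg_add_cancel, upper_zero])⟩

theorem nrmU_card (F : Type*) [Field F] [Fintype F] : Nat.card (nrmU F) = Fintype.card F := by
  rw [← Nat.card_eq_fintype_card]
  exact (Nat.card_congr (Equiv.ofInjective _ (upper_injective (K := F)))).symm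

theorem nrm_top {F : Type*} [Field F] (H : Subgroup SL(2, F)) (hU : ∀ c, upper c ∈ H)
    {g : SL(2, F)} (hg : g ∈ H) (hc : g 1 0 ≠ 0) : H = ⊤ := by
  have hd := det_eq g
  let w : SL(2, F) := mkSL 0 (-(g 1 0)⁻¹) (g 1 0) 0 (by field_simp; ring)
  have hw : w = upper (-g 0 0 / g 1 0) * g * upper (-g 1 1 / g 1 0) := by
    refine sl2_ext ?_ ?_ ?_ ?_ <;> simp only [mul_apply] <;> simp [w, upper, mkSL] <;>
      field_simp <;> first | ring1 | linear_combination hd | linear_combination -hd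
  have hwH : w ∈ H := hw ▸ H.mul_mem (H.mul_mem (hU _) hg) (hU _)
  refine eq_top_of_upper_lower H hU fun s => ?_
  have : lower s = w * upper (-s / (g 1 0) ^ 2) * w⁻¹ := by
    rw [eq_mul_inv_iff_mul_eq]
    refine sl2_ext ?_ ?_ ?_ ?_ <;> simp only [mul_apply] <;> simp [w, upper, lower, mkSL] <;>
      field_simp
  rw [this]
  exact H.mul_mem (H.mul_mem hwH (hU _)) (H.inv_mem hwH)

theorem nrm_bor {F : Type*} [Field F] {g : SL(2, F)} (hc : g 1 0 = 0) (t : F) :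
    g * upper t * g⁻¹ = upper ((g 0 0) ^ 2 * t) := by
  have hd := det_eq g
  rw [hc] at hd
  rw [mul_inv_eq_iff_eq_mul]
  refine sl2_ext ?_ ?_ ?_ ?_ <;> simp only [mul_apply] <;> simp [upper, mkSL, hc]
  linear_combination (-(g 0 0) * t) * hd

theorem nrm_of {G : Type u} [Group G] [Finite G] {p : ℕ} [Fact p.Prime] {S L M T : Subgroup G}
    (h : AB p S L M T) {F : Type} [Field F] [Fintype F] [CharP F p] (ρ : L →* SL(2, F))
    (hc : Fintype.card F = T.relIndex S) (hs : Function.Surjective ρ)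
    (hk : ρ.ker = T.subgroupOf L) : M ≤ 𝐍⟮S⟯ := by
  classical
  have hTS : T ≤ S := h.TS
  have hSM : S ≤ M := h.min.le
  have hML : M ≤ L := h.min.lt.le
  let P : Sylow p SL(2, F) := h.syl.toSylow.mapSurjective hs
  have hP : (P : Subgroup SL(2, F)) = (S.subgroupOf L).map ρ := rfl
  have hPc : Nat.card (P : Subgroup SL(2, F)) = Fintype.card F := by
    rw [hP, ← relIndex_ker, hk, relIndex_subgroupOf h.syl.le, hc]
  have hU : IsPGroup p (nrmU F) := by
    rintro ⟨_, c, rfl⟩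
    exact ⟨1, Subtype.ext (by simpa using upper_pow_char (p := p) c)⟩
  obtain ⟨Q, hQ⟩ := hU.exists_le_sylow
  have hUQ : nrmU F = Q := eq_of_le_of_card_ge hQ (by
    rw [nrmU_card, ← hPc, Nat.card_congr (Sylow.equiv P Q).toEquiv])
  obtain ⟨x, hx⟩ := MulAction.exists_smul_eq SL(2, F) P Q
  have hmem : ∀ y : SL(2, F), y ∈ (P : Subgroup SL(2, F)) ↔ x * y * x⁻¹ ∈ nrmU F := fun y => by
    rw [hUQ, ← hx, Sylow.coe_subgroup_smul, Subgroup.mem_pointwise_smul_iff_inv_smul_mem]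
    simp [mul_assoc]
  let ρ' : L →* SL(2, F) := (MulAut.conj x).toMonoidHom.comp ρ
  have hρ' : ∀ a, ρ' a = x * ρ a * x⁻¹ := fun a => rfl
  have hS : ∀ a : L, (a : G) ∈ S ↔ ρ' a ∈ nrmU F := fun a => by
    rw [hρ', ← hmem, hP]
    constructor
    · exact fun ha => ⟨a, ha, rfl⟩
    · rintro ⟨b, hb, e⟩
      have : b⁻¹ * a ∈ ρ.ker := by rw [MonoidHom.mem_ker, map_mul, map_inv, e, inv_mul_cancel]
      rw [hk] at this
      have h2 : (b : G) * ((b : G)⁻¹ * a) ∈ S := S.mul_mem hb (hTS this)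
      simpa using h2
  have hs' : Function.Surjective ρ' := (MulAut.conj x).surjective.comp hs
  intro g hg
  by_cases h0 : (ρ' ⟨g, hML hg⟩) 1 0 = 0
  · refine mem_normalizer_fintype fun s hs => ?_
    obtain ⟨t, ht⟩ := (hS ⟨s, h.syl.le hs⟩).1 hs
    refine (hS (⟨g, hML hg⟩ * ⟨s, h.syl.le hs⟩ * ⟨g, hML hg⟩⁻¹)).2 ?_
    rw [map_mul, map_mul, map_inv, ← ht, nrm_bor h0]
    exact ⟨_, rfl⟩
  · exfalso
    have htop := nrm_top ((M.subgroupOf L).map ρ') (fun c => by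
      obtain ⟨a, ha⟩ := hs' (upper c)
      exact ⟨a, hSM ((hS a).2 ⟨c, ha.symm⟩), ha⟩) ⟨⟨g, hML hg⟩, hg, rfl⟩ h0
    refine h.min.lt.not_ge fun l hl => ?_
    obtain ⟨b, hb, e⟩ : ρ' ⟨l, hl⟩ ∈ (M.subgroupOf L).map ρ' := htop ▸ mem_top _
    have : ρ' (b⁻¹ * ⟨l, hl⟩) ∈ nrmU F := by
      rw [map_mul, map_inv, e, inv_mul_cancel]; exact one_mem _
    have h2 : (b : G) * ((b : G)⁻¹ * l) ∈ M := M.mul_mem hb (hSM ((hS _).2 this))
    simpa using h2

end Cfsg.Agent.Spc.Pu
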