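import Cfsg.Agent.Spc.PuDef

/-! The symmetric factor for transvection groups of order two. -/

namespace Cfsg.Agent.Spc.Pu

open Subgroup Cfsg.Agent.LocalEven Cfsg.Agent.PLocal Cfsg.Agent.Push
open Cfsg.Agent.Glaub hiding cent_anti
open scoped MatrixGroups

universe u

variable {G : Type u} [Group G] {p : ℕ} {V P A B C X Y T M L : Subgroup G}
  {D : Set (Subgroup G)} {q : ℕ} [Finite G] [Fact p.Prime]

theorem exists_blk2 (h : MinPar p V P T M) (hD : TvSet p V P D 2) (hA : A ∈ D) :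
    ∃ E ≤ wJ D P, (∃ B ∈ D, B ≤ E ∧ ¬ B ≤ M) ∧ ∀ t ∈ T,
      (∃ n : ℕ, 1 ≤ n ∧ ∃ σ ψ, PermData (2 ^ n + 1) (cj t E) ⁅V, cj t E⁆
        (⁅V, cj t E⁆ ⊓ 𝐂⟮cj t E⟯) σ ψ ∧ Function.Bijective σ) ∧
      V ≤ ⁅V, cj t E⁆ ⊔ (V ⊓ 𝐂⟮cj t E⟯) ∧ (cj t E ≠ E → ⁅V, cj t E⁆ ≤ 𝐂⟮E⟯) := by
  obtain ⟨hS, B, hB, hBM⟩ := h.star hD hA
  have nM : ∀ {t X}, t ∈ T → ¬ X ≤ M → ¬ cj t X ≤ M := fun ht h h' =>
    h (by rwa [← cj_eq_of_mem (hS.le ht), cj_le_cj] at h')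
  have hp : p = 2 := by
    obtain ⟨k, hk⟩ := IsPGroup.iff_card.1 (hD.tv A hA).pgrp
    rw [hD.card A hA] at hk
    exact ((Nat.Prime.pow_eq_iff Nat.prime_two).1 hk.symm).1
  let R : Subgroup G → Subgroup G → Prop := fun X Y => X = Y ∨ ¬ X ≤ 𝐂⟮Y⟯
  have Rs : ∀ {X Y}, R X Y → R Y X := fun h => h.imp Eq.symm (mt le_cent_comm)
  have Rt : ∀ {X Y Z}, X ∈ D → ¬ X ≤ M → Y ∈ D → ¬ Y ≤ M → Z ∈ D → ¬ Z ≤ M → R X Y → R Y Z →
      R X Z := fun h1 h2 h3 h4 h5 h6 a b => by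
    rcases a with rfl | a
    · exact b
    rcases b with rfl | b
    · exact Or.inr a
    exact or_iff_not_imp_right.2 fun c => hS.trans_two hD h1 h2 h3 h4 h5 h6 a b (not_not.1 c)
  have Rc : ∀ {X Y} t, R X Y → R (cj t X) (cj t Y) := fun t h =>
    h.imp (congrArg _) fun e => by rwa [← cj_centralizer, cj_le_cj]
  have mD : ∀ {t}, t ∈ T → cj t B ∈ D := fun ht => hD.conj B hB _ (h.syl.le ht)
  let S : Subgroup G :=
    { carrier := {t | t ∈ T ∧ R (cj t B) B}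
      one_mem' := ⟨one_mem _, Or.inl (cj_one B)⟩
      mul_mem' := fun {s t} hs ht => ⟨mul_mem hs.1 ht.1, Rt (mD (mul_mem hs.1 ht.1))
        (nM (mul_mem hs.1 ht.1) hBM) (mD hs.1) (nM hs.1 hBM) hB hBM
        (cj_mul s t B ▸ Rc s ht.2) hs.2⟩
      inv_mem' := fun {s} hs => ⟨inv_mem hs.1, Rs (by simpa [cj_inv_cj] using Rc s⁻¹ hs.2)⟩ }
  obtain ⟨n, hn⟩ := card_orbit (h.syl.pgrp.to_le (fun _ h => h.1 : S ≤ T)) B
  obtain ⟨r, f, hr, f1, f2⟩ := exists_enum {X | ∃ s ∈ S, cj s B = X}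
  have f3 : ∀ i, ∃ s ∈ S, cj s B = f i := fun i => f2.le ⟨i, rfl⟩
  choose s hs f3 using f3
  have f4 : ∀ t ∈ S, ∃ i, f i = cj t B := fun t ht => f2.ge ⟨t, ht, rfl⟩
  have n0 : n ≠ 0 := by
    rintro rfl
    obtain ⟨A, hA, hAT, hc⟩ := hS.exists_nc hD hB hBM
    obtain ⟨a, ha, ha1⟩ := hD.exists_ne hA
    obtain ⟨g, -⟩ := hS.good' hD hA (hAT.trans hS.le) hB hBM hc
    have t1 := g.cj_ne hD hA hB le_sup_left le_sup_right (fun e => hBM (e ▸ hAT.trans hS.le))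
      ha ha1
    have t2 : a ∈ S := ⟨hAT ha, Or.inr (g.nc _ (mD (hAT ha)) B hB (cj_le_of_mem (mem_sup_left ha)
      le_sup_right) le_sup_right t1)⟩
    have := (Nat.card_eq_one_iff_unique.1 hn).1
    exact t1 (congrArg Subtype.val (@Subsingleton.elim _ this ⟨_, a, t2, rfl⟩
      ⟨B, 1, one_mem _, cj_one B⟩))
  rw [hn, hp] at hr
  subst hr
  have mf : ∀ {t} i, t ∈ T → cj t (f i) ∈ D ∧ ¬ cj t (f i) ≤ M := fun i ht => by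
    rw [← f3, cj_cj]; exact ⟨mD (mul_mem ht (hs i).1), nM (mul_mem ht (hs i).1) hBM⟩
  have mf1 : ∀ i, f i ∈ D ∧ ¬ f i ≤ M := fun i => by simpa [cj_one] using mf i (one_mem T)
  have Rf : ∀ i, R (f i) B := fun i => f3 i ▸ (hs i).2
  have Rf' : ∀ i j, R (f i) (f j) := fun i j =>
    Rt (mf1 i).1 (mf1 i).2 hB hBM (mf1 j).1 (mf1 j).2 (Rf i) (Rs (Rf j))
  obtain ⟨i₀, hi₀⟩ := f4 1 (one_mem _)
  refine ⟨⨆ i, f i, iSup_le fun i => Push.le_wJ (mf1 i).1 (hD.le _ (mf1 i).1),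
    ⟨B, hB, by rw [← cj_one B, ← hi₀]; exact le_iSup f i₀, hBM⟩, fun t ht => ?_⟩
  rw [cj_iSup]
  have hE : ⨆ i, cj t (f i) ≤ P := iSup_le fun i => hD.le _ (mf i ht).1
  obtain ⟨σ, ψ, d, b, su, -⟩ := hD.exists_permData ((Nat.even_pow.2 ⟨even_two, n0⟩))
    (pow_ne_zero n two_ne_zero) (fun i => cj t (f i)) (fun i => (mf i ht).1) fun i j hij =>
      (Rc t (Rf' i j)).resolve_left fun e => hij (f1 (cj_inj.1 e))
  refine ⟨⟨n, Nat.pos_of_ne_zero n0, σ, ψ, d.restrict (hD.mod.comm_le hE)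
    (right_le_normalizer_commutator _ _) su, b⟩, d.dec (hD.mod.comm_le hE) su, fun e => ?_⟩
  have tS : t ∉ S := fun ht' => e (by
    rw [← cj_iSup]
    refine cj_eq_of_mem_normalizer (mem_normalizer_of_cj_le ?_)
    rw [cj_iSup]
    refine iSup_le fun i => ?_
    obtain ⟨j, hj⟩ := f4 _ (mul_mem ht' (hs i))
    rw [← f3, cj_cj, ← hj]; exact le_iSup f j)
  have t1 : ∀ i j, cj t (f i) ≤ 𝐂⟮f j⟯ := fun i j => by_contra fun c => tS ⟨ht,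
    Rt (mD ht) (nM ht hBM) (mf i ht).1 (mf i ht).2 hB hBM (Rc t (Rs (Rf i)))
      (Rt (mf i ht).1 (mf i ht).2 (mf1 j).1 (mf1 j).2 hB hBM (Or.inr c) (Rf j))⟩
  refine le_cent_comm (iSup_le fun j => le_cent_comm ((commutator_iSup_right_le
    (N := V ⊓ 𝐂⟮f j⟯) (fun i => le_inf (hD.mod.comm_le (hD.le _ (mf i ht).1))
      ((hD.comm_le_cent (mf i ht).1 (mf1 j).1).2 (t1 i j))) fun i => le_normalizer_inf
      ((hD.le _ (mf i ht).1).trans hD.mod.norm) (le_normalizer_centralizer ((t1 i j).trans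
        (centralizer_le_normalizer _)))).trans inf_le_right))

theorem p_eq_two (hD : TvSet p V P D 2) (hA : A ∈ D) : p = 2 := by
  obtain ⟨k, hk⟩ := IsPGroup.iff_card.1 (hD.tv A hA).pgrp
  rw [hD.card A hA] at hk
  exact ((Nat.Prime.pow_eq_iff Nat.prime_two).1 hk.symm).1

/-- The symmetric factor, with the facts used later. -/
theorem exists_blk3 (h : MinPar p V P T M) (hD : TvSet p V P D 2) (hA : A ∈ D) :
    ∃ E N, E ≤ N ∧ N ≤ P ∧ N ≤ 𝐍⟮E⟯ ∧ P ≤ 𝐍⟮N⟯ ∧ (∃ B ∈ D, B ≤ E ∧ ¬ B ≤ M) ∧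
      (∃ A ∈ D, A ≤ E ∧ A ≤ T ∧ ¬ A ≤ 𝐂⟮E⟯) ∧
      (∃ n : ℕ, 1 ≤ n ∧ ∃ σ ψ, PermData (2 ^ n + 1) E ⁅V, E⁆
        (⁅V, E⁆ ⊓ 𝐂⟮E⟯) σ ψ ∧ Function.Bijective σ) ∧
      V ≤ ⁅V, E⁆ ⊔ (V ⊓ 𝐂⟮E⟯) ∧ ∀ t ∈ T, cj t E = E ∨ cj t E ≤ 𝐂⟮E⟯ := by
  obtain ⟨E, e1, ⟨B, hB, b1, b2⟩, e2⟩ := exists_blk2 h hD hA
  obtain ⟨hS, -⟩ := h.star hD hA
  have hE : E ≤ P := e1.trans wJ_le
  have hTP := h.syl.le
  have c : ∀ t ∈ T, cj t E = E ∨ cj t E ≤ 𝐂⟮E⟯ := fun t ht => or_iff_not_imp_left.2 fun e => by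
    refine hD.mod.comm_of_three (cj_le_of_mem (hTP ht) hE) hE ((e2 t ht).2.2 e) ?_
    have := (e2 _ (inv_mem ht)).2.2 fun k => e (by rw [← k, cj_cj, mul_inv_cancel, cj_one, k])
    rwa [hD.comm_cj (inv_mem (hTP ht)), ← le_cj_iff, cj_centralizer] at this
  have e3 := e2 1 (one_mem _)
  rw [cj_one] at e3
  have n1 : cjClos E T ≤ 𝐍⟮E⟯ := cjClos_le_iff.2 fun t ht => (c t ht).elim
    (fun e => e.le.trans le_normalizer) fun e => e.trans (centralizer_le_normalizer _)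
  have n2 : P ≤ 𝐍⟮cjClos E T⟯ := (h.sup_eq hE fun e => b2 (b1.trans e)).ge.trans
    (sup_le ((le_cjClos E T).trans le_normalizer) (le_normalizer_cjClos _ _))
  obtain ⟨A, hA, hAT, hc⟩ := hS.exists_nc hD hB b2
  obtain ⟨a, ha, ha1⟩ := hD.exists_ne hA
  obtain ⟨g, -⟩ := hS.good' hD hA (hAT.trans hS.le) hB b2 hc
  have t1 := g.cj_ne hD hA hB le_sup_left le_sup_right (fun e => b2 (e ▸ hAT.trans hS.le)) ha ha1
  have m1 := hD.conj B hB a (hD.le A hA ha)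
  have l1 : cj a B ≤ A ⊔ B := cj_le_of_mem (mem_sup_left ha) le_sup_right
  have t2 : cj a E = E := (c a (hAT ha)).resolve_right fun e =>
    g.nc _ m1 B hB l1 le_sup_right t1 (((cj_mono a b1).trans e).trans (cent_anti b1))
  have t3 : A ≤ E := le_sup_left.trans ((g.gen _ m1 B hB l1 le_sup_right t1).ge.trans
    (sup_le ((cj_mono a b1).trans t2.le) b1))
  exact ⟨E, cjClos E T, le_cjClos _ _, cjClos_le hE (hTP.trans le_normalizer), n1, n2,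
    ⟨B, hB, b1, b2⟩, ⟨A, hA, t3, hAT, fun e => hc (e.trans (cent_anti b1))⟩, e3.1, e3.2.1, c⟩

end Cfsg.Agent.Spc.Pu
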