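import Mathlib

/-! Transpositions outside a proper subgroup of a symmetric group. -/

namespace Cfsg.Agent.Spc.Pu

open Equiv Equiv.Perm

theorem exists_swap_out {α : Type*} [Fintype α] [DecidableEq α] (H : Subgroup (Equiv.Perm α))
    (hH : H ≠ ⊤) {s : Equiv.Perm α} (hs : s.IsSwap) (hsH : s ∈ H) :
    ∃ t : Equiv.Perm α, t.IsSwap ∧ t ∉ H ∧ ¬ Commute s t := by
  obtain ⟨a, b, hab, rfl⟩ := hs
  by_contra hcon
  have h1 : ∀ c, swap a c ∈ H := by
    intro c
    by_cases hca : c = a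
    · rw [hca, swap_self]; exact H.one_mem
    by_cases hcb : c = b
    · rw [hcb]; exact hsH
    by_contra hn
    refine hcon ⟨swap a c, ⟨a, c, fun e => hca e.symm, rfl⟩, hn, fun hc => ?_⟩
    have := congrArg (fun f : Perm α => f a) hc.eq
    simp only [Perm.mul_apply, swap_apply_left] at this
    rw [swap_apply_of_ne_of_ne hca hcb, swap_apply_of_ne_of_ne hab.symm (fun e => hcb e.symm)] at this
    exact hcb this
  apply hH
  rw [eq_top_iff, ← closure_isSwap, Subgroup.closure_le]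
  rintro _ ⟨x, y, hxy, rfl⟩
  by_cases hx : x = a
  · rw [hx]; exact h1 y
  by_cases hy : y = a
  · rw [hy, swap_comm]; exact h1 x
  have : swap x y = swap a x * swap a y * (swap a x)⁻¹ := by
    rw [← swap_apply_apply, swap_apply_left, swap_apply_of_ne_of_ne hy hxy.symm]
  rw [this]
  exact H.mul_mem (H.mul_mem (h1 x) (h1 y)) (H.inv_mem (h1 x))

theorem swap_conj {α : Type*} [Fintype α] [DecidableEq α] {s t : Equiv.Perm α} (hs : s.IsSwap)
    (ht : t.IsSwap) : ∃ g, g * s * g⁻¹ = t := by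
  obtain ⟨a, b, hab, rfl⟩ := hs
  obtain ⟨c, d, hcd, rfl⟩ := ht
  exact isConj_iff.mp (isConj_swap hab hcd)

end Cfsg.Agent.Spc.Pu
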