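import Cfsg.Agent.Spc.PuR1
import Cfsg.Agent.Spc.PuR2
import Cfsg.Agent.Spc.PuX

/-! The reduction to the linear and the symmetric case. -/

namespace Cfsg.Agent.Spc.Pu

open Subgroup Cfsg.Agent.LocalEven Cfsg.Agent.PLocal Cfsg.Agent.Push Cfsg.Agent.BHS
open Cfsg.Agent.Glaub hiding cent_anti
open Cfsg.Agent.Spc.Gn
open scoped commutatorElement MatrixGroups

universe u

variable {G : Type u} [Group G] [Finite G] {p : ℕ} [hp : Fact p.Prime] {T M V : Subgroup G}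

omit [Finite G] in
theorem pr_pull [V.Normal] {U : Subgroup G} (hU : U ≤ V) {y : G}
    (h : holRep V y ∈ 𝐂⟮holImg V U⟯) : y ∈ 𝐂⟮U⟯ := by
  have := (holImg_le_cent (E := zpowers y) hU).1 (by
    rw [MonoidHom.map_zpowers]; exact le_cent_comm (zpowers_le.2 h))
  exact le_cent_comm this (mem_zpowers y)

theorem pr_cX {P A B X : Subgroup G} {D : Set (Subgroup G)} {q : ℕ} (hD : TvSet p V P D q)
    (hA : A ∈ D) (hB : B ∈ D) (hX : X ∈ D) (h : X ≤ 𝐂⟮A ⊔ B⟯) : X ≤ 𝐂⟮⁅V, A ⊔ B⁆⟯ := by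
  rw [hD.mod.comm_sup (hD.le A hA) (hD.le B hB)]
  exact le_cent_comm (sup_le
    ((hD.comm_le_cent hA hX).2 (le_cent_comm (h.trans (cent_anti le_sup_left))))
    ((hD.comm_le_cent hB hX).2 (le_cent_comm (h.trans (cent_anti le_sup_right)))))

omit [Finite G] in
theorem pr_norm {H : Type u} [Group H] (f : G →* H) {X : Subgroup H} {g : G} (h : f g ∈ 𝐍⟮X⟯) :
    g ∈ 𝐍⟮X.comap f⟯ := le_normalizer_comap f h

omit [Finite G] in
theorem pr_zp {A : Subgroup G} (h : Nat.card A = 2) {a : G} (ha : a ∈ A) (h1 : a ≠ 1) :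
    zpowers a = A := le_antisymm (zpowers_le.2 ha) fun x hx => by
  by_cases e : x = 1
  · rw [e]; exact one_mem _
  · rw [eq_of_card_two h hx ha e h1]; exact mem_zpowers a

theorem pr (he : PE.{u} p) (hw : PW.{u}) (hr : RB.{u} p) (hN : PNr.{u} p) : PR.{u} p := by
  intro G _ _ T M h
  haveI i0 := Transfer.omegaOneCenter_normal (p := p) (pCore p G)
  obtain ⟨V, hVd⟩ : ∃ V, V = OZ p (pCore p G) := ⟨_, rfl⟩
  haveI : V.Normal := hVd ▸ i0
  have hS := h.syl
  have hV : IsElementaryAbelian p V := hVd ▸ Transfer.ea_omegaOneCenter _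
  have hO : pCore p G ≤ 𝐂⟮V⟯ := hVd ▸ Transfer.le_centralizer_omegaOneCenter _
  have hVS : V ≤ T := (hVd ▸ omegaOneCenter_le _ : V ≤ pCore p G).trans h.OT
  have hcV : 𝐂⟮V⟯ ≤ M := (cent_anti inf_le_left).trans (hVd ▸ h.cV)
  have mp := minPar_hol hV hS h.min hO (hVd ▸ h.cV)
  have hk : (holRep V).ker ≤ M := ker_holRep.le.trans hcV
  have cM := comap_map_eq_self hk
  obtain ⟨X₀, hX₀, hX₀V⟩ : ∃ X ∈ Transfer.MaxEA p T, ¬ X ≤ 𝐂⟮V⟯ := by
    by_contra e
    push Not at e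
    have := (minIn_le_pCoreOf h.min hS.pgrp le_normalizer_of_normal hcV
      (hS.pgrp.to_le (jt_le _))
      (Transfer.thompsonSubgroupOf_le_iff.2 e)).trans pCoreOf_top.le
    refine h.min.lt.not_ge (le_trans ?_ h.nJ)
    rw [← jt_eq_of_le this h.OT]
    haveI := Transfer.thompsonSubgroupOf_normal (p := p) (pCore p G)
    exact le_normalizer_of_normal
  obtain ⟨A₀, a0, m⟩ := exists_minOff_hol (Or.inr rfl) hV hS.pgrp hVS hX₀ hX₀V
  have hD := mp.tvSet (a0.trans (map_mono le_top)) m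
  have hA₀ : A₀ ∈ {X | ∃ g ∈ (⊤ : Subgroup G).map (holRep V), cj g A₀ = X} :=
    ⟨1, one_mem _, cj_one _⟩
  generalize {X | ∃ g ∈ (⊤ : Subgroup G).map (holRep V), cj g A₀ = X} = D at hD hA₀
  generalize Nat.card A₀ = q at hD
  obtain ⟨st, -⟩ := mp.star hD hA₀
  have nR : ∀ {L}, R1 p T M L → ¬ (pResOf p L).map (holRep V) ≤ M.map (holRep V) :=
    fun r e => r.ab.res_not_le (le_inf (pResOf_le _) ((map_le_iff_le_comap.1 e).trans cM.le))
  have nL : ∀ L : Subgroup G, L.map (holRep V) ≤ 𝐍⟮(pResOf p L).map (holRep V)⟯ := fun L =>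
    (map_mono (le_normalizer_pResOf L)).trans (le_normalizer_map _)
  have pl : ∀ {E : Subgroup G} {Y : Subgroup (Hol V)} {y : G}, E.map (holRep V) ≤ Y →
      holRep V y ∈ 𝐂⟮⁅holV V, Y⁆⟯ → y ∈ 𝐂⟮⁅V, E⁆⟯ := fun e k =>
    pr_pull (commutator_le_left _ _) (by
      rw [← holV_comm]; exact cent_anti (commutator_mono le_rfl e) k)
  rcases (show 2 < q ∨ q = 2 by have := hD.one_lt hA₀; omega) with hq | rfl
  · left
    have hAT : A₀ ≤ T.map (holRep V) := a0.trans (map_mono hX₀.1)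
    obtain ⟨B, hB, hBM, hc⟩ := mp.exists_nc hD hA₀
    obtain ⟨-, L, r, l⟩ := r1 he hr hN h hVd mp hD hA₀ hAT hB hBM hc
    have hAL : A₀ ≤ L.map (holRep V) := a0.trans (map_mono
      (((Transfer.le_thompsonSubgroupOf hX₀).trans (jt_le_bm T)).trans r.ab.syl.le))
    obtain ⟨g1, -⟩ := r1_gen hD st hA₀ hAT hB hBM hc l (nR r) (hAL.trans (nL L))
    have n1 : (⊤ : Subgroup G).map (holRep V) ≤ 𝐍⟮wJ D ((⊤ : Subgroup G).map (holRep V))⟯ :=
      fun g hg => mem_normalizer_of_cj_le (cj_le_iff.2 (wJ_le_iff.2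
        fun A hA hT => cj_le_iff.1 (Push.le_wJ (hD.conj A hA g hg) (cj_le_of_mem hg hT))))
    refine ⟨L, (wJ D ((⊤ : Subgroup G).map (holRep V))).comap (holRep V), r,
      normalizer_eq_top_iff.1 (top_le_iff.1 fun g _ => pr_norm _ (n1 (mem_map_of_mem _ (mem_top g)))),
      map_le_iff_le_comap.1 (l.trans (sup_le (Push.le_wJ hA₀ (hD.le _ hA₀))
        (Push.le_wJ hB (hD.le _ hB)))), ?_⟩
    rw [← hVd]
    have k : (holRep V).ker ≤ L ⊔ 𝐂⟮⁅V, pResOf p L⁆⟯ :=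
      ker_holRep.le.trans (le_sup_of_le_right (cent_anti (commutator_le_left _ _)))
    refine (comap_mono (wJ_le_iff.2 fun X hX hXP => ?_)).trans (comap_map_eq_self k).le
    rcases st.le_or_comm hD hq hA₀ hAT hB hBM hc hX with e | e
    · exact (e.trans (g1.trans (sup_le (map_mono (pResOf_le _)) hAL))).trans (map_mono le_sup_left)
    · intro x hx
      obtain ⟨y, -, rfl⟩ := hXP hx
      exact mem_map_of_mem _ (mem_sup_right (pl l (pr_cX hD hA₀ hB hX e hx)))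
  obtain rfl := p_eq_two hD hA₀
  refine Or.inr ⟨rfl, ?_⟩
  obtain ⟨E, N, e1, e2, e3, e4, ⟨B₀, hB₀, b1, b2⟩, ⟨A₁, hA₁, a1, a2, a3⟩, ⟨n, hn, σ, ψ, d, bij⟩,
    dec, cE⟩ := exists_blk3 mp hD hA₀
  obtain ⟨K, hK, rfl⟩ : ∃ K : Subgroup G, (holRep V).ker ≤ K ∧ E = K.map (holRep V) :=
    ⟨E.comap (holRep V), ker_le_comap _ _, (map_comap_eq_self (by
      rw [MonoidHom.range_eq_map]; exact e1.trans e2)).symm⟩
  have cK := comap_map_eq_self hK
  have hle : ⁅V, K⁆ ≤ V := commutator_le_left _ _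
  rw [holV_comm, holImg_inf_cent] at d
  have d' := d.ofHol hle (right_le_normalizer_commutator _ _)
  rw [← inf_assoc, inf_idem] at d'
  have surj : Function.Surjective (σ.comp ((holRep V).subgroupMap K)) :=
    bij.2.comp (MonoidHom.subgroupMap_surjective _ _)
  have ker := ker_comp_hol (V := V) (E := K) bij.1
  have inj : ∀ x y : K, (σ.comp ((holRep V).subgroupMap K)) x =
      (σ.comp ((holRep V).subgroupMap K)) y ↔ holRep V x = holRep V y := fun x y =>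
    ⟨fun e => congrArg Subtype.val (bij.1 e), fun e => congrArg σ (Subtype.ext e)⟩
  generalize σ.comp ((holRep V).subgroupMap K) = τ at d' surj ker inj
  have one : ∀ x : K, τ x = 1 ↔ holRep V x = 1 := fun x => by
    have := inj x 1
    rwa [map_one, coe_one, map_one] at this
  have sw1 : ∀ k : K, holRep V k ≠ 1 → zpowers (holRep V k) ∈ D → (τ k).IsSwap := fun k k1 kD => by
    refine hw G K _ _ n τ _ k hn d' (fun e => k1 ((one k).1 e)) ?_ ?_
    · rw [← map_pow, one, coe_pow, map_pow]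
      exact (hD.tv _ kD).ea.2 _ (mem_zpowers _)
    · refine (relIndex_mono_right _ hle).trans ?_
      rw [← relIndex_cent_hol (V := V) le_rfl, holImg_self, MonoidHom.map_zpowers, hD.idx kD]
  obtain ⟨a₁, ha₁, ha₁1⟩ := hD.exists_ne hA₁
  have z1 := pr_zp (hD.card _ hA₁) ha₁ ha₁1
  obtain ⟨t₁, ht₁, rfl⟩ := a2 ha₁
  have ht₁K : t₁ ∈ K := cK.le (a1 ha₁)
  have s1 : (τ ⟨t₁, ht₁K⟩).IsSwap := sw1 ⟨t₁, ht₁K⟩ ha₁1 (z1.symm ▸ hA₁)
  have sw2 : ∀ k : K, (τ k).IsSwap → zpowers (holRep V k) ∈ D := fun k hk' => by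
    obtain ⟨g, hg⟩ := swap_conj s1 hk'
    obtain ⟨x, rfl⟩ := surj g
    rw [← map_inv, ← map_mul, ← map_mul, inj] at hg
    rw [← hg, coe_mul, coe_mul, coe_inv, map_mul, map_mul, map_inv, ← cj_zpowers]
    exact hD.conj _ (z1.symm ▸ hA₁) _ (mem_map_of_mem _ (mem_top _))
  have ne1 : ∀ k : K, (τ k).IsSwap → holRep V k ≠ 1 := fun k hk' e => by
    obtain ⟨i, j, hij, e'⟩ := hk'
    rw [(one k).2 e] at e'
    exact hij (Equiv.swap_eq_one_iff.1 e'.symm)
  have hKM : ¬ K ≤ M := fun e => b2 (b1.trans (map_mono e))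
  refine ⟨V, K, n, τ, _, hVd, hn, ?_, ker_holRep.ge.trans hK, hKM, ?_, surj, ker, d', ?_,
    ⟨⟨t₁, ht₁K⟩, ht₁, s1⟩, fun a haT has => ?_⟩
  · refine IsSubnormal.step K (N.comap (holRep V)) (map_le_iff_le_comap.1 e1)
      (Normal.isSubnormal (normalizer_eq_top_iff.1 (top_le_iff.1 fun g _ =>
        pr_norm _ (e4 (mem_map_of_mem _ (mem_top g))))))
      ((normal_subgroupOf_iff_le_normalizer (map_le_iff_le_comap.1 e1)).2 fun g hg => ?_)
    rw [← cK]
    exact pr_norm _ (e3 hg)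
  · intro y hy
    obtain ⟨B, hB, hBM, hc⟩ := mp.exists_nc hD hA₁
    obtain ⟨j, -⟩ := r1 he hr hN h hVd mp hD hA₁ a2 hB hBM hc
    rw [← cK]
    refine pr_norm _ (cj_eq_self_iff.1 ((cE _ (mem_map_of_mem _ (bm_le T hy))).resolve_right
      fun e => a3 (le_trans ?_ e)))
    rw [← cj_eq_of_mem_normalizer (centralizer_le_normalizer _ (j (mem_map_of_mem _ hy)))]
    exact cj_mono _ a1
  · rwa [holV_comm, ← holImg_self, holImg_inf_cent, ← holImg_sup hle inf_le_left,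
      holImg_le le_rfl] at dec
  have hA := sw2 a has
  have hAT : zpowers (holRep V a) ≤ T.map (holRep V) := zpowers_le.2 (mem_map_of_mem _ haT)
  have mH : ∀ x : K, τ x ∈ (M.subgroupOf K).map τ → (x : G) ∈ M := fun x ⟨y, hy, e⟩ =>
    cM.le ⟨y, hy, (inj y x).1 e⟩
  obtain ⟨t, ts, tH, tc⟩ := exists_swap_out ((M.subgroupOf K).map τ)
    (fun e => hKM fun x hx => mH ⟨x, hx⟩ (e ▸ mem_top _)) has
    (mem_map_of_mem _ (h.min.le haT))
  obtain ⟨b, rfl⟩ := surj t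
  have hB := sw2 b ts
  have hBM : ¬ zpowers (holRep V b) ≤ M.map (holRep V) := fun e =>
    tH (mem_map_of_mem _ (cM.le (e (mem_zpowers _))))
  have hc : ¬ zpowers (holRep V a) ≤ 𝐂⟮zpowers (holRep V b)⟯ := fun e => tc (by
    have := e (mem_zpowers _) _ (mem_zpowers _)
    rw [Commute, SemiconjBy, ← map_mul, ← map_mul, inj, coe_mul, coe_mul, map_mul, map_mul]
    exact this.symm)
  have hABK : zpowers (holRep V a) ⊔ zpowers (holRep V b) ≤ K.map (holRep V) :=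
    sup_le (zpowers_le.2 (mem_map_of_mem _ a.2)) (zpowers_le.2 (mem_map_of_mem _ b.2))
  obtain ⟨j, L, r, l⟩ := r1 he hr hN h hVd mp hD hA hAT hB hBM hc
  have cA := hD.card _ hA
  have eA : zpowers (holRep V a) = (zpowers (a : G)).map (holRep V) :=
    (MonoidHom.map_zpowers _ _).symm
  have mA := mem_zpowers (holRep V a)
  generalize zpowers (holRep V a) = A at hA hAT hc hABK j l cA eA mA
  generalize zpowers (holRep V b) = B at hB hBM hc hABK l
  have hdec : ∀ y ∈ Bm 2 T, ∃ c ∈ A, c⁻¹ * holRep V y ∈ 𝐂⟮A ⊔ B⟯ ⊓ 𝐂⟮⁅holV V, A ⊔ B⁆⟯ :=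
    fun y hy => st.exists_dec hD hA hAT hB hBM hc (mem_map_of_mem _ (bm_le T hy))
      (j (mem_map_of_mem _ hy))
  have hn' : A ≤ 𝐍⟮(pResOf 2 L).map (holRep V)⟯ := by
    by_contra hcon
    have k1 : Bm 2 T ≤ (𝐂⟮A ⊔ B⟯).comap (holRep V) := fun y hy => by
      obtain ⟨c, hcA, hc'⟩ := hdec y hy
      by_cases e : c = 1
      · have := hc'.1
        rwa [e, inv_one, one_mul] at this
      · refine (hcon ?_).elim
        rw [← pr_zp cA hcA e, zpowers_le]
        have k2 := nL L (mem_map_of_mem _ (r.ab.syl.le hy))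
        have k3 := centralizer_le_normalizer _ (cent_anti l hc'.1)
        simpa using mul_mem k2 (inv_mem k3)
    have k2 : L ≤ 𝐍⟮(𝐂⟮A ⊔ B⟯).comap (holRep V)⟯ := r.ab.syl.pResOf_sup.ge.trans (sup_le
      (fun g hg => pr_norm _ (le_normalizer_centralizer le_normalizer (l (mem_map_of_mem _ hg))))
      (k1.trans le_normalizer))
    have k3 := r.ab.res_le k2 le_rfl k1 r.ab.not_le
    exact hcon ((le_cent_comm ((map_le_iff_le_comap.2 k3).trans (cent_anti le_sup_left))).trans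
      (centralizer_le_normalizer _))
  obtain ⟨-, g2⟩ := r1_gen hD st hA hAT hB hBM hc l (nR r) hn'
  refine ⟨L, r, (map_le_iff_le_comap.1 (l.trans hABK)).trans cK.le, ?_, fun y hy => ?_,
    fun b' hbT hbs hne => ?_⟩
  · rwa [eA, holV_comm, holV_comm, holImg_le (commutator_le_left _ _)] at g2
  · obtain ⟨c, hcA, hc'⟩ := hdec y hy
    obtain ⟨c, hc1, rfl⟩ := eA.le hcA
    rw [← map_inv, ← map_mul] at hc'
    refine ⟨c, hc1, pl l hc'.2, le_normalizer_of_normal (mem_top _), fun v hv => ?_⟩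
    rw [← holRep_eq_one_iff, map_commutatorElement, commutatorElement_eq_one_iff_mul_comm]
    exact hc'.1 _ (l (mem_map_of_mem _ hv))
  · have hX := sw2 b' hbs
    exact pl l (pr_cX hD hA hB hX (st.le_cent_sup hD hA hAT hB hBM hc hX
      (zpowers_le.2 (mem_map_of_mem _ hbT)) fun e => hne ((inj _ _).2
        (eq_of_card_two cA (e ▸ mem_zpowers _) mA (ne1 _ hbs) (ne1 _ has)))) (mem_zpowers _))

end Cfsg.Agent.Spc.Pu
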