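import Cfsg.Agent.Spc.GnA
import Cfsg.Agent.Push.CStar

/-! Reduction to a rank one subgroup containing the Baumann subgroup. -/

namespace Cfsg.Agent.Spc.Gn

open Subgroup Cfsg.Agent.LocalEven Cfsg.Agent.PLocal Cfsg.Agent.Push
open Cfsg.Agent.Glaub hiding cent_anti
open scoped commutatorElement

universe u

variable {G : Type u} [Group G] {p : ℕ} {S M V : Subgroup G}

theorem NC.thompson [Finite G] [Fact p.Prime] (h : NC S M) (hS : IsPGroup p S) (h0 : S ≠ ⊥) :
    𝐍⟮thompsonSubgroupOf 0 S⟯ ≤ M := by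
  have e : (thompsonSubgroupOf 0 (⊤ : Subgroup S)).map S.subtype = thompsonSubgroupOf 0 S := by
    rw [Transfer.map_thompsonSubgroupOf_of_injective _ S.subtype_injective,
      ← MonoidHom.range_eq_map, range_subtype]
  rw [← e]
  refine h _ (fun k => Transfer.thompsonSubgroupOf_ne_bot_of_zero_or_eq (Or.inl rfl) hS h0 ?_)
    (char_of_map (fun S => thompsonSubgroupOf 0 S) fun e =>
      Transfer.map_thompsonSubgroupOf_of_injective _ e.injective)
  rw [← e, k, Subgroup.map_bot]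

theorem NC.omega [Finite G] [Fact p.Prime] (h : NC S M) (hS : IsPGroup p S) (h0 : S ≠ ⊥) :
    𝐍⟮omegaOneCenter p S⟯ ≤ M := by
  have e : (omegaOneCenter p (⊤ : Subgroup S)).map S.subtype = omegaOneCenter p S := by
    rw [map_omegaOneCenter_of_injective _ S.subtype_injective,
      ← MonoidHom.range_eq_map, range_subtype]
  rw [← e]
  refine h _ (fun k => Transfer.omegaOneCenter_ne_bot hS h0 ?_)
    (char_of_map (fun S => omegaOneCenter p S) fun e =>
      map_omegaOneCenter_of_injective _ e.injective _)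
  rw [← e, k, Subgroup.map_bot]

theorem syl_comap {H : Type u} [Group H] [Finite G] [Fact p.Prime] (f : G →* H)
    (hS : IsSylowIn p S ⊤) {C L : Subgroup H} (h : IsSylowIn p (S.map f ⊓ C) L) :
    IsSylowIn p (S ⊓ C.comap f) (L.comap f) := by
  have hk := hS.inf_of_le_normalizer (N := f.ker) le_top le_normalizer_of_normal
  refine ⟨fun x hx => h.le ⟨⟨x, hx.1, rfl⟩, hx.2⟩, hS.pgrp.to_le inf_le_left,
    fun Q hQ hQp hle => le_antisymm (fun y hy => ?_) hle⟩
  have e1 := h.max (Q.map f) (map_le_iff_le_comap.2 hQ) (hQp.map f) (by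
    rintro _ ⟨⟨x, hx, rfl⟩, hc⟩
    exact ⟨x, hle ⟨hx, hc⟩, rfl⟩)
  have l2 : S ⊓ f.ker ≤ S ⊓ C.comap f := inf_le_inf_left _ fun x hx => by
    rw [mem_comap, (MonoidHom.mem_ker).1 hx]; exact one_mem _
  have e2 := hk.max (Q ⊓ f.ker) inf_le_right (hQp.to_le inf_le_left)
    (le_inf (l2.trans hle) inf_le_right)
  obtain ⟨⟨s, hs, es⟩, hc⟩ := e1.le (mem_map_of_mem f hy)
  have hs' : s ∈ S ⊓ C.comap f := ⟨hs, show f s ∈ C by rw [es]; exact hc⟩
  have : s⁻¹ * y ∈ S ⊓ f.ker := e2.le ⟨Q.mul_mem (Q.inv_mem (hle hs')) hy,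
    show f (s⁻¹ * y) = 1 by rw [map_mul, map_inv, es, inv_mul_cancel]⟩
  simpa using Subgroup.mul_mem _ hs' (l2 this)

theorem ph1 [hp : Fact p.Prime] : Ph1.{u} p := by
  intro G _ _ S M hS h hG nc
  have h0 : S ≠ ⊥ := fun e => h.not_le_normalizer' (by rw [e]; exact le_normalizer_of_normal)
  haveI := Transfer.omegaOneCenter_normal (p := p) (pCore p G)
  set V := omegaOneCenter p (pCore p G) with hVd
  have hV : IsElementaryAbelian p V := Transfer.ea_omegaOneCenter _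
  have hO : pCore p G ≤ 𝐂⟮V⟯ := Transfer.le_centralizer_omegaOneCenter _
  have hOS : pCore p G ≤ S := pCoreOf_top.ge.trans hS.pCoreOf_le
  have hVS : V ≤ S := (omegaOneCenter_le _).trans hOS
  have hZ : omegaOneCenter p S ≤ V := fun x hx => by
    obtain ⟨h1, h2, h3⟩ := mem_omegaOneCenter.1 hx
    exact mem_omegaOneCenter.2 ⟨hG (cent_anti hOS h2), cent_anti hOS h2, h3⟩
  have hc : 𝐂⟮V ⊓ 𝐂⟮S⟯⟯ ≤ M :=
    (cent_anti (le_inf hZ (omegaOneCenter_le_centralizer _))).trans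
      ((centralizer_le_normalizer _).trans (nc.omega hS.pgrp h0))
  have hcV : 𝐂⟮V⟯ ≤ M := (cent_anti inf_le_left).trans hc
  have hJ := nc.thompson hS.pgrp h0
  have mp := minPar_hol hV hS h hO hc
  set f := holRep V with hf
  have hk : f.ker ≤ M := ker_holRep.le.trans hcV
  obtain ⟨X₀, hX₀, hX₀V⟩ : ∃ X ∈ Transfer.MaxEA 0 S, ¬ X ≤ 𝐂⟮V⟯ := by
    by_contra e
    push Not at e
    have := (minIn_le_pCoreOf h hS.pgrp le_normalizer_of_normal hcV
      (hS.pgrp.to_le (Transfer.thompsonSubgroupOf_le _))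
      (Transfer.thompsonSubgroupOf_le_iff.2 e)).trans pCoreOf_top.le
    refine h.lt.not_ge (le_trans ?_ hJ)
    rw [← Transfer.thompsonSubgroupOf_eq_of_le this hOS]
    haveI := Transfer.thompsonSubgroupOf_normal (p := 0) (pCore p G)
    exact le_normalizer_of_normal
  obtain ⟨A₀, a0, m⟩ := exists_minOff_hol (Or.inl rfl) hV hS.pgrp hVS hX₀ hX₀V
  have hD := mp.tvSet (a0.trans (map_mono le_top)) m
  have hA₀ : A₀ ∈ {X | ∃ g ∈ (⊤ : Subgroup G).map f, cj g A₀ = X} := ⟨1, one_mem _, cj_one _⟩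
  generalize {X | ∃ g ∈ (⊤ : Subgroup G).map f, cj g A₀ = X} = D at hD hA₀
  obtain ⟨st, B, hB, hBM⟩ := mp.star hD hA₀
  obtain ⟨A, hA, hAT, hAB⟩ := st.exists_nc hD hB hBM
  obtain ⟨d1, d2, d3⟩ := blk_data hD st hA hAT hB hBM hAB
  have sy := syl_comap f hS d1
  -- `J(S)` acts inside `wJ`
  have j1 : (thompsonSubgroupOf 0 S).map f ≤ wJ D (S.map f) := by
    rw [map_le_iff_le_comap, Transfer.thompsonSubgroupOf_le_iff]
    intro X hX
    rw [← map_le_iff_le_comap]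
    refine (le_wJ_ab mp hD hA₀ (map_mono hX.1) (map_le_cent (ma_comm hX)) ?_).trans
      (sSup_le_sSup fun Z hZ => ⟨hZ.1, hZ.2.trans (map_mono hX.1)⟩)
    have := Transfer.card_mul_le_of_mem_maxEA hX hVS (Transfer.ea_of_zero_or_eq (Or.inl rfl) hV)
    rw [← card_map_holRep (V := V) X, mul_assoc] at this
    rw [card_holV, card_holV_inf_centralizer]
    exact Nat.le_of_mul_le_mul_left this Nat.card_pos
  have j2 : ⁅holV V, A⁆ ≤ holImg V (V ⊓ 𝐂⟮thompsonSubgroupOf 0 S⟯) := by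
    rw [← holImg_inf_cent, holImg_self]
    exact ((commutator_mono le_rfl (Push.le_wJ hA hAT)).trans (st.quad_wJ hD)).trans
      (inf_le_inf_left _ (cent_anti j1))
  have j3 : V ⊓ 𝐂⟮thompsonSubgroupOf 0 S⟯ ≤ centerThompsonAOf S :=
    le_zj (inf_le_left.trans hVS) ((inf_le_left.trans (elemAb_le_centralizer hV)).trans
      (cent_anti inf_le_left)) inf_le_right
  have j4 : S ⊓ 𝐂⟮centerThompsonAOf S⟯ ≤ S ⊓ (𝐂⟮A⟯).comap f := fun b hb => ⟨hb.1, by
    refine cent_of_cent_comm hD st hA hAT hB hBM hAB (mem_map_of_mem f hb.1) ?_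
    have : holImg V (V ⊓ 𝐂⟮thompsonSubgroupOf 0 S⟯) ≤
        𝐂⟮(S ⊓ 𝐂⟮centerThompsonAOf S⟯).map f⟯ :=
      (holImg_le_cent inf_le_left).2 (j3.trans (le_cent_comm inf_le_right))
    exact le_cent_comm (j2.trans this) (mem_map_of_mem f hb)⟩
  set S₁ := S ⊓ (𝐂⟮A⟯).comap f with hS₁
  set C := S.map f ⊓ 𝐂⟮A ⊔ B⟯ with hC
  set H₀ := ((A ⊔ B) ⊔ C).comap f with hH₀
  have hH₀M : ¬ H₀ ≤ M := fun e => hBM fun y hy => by
    obtain ⟨x, -, rfl⟩ := hD.le B hB hy
    exact mem_map_of_mem f (e (Subgroup.mem_sup_left (Subgroup.mem_sup_right hy)))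
  obtain ⟨H, ⟨l1, l2, l3⟩, hm⟩ := exists_minimal_of_wellFoundedLT
    (fun H : Subgroup G => S₁ ≤ H ∧ H ≤ H₀ ∧ ¬ H ≤ M) ⟨H₀, sy.le, le_rfl, hH₀M⟩
  have syH := sy.mono l1 l2
  have jS : thompsonSubgroupOf 0 S ≤ S₁ := le_trans (le_inf (Transfer.thompsonSubgroupOf_le _)
    (le_cent_comm ((centerA_eq S).le.trans inf_le_right))) j4
  have mi : MinIn S₁ H (H ⊓ M) := minIn_of_sylow syH (fun e => l3 (e.trans (le_trans ?_ hJ)))
    (le_inf l1 (inf_le_left.trans h.le))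
    (lt_of_le_of_ne inf_le_left fun e => l3 (e.ge.trans inf_le_right))
    fun X x1 x2 => le_inf x2.le (by_contra fun x3 =>
      x2.not_ge (hm ⟨x1, x2.le.trans l2, x3⟩ x2.le))
  swap
  · rw [← Transfer.thompsonSubgroupOf_eq_of_le jS inf_le_left]
    exact Transfer.normalizer_le_normalizer_thompsonSubgroupOf _
  refine ⟨S₁, H, le_inf hOS fun x hx => ?_, inf_le_left, j4, syH, mi, rfl, ?_⟩
  · rw [mem_comap, holRep_eq_one_iff.2 (hO hx)]; exact one_mem _
  · refine minIn_le_pCoreOf (N := H ⊓ C.comap f) mi syH.pgrp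
      (le_normalizer_inf le_normalizer fun g hg => mem_normalizer_of_cj_le ?_)
      (inf_le_inf_left _ ((comap_mono (inf_le_left.trans (map_mono h.le))).trans
        (comap_map_eq_self hk).le)) (syH.pgrp.to_le (commutator_le_of_le le_rfl le_rfl))
      (le_inf ((commutator_le_of_le le_rfl le_rfl).trans l1) ?_)
    · rw [← map_le_iff_le_comap, LocalEven.map_cj]
      exact cj_le_of_mem_normalizer (d3 (l2 hg)) (map_comap_le _ _)
    · rw [← map_le_iff_le_comap, map_commutator]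
      have : S₁.map f ≤ S.map f ⊓ 𝐂⟮A⟯ :=
        le_inf (map_mono inf_le_left) (map_le_iff_le_comap.2 inf_le_right)
      exact (commutator_mono this this).trans d2

end Cfsg.Agent.Spc.Gn
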