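import Cfsg.Agent.Spc.OdB
import Cfsg.Agent.Spc.GnB
import Cfsg.Agent.Spc.GnG
import Cfsg.Agent.S2982

/-! Reduction of the odd automorphism theorem to the pushing-up theorem. -/

namespace Cfsg.Agent.Spc.Od

open Subgroup Cfsg.Agent.LocalEven Cfsg.Agent.PLocal Cfsg.Agent.Push Cfsg.Agent.BHS
open Cfsg.Agent.Glaub hiding cent_anti
open scoped commutatorElement MatrixGroups

universe u

theorem setup {G : Type u} [Group G] [Finite G]
    (hirr : ∀ S : Sylow 2 G, ∃! M : Subgroup G, IsCoatom M ∧ (S : Subgroup G) ≤ M)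
    (hG : 𝐂⟮pCore 2 G⟯ ≤ pCore 2 G) (S : Sylow 2 G) (A : Subgroup (MulAut ↥(S : Subgroup G)))
    (hno : ¬ ∃ U : Subgroup G, U ≠ ⊥ ∧ U.Normal ∧ U ≤ (S : Subgroup G) ∧
      ∀ a ∈ A, ∀ x : ↥(S : Subgroup G), (x : G) ∈ U → ((a x : ↥(S : Subgroup G)) : G) ∈ U) :
    ∃ M : Subgroup G, IsSylowIn 2 (S : Subgroup G) ⊤ ∧ MinIn (S : Subgroup G) ⊤ M ∧
      𝐂⟮OZ 2 (S : Subgroup G)⟯ ≤ M ∧ 𝐍⟮Jt 2 (S : Subgroup G)⟯ ≤ M ∧
      ⁅pCore 2 G, pResOf 2 (⊤ : Subgroup G)⁆ ≤ OZ 2 (pCore 2 G) := by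
  haveI : Fact (Nat.Prime 2) := ⟨Nat.prime_two⟩
  have hT := LocalEven.isSylowIn_top S
  obtain ⟨M, hM'⟩ := (hirr S).exists
  have hQ : pCore 2 G ≤ (S : Subgroup G) :=
    (isPGroup_pCore (p := 2) (G := G)).le_sylow_of_normal S
  have h0 : (S : Subgroup G) ≠ ⊥ := fun e => hM'.1.1 (top_le_iff.1 (by
    have k : pCore 2 G = ⊥ := le_bot_iff.1 (hQ.trans e.le)
    refine le_trans ?_ (hG.trans (hQ.trans hM'.2))
    rw [k]
    intro g _ x hx
    rw [SetLike.mem_coe, mem_bot] at hx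
    rw [hx, one_mul, mul_one]))
  have hmin : IsPMinimal 2 G := fun S' => ⟨fun n => by
    haveI := Sylow.unique_of_normal S' n
    obtain rfl : S = S' := Subsingleton.elim _ _
    exact hno ⟨S, h0, n, le_rfl, fun a _ x _ => (a x).2⟩, hirr S'⟩
  have hM : MinIn (S : Subgroup G) ⊤ M := minIn_top.2 (IsPMinimal.minOv' hmin hT hM'.1 hM'.2)
  have nc : Gn.NC (S : Subgroup G) M := fun W h1 h2 => by
    refine hM.le_of_lt _ (le_normalizer.trans (normalizer_le_normalizer_map_subtype W))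
      (lt_top_iff_ne_top.2 fun k => hno ⟨_, fun k => h1 ?_, normalizer_eq_top_iff.1 k,
        map_subtype_le W, ?_⟩)
    · exact (map_eq_bot_iff_of_injective _ (subtype_injective _)).1 k
    · rintro a - x ⟨y, hy, e⟩
      obtain rfl : y = x := Subtype.ext e
      exact ⟨a y, characteristic_iff_le_comap.1 h2 a hy, rfl⟩
  have top : ((⊤ : Subgroup (S : Subgroup G))).map (S : Subgroup G).subtype = S := by
    rw [← MonoidHom.range_eq_map, range_subtype]
  have cB : ((Bm 2 (S : Subgroup G)).subgroupOf S).Characteristic := by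
    have h1 := char_of_map (G := (S : Subgroup G)) (fun X => Bm 2 X) fun e => map_bm e.injective _
    have h2 := map_bm (p := 2) (S : Subgroup G).subtype_injective ⊤
    rw [top] at h2
    rw [← h2, subgroupOf, comap_map_eq_self_of_injective (S : Subgroup G).subtype_injective]
    exact h1
  have ncB := nc.of_char (bm_le _) cB
  have nz := nc.omega hT.pgrp h0
  have nJ : 𝐍⟮Jt 2 (S : Subgroup G)⟯ ≤ M := by
    have e := map_jt (p := 2) (S : Subgroup G).subtype_injective ⊤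
    rw [top] at e
    rw [← e]
    refine nc _ (fun k => Transfer.thompsonSubgroupOf_ne_bot_of_zero_or_eq (Or.inr rfl) hT.pgrp h0 ?_)
      (char_of_map (fun X => Jt 2 X) fun e => map_jt e.injective _)
    rw [← e, k, Subgroup.map_bot]
  have nM : ∀ U : Subgroup G, 𝐍⟮U⟯ ≤ M → ¬ U.Normal := fun U h n =>
    hM'.1.1 (top_le_iff.1 ((normalizer_eq_top_iff.2 n).ge.trans h))
  obtain ⟨𝓑, b1, -, b3⟩ := S2982.result hmin hG S (fun C c1 c2 c3 => nM C (by
    have := ncB (C.subgroupOf _) (fun k => c2 (by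
      rw [← map_subgroupOf_eq_of_le c1, k, Subgroup.map_bot])) c3
    rwa [map_subgroupOf_eq_of_le c1] at this)) (nM _ nz)
  exact ⟨M, hT, hM, (centralizer_le_normalizer _).trans nz, nJ, hb S hG 𝓑 b1 b3⟩

end Cfsg.Agent.Spc.Od
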