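import Mathlib
import Cfsg.Agent.Spc.SC
import Cfsg.Agent.Comp.Ico.Iso

/-!
The spectrum of `J2`.
-/

set_option autoImplicit false
set_option maxRecDepth 100000

namespace Cfsg.Agent.Spc.SC.J2

/-- letters -/
def tb : List (Nat × Nat) :=
  [(nat_lit 0, nat_lit 0x18863158601605b12c4a1784e1145f13c61108541043f0f45015c5a0e83b1745c0e0370d4461643310c5514c40148301442e1304d0ac491202a11c291102d0c43e09c3c0c8280e4360d02c0bc25098240741f0681b0881e08c1c080210641805c160501504c12028080340e03c0702c110141003004024060080300400),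
   (nat_lit 1, nat_lit 0x1806217463164521845a1445c17c441244212c4114c5e16c3c0ec3a128381544d15c350d8340cc580c856150300f43e0fc5013c4e0bc4c0a84712046114430a0400e42e0b42c098370a4310942b09c1f08c22084200901b05815078120441003c1d070140301a0641805c0e0341302c0a0180801c0900c020140400400),
   (nat_lit 2, nat_lit 0x16c5e1585013c621544818c45138571606117454104520f06017c591304d108370d85c110461684710c4b14c310fc2f0b8510e83b0e42a128490cc2d0d429100270f83d0d0260ac380c8250c02c0a02408c1a07c1b0841e0741c0802204c1805c0e05015064120240d020160400602c050440f0100c0280700c0200400),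
   (nat_lit 3, nat_lit 0x168591806117c4e1705d114631885716050120431003f1305613c5e0f0510dc4211c551244616c361504a0c4531482f0e84d0b83d0e43312c440a82c0e028104300f83b098340ac350943209c2d0a42408c2207c19084180741c04c1a0801e05c140381606c0b0440c01c1501810048050240403c0d0280800c0200400),
   (nat_lit 4, nat_lit 0x1845918c5a17c5e1705d140601885410c451545812c3e11c5b13c4e1104914c4113048144391584d15c31128370bc520d0360b42c118321003c0a43d0a038108270fc260ec3a0ac250d4330c02e0a81d08c2207819060210901c06c1a0801f05c100340c04c0a0441601c0605414014120240803c0e02c0400c0100800),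
   (nat_lit 5, nat_lit 0x6062110100105e16033078450085d0e04a0241d14c5206c3c0ec0310849018561304804c341686110c4d0583005c3e03c5013c05048570640c0d4461703207c400682e0002c0ac110a424054260702808c220500d0c45b150251442f0dc630fc4109c2111c390a8600f40e0803602c07154080284b0e85f138590042d)]

/-- certificate -/
def C : Cert where
  n := nat_lit 100
  t := tb.map Prod.snd
  p := [(nat_lit 0, nat_lit 5), (nat_lit 3, nat_lit 6), (nat_lit 5, nat_lit 7), (nat_lit 7, nat_lit 8), (nat_lit 5,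
    nat_lit 3), (nat_lit 7, nat_lit 4), (nat_lit 9, nat_lit 5), (nat_lit 11, nat_lit 6), (nat_lit 9,
    nat_lit 6), (nat_lit 12, nat_lit 7), (nat_lit 14, nat_lit 8), (nat_lit 11, nat_lit 8), (nat_lit 13,
    nat_lit 9), (nat_lit 17, nat_lit 10), (nat_lit 14, nat_lit 10), (nat_lit 16, nat_lit 11), (nat_lit 18,
    nat_lit 12), (nat_lit 20, nat_lit 12), (nat_lit 22, nat_lit 13), (nat_lit 23, nat_lit 13), (nat_lit 21,
    nat_lit 13), (nat_lit 25, nat_lit 14), (nat_lit 27, nat_lit 15), (nat_lit 23, nat_lit 15), (nat_lit 26,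
    nat_lit 16), (nat_lit 29, nat_lit 16), (nat_lit 26, nat_lit 15), (nat_lit 28, nat_lit 16), (nat_lit 33,
    nat_lit 17), (nat_lit 30, nat_lit 17), (nat_lit 35, nat_lit 18), (nat_lit 31, nat_lit 17), (nat_lit 34,
    nat_lit 17), (nat_lit 35, nat_lit 17), (nat_lit 35, nat_lit 17), (nat_lit 40, nat_lit 18), (nat_lit 37,
    nat_lit 18), (nat_lit 41, nat_lit 19), (nat_lit 43, nat_lit 20), (nat_lit 39, nat_lit 19), (nat_lit 41,
    nat_lit 20), (nat_lit 43, nat_lit 20), (nat_lit 46, nat_lit 21), (nat_lit 48, nat_lit 22), (nat_lit 44,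
    nat_lit 22), (nat_lit 46, nat_lit 23), (nat_lit 51, nat_lit 24), (nat_lit 49, nat_lit 23), (nat_lit 49,
    nat_lit 23), (nat_lit 54, nat_lit 24), (nat_lit 51, nat_lit 24), (nat_lit 56, nat_lit 25), (nat_lit 53,
    nat_lit 25), (nat_lit 58, nat_lit 26), (nat_lit 54, nat_lit 26), (nat_lit 60, nat_lit 27), (nat_lit 56,
    nat_lit 27), (nat_lit 59, nat_lit 28), (nat_lit 61, nat_lit 29), (nat_lit 61, nat_lit 29), (nat_lit 65,
    nat_lit 30), (nat_lit 62, nat_lit 29), (nat_lit 63, nat_lit 29), (nat_lit 64, nat_lit 29), (nat_lit 69,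
    nat_lit 30), (nat_lit 65, nat_lit 30), (nat_lit 69, nat_lit 31), (nat_lit 72, nat_lit 32), (nat_lit 68,
    nat_lit 32), (nat_lit 71, nat_lit 33), (nat_lit 74, nat_lit 34), (nat_lit 71, nat_lit 34), (nat_lit 77,
    nat_lit 35), (nat_lit 78, nat_lit 35), (nat_lit 74, nat_lit 35), (nat_lit 80, nat_lit 35), (nat_lit 79,
    nat_lit 35), (nat_lit 78, nat_lit 34), (nat_lit 80, nat_lit 35), (nat_lit 79, nat_lit 35), (nat_lit 82,
    nat_lit 36), (nat_lit 85, nat_lit 37), (nat_lit 87, nat_lit 37), (nat_lit 88, nat_lit 35), (nat_lit 89,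
    nat_lit 35), (nat_lit 87, nat_lit 34), (nat_lit 91, nat_lit 35), (nat_lit 89, nat_lit 34), (nat_lit 93,
    nat_lit 35), (nat_lit 89, nat_lit 35), (nat_lit 92, nat_lit 33), (nat_lit 94, nat_lit 34), (nat_lit 92,
    nat_lit 31), (nat_lit 96, nat_lit 32), (nat_lit 96, nat_lit 32), (nat_lit 98, nat_lit 31), (nat_lit 101,
    nat_lit 32), (nat_lit 101, nat_lit 0), (nat_lit 98, nat_lit 102), (nat_lit 100, nat_lit 103), (nat_lit 101,
    nat_lit 1), (nat_lit 101, nat_lit 1), (nat_lit 104, nat_lit 2), (nat_lit 106, nat_lit 3), (nat_lit 104,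
    nat_lit 3), (nat_lit 107, nat_lit 4), (nat_lit 110, nat_lit 5), (nat_lit 109, nat_lit 5), (nat_lit 111,
    nat_lit 6), (nat_lit 113, nat_lit 7), (nat_lit 113, nat_lit 7), (nat_lit 111, nat_lit 7), (nat_lit 114,
    nat_lit 7), (nat_lit 117, nat_lit 7), (nat_lit 115, nat_lit 6), (nat_lit 119, nat_lit 7), (nat_lit 120,
    nat_lit 7), (nat_lit 119, nat_lit 7), (nat_lit 119, nat_lit 7), (nat_lit 120, nat_lit 7), (nat_lit 121,
    nat_lit 7), (nat_lit 122, nat_lit 7), (nat_lit 125, nat_lit 7), (nat_lit 124, nat_lit 6), (nat_lit 125,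
    nat_lit 6), (nat_lit 128, nat_lit 5), (nat_lit 130, nat_lit 6), (nat_lit 130, nat_lit 6), (nat_lit 128,
    nat_lit 6), (nat_lit 131, nat_lit 7), (nat_lit 130, nat_lit 5), (nat_lit 135, nat_lit 6), (nat_lit 133,
    nat_lit 135), (nat_lit 133, nat_lit 0), (nat_lit 136, nat_lit 1), (nat_lit 137, nat_lit 1), (nat_lit 137,
    nat_lit 0), (nat_lit 138, nat_lit 137), (nat_lit 140, nat_lit 138), (nat_lit 139, nat_lit 140),
    (nat_lit 142, nat_lit 141), (nat_lit 142, nat_lit 143), (nat_lit 142, nat_lit 4), (nat_lit 145, nat_lit 5),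
    (nat_lit 145, nat_lit 5), (nat_lit 147, nat_lit 5), (nat_lit 147, nat_lit 5), (nat_lit 147, nat_lit 5),
    (nat_lit 150, nat_lit 5), (nat_lit 150, nat_lit 5), (nat_lit 150, nat_lit 5), (nat_lit 152, nat_lit 5),
    (nat_lit 152, nat_lit 5), (nat_lit 154, nat_lit 4), (nat_lit 154, nat_lit 4), (nat_lit 155, nat_lit 3),
    (nat_lit 156, nat_lit 2)]
  b := nat_lit 0
  U := [nat_lit 163, nat_lit 59, nat_lit 60, nat_lit 89, nat_lit 92, nat_lit 121, nat_lit 65, nat_lit 98, nat_lit 99,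
    nat_lit 88, nat_lit 87, nat_lit 86, nat_lit 73, nat_lit 100, nat_lit 63, nat_lit 128, nat_lit 66,
    nat_lit 107, nat_lit 105, nat_lit 81, nat_lit 64, nat_lit 96, nat_lit 84, nat_lit 101, nat_lit 75,
    nat_lit 72, nat_lit 70, nat_lit 103, nat_lit 126, nat_lit 118, nat_lit 68, nat_lit 113, nat_lit 67,
    nat_lit 76, nat_lit 77, nat_lit 82, nat_lit 134, nat_lit 145, nat_lit 154, nat_lit 127, nat_lit 150,
    nat_lit 151, nat_lit 132, nat_lit 144, nat_lit 147, nat_lit 162, nat_lit 143, nat_lit 106, nat_lit 97,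
    nat_lit 136, nat_lit 156, nat_lit 135, nat_lit 155, nat_lit 137, nat_lit 109, nat_lit 108, nat_lit 149,
    nat_lit 131, nat_lit 140, nat_lit 153, nat_lit 125, nat_lit 146, nat_lit 71, nat_lit 129, nat_lit 115,
    nat_lit 120, nat_lit 114, nat_lit 152, nat_lit 112, nat_lit 111, nat_lit 148, nat_lit 117, nat_lit 116,
    nat_lit 133, nat_lit 94, nat_lit 78, nat_lit 142, nat_lit 124, nat_lit 122, nat_lit 141, nat_lit 95,
    nat_lit 130, nat_lit 102, nat_lit 85, nat_lit 139, nat_lit 80, nat_lit 79, nat_lit 138, nat_lit 119,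
    nat_lit 93, nat_lit 91, nat_lit 104, nat_lit 110, nat_lit 83, nat_lit 90, nat_lit 123, nat_lit 62,
    nat_lit 74, nat_lit 61, nat_lit 69]
  lv := [(nat_lit 1, [nat_lit 163, nat_lit 161, nat_lit 58, nat_lit 57, nat_lit 56, nat_lit 55, nat_lit 54, nat_lit 53, nat_lit 52,
    nat_lit 51, nat_lit 50, nat_lit 49, nat_lit 48, nat_lit 47, nat_lit 46, nat_lit 45, nat_lit 44, nat_lit 43,
    nat_lit 42, nat_lit 41, nat_lit 40, nat_lit 39, nat_lit 38, nat_lit 37, nat_lit 36, nat_lit 35, nat_lit 34,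
    nat_lit 33, nat_lit 32, nat_lit 31, nat_lit 30, nat_lit 29, nat_lit 28, nat_lit 27, nat_lit 26,
    nat_lit 25]),
    (nat_lit 11, [nat_lit 163, nat_lit 160, nat_lit 24, nat_lit 23, nat_lit 22, nat_lit 21, nat_lit 20]),
    (nat_lit 42, [nat_lit 163, nat_lit 157, nat_lit 158, nat_lit 159, nat_lit 19, nat_lit 18, nat_lit 17, nat_lit 16,
    nat_lit 15, nat_lit 14, nat_lit 13, nat_lit 12, nat_lit 11, nat_lit 10, nat_lit 9, nat_lit 8, nat_lit 7,
    nat_lit 6, nat_lit 5, nat_lit 4, nat_lit 3, nat_lit 2, nat_lit 1, nat_lit 0])]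
  gs := [nat_lit 157, nat_lit 158, nat_lit 159, nat_lit 160, nat_lit 161]
  l := [(nat_lit 2, nat_lit 4), (nat_lit 3, nat_lit 0), (nat_lit 4, nat_lit 1), (nat_lit 5, nat_lit 1), (nat_lit 6,
    nat_lit 0), (nat_lit 7, nat_lit 2), (nat_lit 8, nat_lit 3), (nat_lit 9, nat_lit 0), (nat_lit 10,
    nat_lit 2), (nat_lit 11, nat_lit 4), (nat_lit 12, nat_lit 2), (nat_lit 13, nat_lit 3), (nat_lit 14,
    nat_lit 4), (nat_lit 15, nat_lit 3), (nat_lit 16, nat_lit 0), (nat_lit 17, nat_lit 2), (nat_lit 18,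
    nat_lit 4), (nat_lit 19, nat_lit 1), (nat_lit 20, nat_lit 4), (nat_lit 21, nat_lit 4), (nat_lit 22,
    nat_lit 2), (nat_lit 23, nat_lit 1), (nat_lit 24, nat_lit 1), (nat_lit 25, nat_lit 1), (nat_lit 26,
    nat_lit 1), (nat_lit 27, nat_lit 3), (nat_lit 28, nat_lit 1), (nat_lit 29, nat_lit 1), (nat_lit 30,
    nat_lit 3), (nat_lit 31, nat_lit 4), (nat_lit 32, nat_lit 3), (nat_lit 33, nat_lit 0), (nat_lit 34,
    nat_lit 2), (nat_lit 35, nat_lit 0), (nat_lit 36, nat_lit 4), (nat_lit 38, nat_lit 0), (nat_lit 39,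
    nat_lit 1), (nat_lit 40, nat_lit 2), (nat_lit 41, nat_lit 3), (nat_lit 42, nat_lit 4), (nat_lit 43,
    nat_lit 1), (nat_lit 44, nat_lit 2), (nat_lit 45, nat_lit 3), (nat_lit 46, nat_lit 4), (nat_lit 47,
    nat_lit 0), (nat_lit 48, nat_lit 2), (nat_lit 49, nat_lit 1), (nat_lit 50, nat_lit 3), (nat_lit 51,
    nat_lit 4), (nat_lit 52, nat_lit 0), (nat_lit 53, nat_lit 4), (nat_lit 54, nat_lit 0), (nat_lit 55,
    nat_lit 1), (nat_lit 56, nat_lit 2), (nat_lit 57, nat_lit 0), (nat_lit 58, nat_lit 4), (nat_lit 59,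
    nat_lit 4), (nat_lit 60, nat_lit 0), (nat_lit 61, nat_lit 2), (nat_lit 62, nat_lit 2), (nat_lit 63,
    nat_lit 4), (nat_lit 64, nat_lit 1), (nat_lit 65, nat_lit 3), (nat_lit 66, nat_lit 4), (nat_lit 67,
    nat_lit 1), (nat_lit 68, nat_lit 0), (nat_lit 69, nat_lit 1), (nat_lit 70, nat_lit 1), (nat_lit 71,
    nat_lit 0), (nat_lit 72, nat_lit 1), (nat_lit 73, nat_lit 2), (nat_lit 74, nat_lit 2), (nat_lit 75,
    nat_lit 3), (nat_lit 76, nat_lit 1), (nat_lit 77, nat_lit 0), (nat_lit 78, nat_lit 1), (nat_lit 79,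
    nat_lit 1), (nat_lit 80, nat_lit 1), (nat_lit 81, nat_lit 2), (nat_lit 82, nat_lit 4), (nat_lit 83,
    nat_lit 3), (nat_lit 84, nat_lit 1), (nat_lit 85, nat_lit 0), (nat_lit 86, nat_lit 1), (nat_lit 87,
    nat_lit 4), (nat_lit 88, nat_lit 1), (nat_lit 89, nat_lit 0), (nat_lit 90, nat_lit 2), (nat_lit 91,
    nat_lit 3), (nat_lit 92, nat_lit 2), (nat_lit 93, nat_lit 0), (nat_lit 94, nat_lit 3), (nat_lit 95,
    nat_lit 2), (nat_lit 96, nat_lit 2), (nat_lit 97, nat_lit 0), (nat_lit 98, nat_lit 3), (nat_lit 99,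
    nat_lit 3)]
  R := [nat_lit 163, nat_lit 59, nat_lit 145]
  L := [nat_lit 1, nat_lit 2, nat_lit 3, nat_lit 4, nat_lit 5, nat_lit 6, nat_lit 7, nat_lit 8, nat_lit 10, nat_lit 12, nat_lit 15]
  W := [(nat_lit 146, nat_lit 7), (nat_lit 150, nat_lit 8), (nat_lit 135, nat_lit 10), (nat_lit 117, nat_lit 12), (nat_lit 149, nat_lit 15)]

theorem tb_ok : letB (nat_lit 100) Comp.J2.T tb = true := by decide +kernel

theorem str_ok : C.str = true := by decide +kernel

theorem cos0 : C.cos (nat_lit 163) = true := by decide +kernel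

theorem cos1 : C.cos (nat_lit 59) = true := by decide +kernel

theorem cos2 : C.cos (nat_lit 145) = true := by decide +kernel

theorem spec_J2 : Spec.spec Spor.J2 = {m | m ∈ [1, 2, 3, 4, 5, 6, 7, 8, 10, 12, 15]} :=
  have := Comp.Ico.cardJ.1
  have h := gd_of_rep Comp.Ico.repJ tb_ok (by decide +kernel)
  C.spec h.1 Comp.Ico.cardJ.2.2 h.2 str_ok
    (List.forall_mem_cons.2 ⟨cos0, List.forall_mem_cons.2 ⟨cos1, List.forall_mem_cons.2 ⟨cos2, by simp⟩⟩⟩)
    (Comp.Ico.cardJ.2.1.trans (by decide +kernel)) (by decide +kernel)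

end Cfsg.Agent.Spc.SC.J2
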