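import Mathlib
import Cfsg.Agent.BG.AmbCore

/-! Groups without a nilpotent minimal cover: the replacement lemma and fixed point lemmas. -/

set_option autoImplicit false
set_option linter.unusedSectionVars false

namespace Cfsg.Agent.Spc.Cov

open Subgroup

/-- no minimal cover by nilpotent subgroups -/
def NoCov (G : Type*) [Group G] : Prop :=
  ¬ ∃ 𝓐 : Finset (Subgroup G), ((∀ A ∈ 𝓐, A ≠ ⊤) ∧ (∀ g : G, ∃ A ∈ 𝓐, g ∈ A)) ∧
    (∀ 𝓑 : Finset (Subgroup G), (∀ A ∈ 𝓑, A ≠ ⊤) ∧ (∀ g : G, ∃ A ∈ 𝓑, g ∈ A) → 𝓐.card ≤ 𝓑.card) ∧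
    (∀ A ∈ 𝓐, Group.IsNilpotent A)

theorem nocov {G : Type*} [Group G] {ι : Type*} [Finite ι] (xs : ι → G) (x0 : G)
    (M : ι → Subgroup G) (hM : ∀ i, M i ≠ ⊤)
    (h1 : ∀ i (N : Subgroup G), Group.IsNilpotent N → xs i ∈ N →
      N ≤ M i ∧ x0 ∉ N ∧ ∀ j, xs j ∈ N → j = i)
    (h0 : ∀ N : Subgroup G, Group.IsNilpotent N → x0 ∈ N → ∀ g ∈ N, ∃ i, g ∈ M i) :
    NoCov G := by
  classical
  have := Fintype.ofFinite ι
  rintro ⟨𝓐, ⟨a1, a2⟩, a3, a4⟩
  choose A hA hxA using a2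
  have inj : Function.Injective fun i => A (xs i) := by
    intro i j e
    have e' : A (xs i) = A (xs j) := e
    exact (h1 j _ (a4 _ (hA _)) (hxA _)).2.2 i (e' ▸ hxA _)
  have hn0 : A x0 ∉ Finset.univ.image fun i => A (xs i) := by
    intro h
    obtain ⟨i, -, e⟩ := Finset.mem_image.1 h
    exact (h1 i _ (a4 _ (hA _)) (hxA _)).2.1 (e ▸ hxA _)
  set T : Finset (Subgroup G) := insert (A x0) (Finset.univ.image fun i => A (xs i)) with hT
  have hTc : T.card = Fintype.card ι + 1 := by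
    rw [hT, Finset.card_insert_of_notMem hn0, Finset.card_image_of_injective _ inj, Finset.card_univ]
  have hTA : T ⊆ 𝓐 := by
    intro X hX
    rcases Finset.mem_insert.1 hX with rfl | hX
    · exact hA _
    · obtain ⟨i, -, rfl⟩ := Finset.mem_image.1 hX
      exact hA _
  have := a3 ((𝓐 \ T) ∪ Finset.univ.image M) ⟨?_, ?_⟩
  · have e1 := Finset.card_union_le (𝓐 \ T) (Finset.univ.image M)
    have e2 := Finset.card_sdiff_add_card_eq_card hTA
    have e3 : (Finset.univ.image M).card ≤ Fintype.card ι := Finset.card_image_le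
    omega
  · intro X hX
    rcases Finset.mem_union.1 hX with hX | hX
    · exact a1 X (Finset.mem_sdiff.1 hX).1
    · obtain ⟨i, -, rfl⟩ := Finset.mem_image.1 hX
      exact hM i
  · intro g
    by_cases hg : A g ∈ T
    · rcases Finset.mem_insert.1 hg with e | hg
      · obtain ⟨i, hi⟩ := h0 _ (a4 _ (hA x0)) (hxA _) g (e ▸ hxA g)
        exact ⟨M i, Finset.mem_union_right _ (Finset.mem_image_of_mem _ (Finset.mem_univ _)), hi⟩
      · obtain ⟨i, -, e⟩ := Finset.mem_image.1 hg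
        exact ⟨M i, Finset.mem_union_right _ (Finset.mem_image_of_mem _ (Finset.mem_univ _)),
          (h1 i _ (a4 _ (hA _)) (hxA _)).1 (e ▸ hxA g)⟩
    · exact ⟨A g, Finset.mem_union_left _ (Finset.mem_sdiff.2 ⟨hA g, hg⟩), hxA g⟩

theorem nil_comap {Γ G : Type*} [Group Γ] [Group G] (φ : Γ →* G) (hk : φ.ker ≤ center Γ)
    (N : Subgroup G) (hN : Group.IsNilpotent N) : Group.IsNilpotent (N.comap φ) := by
  refine Subgroup.isNilpotent_of_ker_le_center (φ.subgroupComap N) ?_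
  intro x hx
  have h1 : φ x = 1 := congrArg Subtype.val (MonoidHom.mem_ker.1 hx)
  have h2 := mem_center_iff.1 (hk (MonoidHom.mem_ker.2 h1))
  exact mem_center_iff.2 fun y => Subtype.ext (h2 y)

theorem nocov' {Γ G : Type*} [Group Γ] [Group G] (φ : Γ →* G) (hs : Function.Surjective φ)
    (hk : φ.ker ≤ center Γ) {ι : Type*} [Finite ι] (xs : ι → Γ) (x0 : Γ)
    (M : ι → Subgroup Γ) (hM : ∀ i, M i ≠ ⊤)
    (h1 : ∀ i (N : Subgroup Γ), Group.IsNilpotent N → xs i ∈ N →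
      N ≤ M i ∧ x0 ∉ N ∧ ∀ j, xs j ∈ N → j = i)
    (h0 : ∀ N : Subgroup Γ, Group.IsNilpotent N → x0 ∈ N → ∀ g ∈ N, ∃ i, g ∈ M i) :
    NoCov G := by
  refine nocov (fun i => φ (xs i)) (φ x0) (fun i => (M i).map φ) ?_ ?_ ?_
  · intro i e
    have hz : Group.IsNilpotent (zpowers (φ (xs i))) := by
      open scoped IsMulCommutative in infer_instance
    have hle := (h1 i _ (nil_comap φ hk _ hz) (mem_zpowers _)).1
    apply hM i
    rw [eq_top_iff]
    intro g _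
    have : φ g ∈ (M i).map φ := e ▸ mem_top _
    obtain ⟨m, hm, e'⟩ := this
    have : m⁻¹ * g ∈ M i := hle (by
      rw [mem_comap, map_mul, map_inv, e', inv_mul_cancel]; exact one_mem _)
    simpa using mul_mem hm this
  · intro i N hN hx
    obtain ⟨b1, b2, b3⟩ := h1 i _ (nil_comap φ hk N hN) hx
    refine ⟨fun g hg => ?_, b2, b3⟩
    obtain ⟨g, rfl⟩ := hs g
    exact mem_map_of_mem _ (b1 hg)
  · intro N hN hx g hg
    obtain ⟨g, rfl⟩ := hs g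
    obtain ⟨i, hi⟩ := h0 _ (nil_comap φ hk N hN) hx g hg
    exact ⟨i, mem_map_of_mem _ hi⟩

theorem nocov2 {Γ G : Type*} [Group Γ] [Group G] (φ : Γ →* G) (hs : Function.Surjective φ)
    (hk : φ.ker ≤ center Γ) (x y : Γ) (M : Subgroup Γ) (hM : M ≠ ⊤)
    (h1 : ∀ (N : Subgroup Γ), Group.IsNilpotent N → x ∈ N → N ≤ M ∧ y ∉ N)
    (h0 : ∀ N : Subgroup Γ, Group.IsNilpotent N → y ∈ N → N ≤ M) :
    NoCov G :=
  nocov' φ hs hk (fun _ : Unit => x) y (fun _ => M) (fun _ => hM)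
    (fun _ N hN hx => ⟨(h1 N hN hx).1, (h1 N hN hx).2, fun _ _ => rfl⟩)
    (fun N hN hy _ hg => ⟨(), h0 N hN hy hg⟩)

variable {G : Type*} [Group G] [Finite G]

/-- `p`-element -/
def PE (p : ℕ) (g : G) : Prop := ∃ k, g ^ p ^ k = 1

theorem PE.conj {p : ℕ} {g : G} (h : PE p g) (a : G) : PE p (a * g * a⁻¹) := by
  obtain ⟨k, hk⟩ := h
  exact ⟨k, by rw [conj_pow, hk]; simp⟩

theorem PE.inv {p : ℕ} {g : G} (h : PE p g) : PE p g⁻¹ := by
  obtain ⟨k, hk⟩ := h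
  exact ⟨k, by rw [inv_pow, hk, inv_one]⟩

theorem PE.orderOf {p : ℕ} [Fact p.Prime] {g : G} (h : PE p g) : ∃ k, orderOf g = p ^ k := by
  obtain ⟨k, hk⟩ := h
  obtain ⟨j, -, hj⟩ := (Nat.dvd_prime_pow Fact.out).1 (orderOf_dvd_of_pow_eq_one hk)
  exact ⟨j, hj⟩

theorem exists_sylow (p : ℕ) [Fact p.Prime] {N : Subgroup G} (hN : Group.IsNilpotent N) :
    ∃ P : Subgroup G, IsPGroup p P ∧ ∀ g, g ∈ P ↔ g ∈ N ∧ PE p g := by
  obtain ⟨P⟩ : Nonempty (Sylow p N) := inferInstance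
  have hn : (P : Subgroup N).Normal := inferInstance
  refine ⟨(P : Subgroup N).map N.subtype, P.isPGroup'.map _, fun g => ⟨?_, ?_⟩⟩
  · rintro ⟨x, hx, rfl⟩
    obtain ⟨k, hk⟩ := P.isPGroup' ⟨x, hx⟩
    exact ⟨x.2, k, congrArg (fun y : (P : Subgroup N) => ((y : N) : G)) hk⟩
  · rintro ⟨hg, k, hk⟩
    have hz : IsPGroup p (zpowers (⟨g, hg⟩ : N)) := by
      have : PE p (⟨g, hg⟩ : N) := ⟨k, Subtype.ext hk⟩
      obtain ⟨j, hj⟩ := this.orderOf
      exact IsPGroup.of_card (n := j) (by rw [Nat.card_zpowers, hj])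
    obtain ⟨Q, hQ⟩ := hz.exists_le_sylow
    have hu := Sylow.unique_of_normal P hn
    have : Q = P := Subsingleton.elim _ _
    exact ⟨⟨g, hg⟩, this ▸ hQ (mem_zpowers _), rfl⟩

theorem PE.mul {p : ℕ} [Fact p.Prime] {N : Subgroup G} (hN : Group.IsNilpotent N) {x y : G}
    (hx : x ∈ N) (hy : y ∈ N) (h1 : PE p x) (h2 : PE p y) : PE p (x * y) := by
  obtain ⟨P, -, hP⟩ := exists_sylow p hN
  exact ((hP _).1 (mul_mem ((hP x).2 ⟨hx, h1⟩) ((hP y).2 ⟨hy, h2⟩))).2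

theorem comm {p : ℕ} [Fact p.Prime] {N : Subgroup G} (hN : Group.IsNilpotent N) {x y : G}
    (hx : x ∈ N) (hy : y ∈ N) (h1 : PE p x) (h2 : p.Coprime (orderOf y)) : Commute x y := by
  obtain ⟨k, hk⟩ := h1.orderOf
  exact BG.Amb.nil_commute_of_coprime hN hx hy (hk ▸ h2.pow_left k)

theorem nil_le (p : ℕ) [Fact p.Prime] {N M : Subgroup G} (h1 : ∀ g ∈ N, PE p g → g ∈ M)
    (h2 : ∀ g ∈ N, p.Coprime (orderOf g) → g ∈ M) : N ≤ M := by
  intro g hg
  have h0 : orderOf g ≠ 0 := (orderOf_pos g).ne'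
  obtain ⟨k, m, hm, e⟩ := Nat.exists_eq_pow_mul_and_not_dvd h0 p (Fact.out : p.Prime).ne_one
  have hm0 : m ≠ 0 := by rintro rfl; exact hm (dvd_zero p)
  have a1 : g ^ m ∈ M := h1 _ (pow_mem hg _) ⟨k, by
    rw [← pow_mul, mul_comm, ← e, pow_orderOf_eq_one]⟩
  have a2 : g ^ p ^ k ∈ M := h2 _ (pow_mem hg _) (by
    have : orderOf (g ^ p ^ k) ∣ m := orderOf_dvd_of_pow_eq_one (by
      rw [← pow_mul, ← e, pow_orderOf_eq_one])
    exact ((Nat.Prime.coprime_iff_not_dvd Fact.out).2 hm).coprime_dvd_right this)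
  have hc : Nat.Coprime (p ^ k) m := ((Nat.Prime.coprime_iff_not_dvd Fact.out).2 hm).pow_left k
  have hb := Nat.gcd_eq_gcd_ab (p ^ k) m
  rw [hc.gcd_eq_one] at hb
  have : g = (g ^ p ^ k) ^ (Nat.gcdA (p ^ k) m) * (g ^ m) ^ (Nat.gcdB (p ^ k) m) := by
    rw [← zpow_natCast, ← zpow_natCast, ← zpow_mul, ← zpow_mul, ← zpow_add, ← hb]; simp
  rw [this]
  exact mul_mem (zpow_mem a2 _) (zpow_mem a1 _)

/-- the points fixed by all `p`-elements of `N` -/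
def Fx (p : ℕ) (N : Subgroup G) (Ω : Type*) [MulAction G Ω] : Set Ω :=
  {ω | ∀ g ∈ N, PE p g → g • ω = ω}

variable {Ω : Type*} [MulAction G Ω] [Finite Ω]

theorem Fx_smul {p : ℕ} {N : Subgroup G} {ω : Ω} (h : ω ∈ Fx p N Ω) {a : G} (ha : a ∈ N) :
    a • ω ∈ Fx p N Ω := by
  intro g hg hp
  have := h (a⁻¹ * g * a⁻¹⁻¹) (mul_mem (mul_mem (inv_mem ha) hg) (inv_mem (inv_mem ha))) (hp.conj _)
  rw [inv_inv, mul_smul, mul_smul, inv_smul_eq_iff] at this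
  exact this

theorem card_Fx (p : ℕ) [Fact p.Prime] {N : Subgroup G} (hN : Group.IsNilpotent N) :
    Nat.card Ω ≡ Nat.card (Fx p N Ω) [MOD p] := by
  obtain ⟨P, hP, hm⟩ := exists_sylow p hN
  have := hP.card_modEq_card_fixedPoints Ω
  have e : MulAction.fixedPoints P Ω = Fx p N Ω := by
    ext ω
    constructor
    · intro h g hg hp
      exact h ⟨g, (hm g).2 ⟨hg, hp⟩⟩
    · intro h g
      exact h g ((hm g).1 g.2).1 ((hm g).1 g.2).2
  rwa [e] at this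

theorem Fx_nonempty (p : ℕ) [Fact p.Prime] {N : Subgroup G} (hN : Group.IsNilpotent N)
    (hp : ¬ p ∣ Nat.card Ω) : (Fx p N Ω).Nonempty := by
  by_contra h
  rw [Set.not_nonempty_iff_eq_empty] at h
  have := card_Fx (Ω := Ω) p hN
  rw [h] at this
  simp only [Nat.card_eq_fintype_card, Fintype.card_eq_zero] at this
  exact hp (Nat.modEq_zero_iff_dvd.1 this)

theorem Fx_ne (p : ℕ) [Fact p.Prime] {N : Subgroup G} (hN : Group.IsNilpotent N)
    (hp : p ∣ Nat.card Ω) {a : Ω} (ha : ∀ g : G, g • a = a) : ∃ b ∈ Fx p N Ω, b ≠ a := by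
  by_contra h
  push Not at h
  have e : Fx p N Ω = {a} := by
    ext b
    exact ⟨fun hb => h b hb, fun hb => hb ▸ fun g _ _ => ha g⟩
  have := card_Fx (Ω := Ω) p hN
  rw [e, Nat.card_unique (α := ({a} : Set Ω))] at this
  exact (Fact.out : p.Prime).one_lt.ne' (Nat.dvd_one.1 ((this.dvd_iff dvd_rfl).1 hp))

theorem le_stab (p : ℕ) [Fact p.Prime] {N : Subgroup G} (hN : Group.IsNilpotent N)
    (hp : ¬ p ∣ Nat.card Ω) {x : G} (hx : x ∈ N) (hpx : PE p x) {ω : Ω}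
    (hu : ∀ b : Ω, x • b = b → b = ω) : N ≤ MulAction.stabilizer G ω := by
  obtain ⟨b, hb⟩ := Fx_nonempty (Ω := Ω) p hN hp
  have e := hu b (hb x hx hpx)
  subst e
  intro a ha
  exact hu _ (Fx_smul hb ha x hx hpx)

end Cfsg.Agent.Spc.Cov
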