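import Mathlib
import Cfsg.Agent.Spc.Cov

/-! Symmetric and alternating groups have no nilpotent minimal cover. -/

set_option autoImplicit false
set_option linter.unusedSectionVars false

namespace Cfsg.Agent.Spc.Cov

open Subgroup Equiv Equiv.Perm

theorem nocov_id {G : Type*} [Group G] (x y : G) (M : Subgroup G) (hM : M ≠ ⊤)
    (h1 : ∀ (N : Subgroup G), Group.IsNilpotent N → x ∈ N → N ≤ M ∧ y ∉ N)
    (h0 : ∀ N : Subgroup G, Group.IsNilpotent N → y ∈ N → N ≤ M) :
    NoCov G :=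
  nocov2 (MonoidHom.id G) Function.surjective_id (by simp) x y M hM h1 h0

theorem nocov_act {G : Type*} [Group G] [Finite G] {Ω : Type*} [MulAction G Ω] [Finite Ω]
    (p : ℕ) [Fact p.Prime] (hp : ¬ p ∣ Nat.card Ω) {x y : G} {ω : Ω} (hx : PE p x) (hy : PE p y)
    (ux : ∀ b : Ω, x • b = b → b = ω) (uy : ∀ b : Ω, y • b = b → b = ω)
    (hxy : ¬ PE p (x * y⁻¹)) (hM : ∃ g : G, g • ω ≠ ω) : NoCov G := by
  refine nocov_id x y (MulAction.stabilizer G ω) ?_ (fun N hN h => ⟨le_stab p hN hp h hx ux,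
    fun h' => hxy (PE.mul hN h (inv_mem h') hx hy.inv)⟩) (fun N hN h => le_stab p hN hp h hy uy)
  obtain ⟨g, hg⟩ := hM
  intro e
  exact hg (MulAction.mem_stabilizer_iff.1 (e ▸ mem_top g))

theorem exists_x (n m l : ℕ) (hl : 2 ≤ l) (hm : 0 < m) (h : m * l + 1 = n) :
    ∃ (x : Perm (Fin n)) (ω : Fin n), orderOf x = l ∧ (∀ b, x b = b ↔ b = ω) ∧
      sign x = (-1) ^ (m * l + m) := by
  obtain ⟨x, hx⟩ := (exists_with_cycleType_iff (Fin n) (m := Multiset.replicate m l)).2
    ⟨by simp; omega, fun a ha => (Multiset.eq_of_mem_replicate ha) ▸ hl⟩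
  have hs := sum_cycleType x
  rw [hx, Multiset.sum_replicate, smul_eq_mul] at hs
  have hc : (x.supportᶜ).card = 1 := by
    rw [Finset.card_compl, ← hs, Fintype.card_fin]; omega
  obtain ⟨ω, hω⟩ := Finset.card_eq_one.1 hc
  refine ⟨x, ω, ?_, fun b => ?_, ?_⟩
  · rw [← lcm_cycleType, hx]
    apply Nat.dvd_antisymm
    · exact Multiset.lcm_dvd.2 fun a ha => (Multiset.eq_of_mem_replicate ha) ▸ dvd_rfl
    · exact Multiset.dvd_lcm (Multiset.mem_replicate.2 ⟨hm.ne', rfl⟩)
  · rw [← Finset.mem_singleton (a := ω), ← hω, Finset.mem_compl, mem_support, not_not]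
  · rw [sign_of_cycleType, hx]; simp

theorem conj_fix {α : Type*} [DecidableEq α] {x : Perm α} {ω a b : α} (hx : ∀ c, x c = c ↔ c = ω)
    (ha : a ≠ ω) (hb : b ≠ ω) (c : α) (h : (swap a b * x * (swap a b)⁻¹) c = c) : c = ω := by
  rw [Perm.mul_apply, Perm.mul_apply, swap_inv, ← Equiv.eq_symm_apply, symm_swap] at h
  have := (hx _).1 h
  rw [swap_apply_eq_iff, swap_apply_of_ne_of_ne ha.symm hb.symm] at this
  exact this

theorem mul_conj_inv {α : Type*} [DecidableEq α] (x : Perm α) (a b : α) :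
    x * (swap a b * x * (swap a b)⁻¹)⁻¹ = swap (x a) (x b) * swap a b := by
  rw [swap_apply_apply]; simp [mul_assoc]

theorem exists_xy (n : ℕ) (hn : 5 ≤ n) : ∃ p : ℕ, p.Prime ∧ ¬ p ∣ n ∧
    ∃ (x y : Perm (Fin n)) (ω : Fin n), PE p x ∧ PE p y ∧ (∀ b, x b = b → b = ω) ∧
      (∀ b, y b = b → b = ω) ∧ ¬ PE p (x * y⁻¹) ∧ (n ≠ 5 → sign x = 1 ∧ sign y = 1) := by
  by_cases h : ∃ p : ℕ, p.Prime ∧ p ≠ 2 ∧ p ∣ n - 1
  · obtain ⟨p, hp, hp2, m, hm⟩ := h
    have hodd : Odd p := hp.odd_of_ne_two hp2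
    have hm0 : 0 < m := by
      rcases Nat.eq_zero_or_pos m with rfl | h
      · omega
      · exact h
    obtain ⟨x, ω, h1, h2, h3⟩ := exists_x n m p hp.two_le hm0 (by rw [mul_comm]; omega)
    have hsx : sign x = 1 := by
      rw [h3]
      apply Even.neg_one_pow
      rw [← mul_add_one]
      exact (hodd.add_one).mul_left m
    have hpx : PE p x := ⟨1, by rw [pow_one, ← h1, pow_orderOf_eq_one]⟩
    obtain ⟨a, ha⟩ : ∃ a : Fin n, a ≠ ω := by
      have : Nontrivial (Fin n) := Fin.nontrivial_iff_two_le.2 (by omega)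
      exact exists_ne ω
    obtain ⟨b, hb⟩ : ∃ b : Fin n, b ∉ ({ω, a, x a, x⁻¹ a} : Finset (Fin n)) := by
      apply Finset.exists_mem_notMem_of_card_lt_card (t := Finset.univ) ?_ |>.imp fun b hb => hb.2
      have := Finset.card_le_four (a := ω) (b := a) (c := x a) (d := x⁻¹ a)
      simp only [Finset.card_univ, Fintype.card_fin]; omega
    simp only [Finset.mem_insert, Finset.mem_singleton, not_or] at hb
    obtain ⟨b1, b2, b3, b4⟩ := hb
    have c1 : x a ≠ a := fun e => ha ((h2 a).1 e)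
    have c2 : x b ≠ b := fun e => b1 ((h2 b).1 e)
    have c3 : x b ≠ a := fun e => b4 (by rw [← e]; simp)
    have c4 : x a ≠ x b := fun e => b2 (x.injective e).symm
    refine ⟨p, hp, fun hd => ?_, x, swap a b * x * (swap a b)⁻¹, ω, hpx, hpx.conj _,
      fun c hc => (h2 c).1 hc, conj_fix h2 ha b1, ?_, fun _ => ⟨hsx, by simp [hsx, Ne.symm b2]⟩⟩
    · have : p ∣ n - (n - 1) := Nat.dvd_sub hd ⟨m, hm⟩
      rw [show n - (n - 1) = 1 by omega] at this
      exact hp.one_lt.ne' (Nat.dvd_one.1 this)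
    · rw [mul_conj_inv]
      rintro ⟨k, hk⟩
      have hd : Perm.Disjoint (swap (x a) (x b)) (swap a b) := disjoint_swap_swap (by
        simp [c1, c2, c3, c4, Ne.symm b2, Ne.symm b3])
      have h2' : (swap (x a) (x b) * swap a b) ^ 2 = 1 := by
        rw [hd.commute.mul_pow, pow_two, pow_two, swap_mul_self, swap_mul_self, one_mul]
      obtain ⟨j, hj⟩ := hodd.pow (n := k)
      rw [hj, pow_succ, pow_mul, h2', one_pow, one_mul] at hk
      have := congrArg (fun f : Perm (Fin n) => f a) hk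
      simp only [Perm.mul_apply, swap_apply_left, Perm.one_apply] at this
      rw [swap_apply_of_ne_of_ne b3 c2.symm] at this
      exact b2 this
  · push Not at h
    obtain ⟨k, hk⟩ : ∃ k, n - 1 = 2 ^ k := ⟨_, Nat.eq_prime_pow_of_unique_prime_dvd (by omega)
      fun {d} hd hdn => by_contra fun e => h d hd e hdn⟩
    obtain ⟨j, rfl⟩ : ∃ j, k = j + 2 := by
      rcases k with _ | _ | k
      · simp at hk; omega
      · simp at hk; omega
      · exact ⟨k, rfl⟩
    obtain ⟨x, ω, h1, h2, h3⟩ := exists_x n (2 ^ j) 4 (by norm_num) (by positivity)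
      (by rw [pow_add] at hk; omega)
    have hpx : PE 2 x := ⟨2, by rw [show 2 ^ 2 = 4 from rfl, ← h1, pow_orderOf_eq_one]⟩
    obtain ⟨a, ha⟩ : ∃ a, x (x a) ≠ a := by
      by_contra hc
      push Not at hc
      have : x ^ 2 = 1 := by ext c; simp [pow_two, hc]
      have := orderOf_dvd_of_pow_eq_one this
      rw [h1] at this
      omega
    have c1 : x a ≠ a := fun e => ha (by rw [e, e])
    have c2 : a ≠ ω := fun e => c1 ((h2 a).2 e)
    have c3 : x (x a) ≠ x a := fun e => c1 (x.injective e)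
    have c4 : x a ≠ ω := fun e => c3 ((h2 _).2 e)
    refine ⟨2, Nat.prime_two, by rw [pow_add] at hk; omega, x,
      swap a (x a) * x * (swap a (x a))⁻¹, ω, hpx, hpx.conj _,
      fun c hc => (h2 c).1 hc, conj_fix h2 c2 c4, ?_, fun h5 => ?_⟩
    · rw [mul_conj_inv, swap_comm a]
      rintro ⟨k, hk'⟩
      have h3' := (isThreeCycle_swap_mul_swap_same c3.symm c1 ha).orderOf
      have := orderOf_dvd_of_pow_eq_one hk'
      rw [h3'] at this
      have := Nat.prime_three.dvd_of_dvd_pow this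
      omega
    · have hsx : sign x = 1 := by
        rw [h3]
        apply Even.neg_one_pow
        rcases j with _ | j
        · simp at hk; omega
        · rw [pow_succ]; exact ⟨2 ^ j * 5, by ring⟩
      exact ⟨hsx, by simp [hsx, Ne.symm c1]⟩

theorem s4_cent : ∀ g : Perm (Fin 4), (g * (swap 0 1 * swap 0 2) = (swap 0 1 * swap 0 2) * g ∨
    g * (swap 0 1 * swap 0 3) = (swap 0 1 * swap 0 3) * g) → sign g = 1 := by
  decide +kernel

theorem sign_of_pe {α : Type*} [Fintype α] [DecidableEq α] {g : Perm α} (h : PE 3 g) : sign g = 1 := by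
  obtain ⟨k, hk⟩ := h
  have := congrArg sign hk
  rw [map_pow, map_one] at this
  rcases Int.units_eq_one_or (sign g) with e | e
  · exact e
  · rw [e, Odd.neg_one_pow (Odd.pow (by decide))] at this
    exact absurd this (by decide)

theorem nocov_s4 : NoCov (Perm (Fin 4)) := by
  have : Fact (Nat.Prime 3) := ⟨Nat.prime_three⟩
  have p1 : PE 3 (swap 0 1 * swap 0 2 : Perm (Fin 4)) := ⟨1, by decide⟩
  have p2 : PE 3 (swap 0 1 * swap 0 3 : Perm (Fin 4)) := ⟨1, by decide⟩
  refine nocov_id (swap 0 1 * swap 0 2) (swap 0 1 * swap 0 3) (alternatingGroup (Fin 4)) ?_ ?_ ?_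
  · intro e
    have : swap (0 : Fin 4) 1 ∈ alternatingGroup (Fin 4) := e ▸ mem_top _
    rw [mem_alternatingGroup] at this
    exact absurd this (by decide)
  · intro N hN hx
    refine ⟨nil_le 3 (fun g _ hg => mem_alternatingGroup.2 (sign_of_pe hg)) fun g hg hc =>
      mem_alternatingGroup.2 (s4_cent g (Or.inl (comm hN hx hg p1 hc).eq.symm)), fun hy => ?_⟩
    have := le_stab (Ω := Fin 4) 3 hN (by simp) hx p1 (ω := 3) (by decide) hy
    exact absurd (MulAction.mem_stabilizer_iff.1 this) (by decide)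
  · intro N hN hx
    exact nil_le 3 (fun g _ hg => mem_alternatingGroup.2 (sign_of_pe hg)) fun g hg hc =>
      mem_alternatingGroup.2 (s4_cent g (Or.inr (comm hN hx hg p2 hc).eq.symm))

theorem a5_cent : ∀ g : Perm (Fin 5), g * (swap 0 1 * swap 0 2) = (swap 0 1 * swap 0 2) * g →
    sign g = 1 → g 4 = 4 := by
  decide +kernel

theorem nocov_a5 : NoCov (alternatingGroup (Fin 5)) := by
  have : Fact (Nat.Prime 3) := ⟨Nat.prime_three⟩
  let x : alternatingGroup (Fin 5) := ⟨swap 0 1 * swap 2 3, mem_alternatingGroup.2 (by decide)⟩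
  let y : alternatingGroup (Fin 5) := ⟨swap 0 1 * swap 0 2, mem_alternatingGroup.2 (by decide)⟩
  have p1 : PE 2 x := ⟨1, Subtype.ext (by decide)⟩
  have p2 : PE 3 y := ⟨1, Subtype.ext (by decide)⟩
  refine nocov_id x y (MulAction.stabilizer _ (4 : Fin 5)) ?_ ?_ ?_
  · intro e
    have : (⟨swap 0 1 * swap 3 4, mem_alternatingGroup.2 (by decide)⟩ : alternatingGroup (Fin 5)) ∈
      MulAction.stabilizer (alternatingGroup (Fin 5)) (4 : Fin 5) := e ▸ mem_top _
    exact absurd (MulAction.mem_stabilizer_iff.1 this) (by decide)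
  · intro N hN hx
    refine ⟨le_stab (Ω := Fin 5) 2 hN (by simp) hx p1 (by decide), fun hy => ?_⟩
    obtain ⟨k, hk⟩ := p2.orderOf
    have := comm hN hx hy p1 (by rw [hk]; exact Nat.Coprime.pow_right _ (by decide))
    exact absurd (congrArg Subtype.val this.eq) (by decide)
  · intro N hN hy
    refine nil_le 3 (fun g hg hp => ?_) fun g hg hc => ?_
    · have h4 : (4 : Fin 5) ∈ Fx 3 N (Fin 5) := by
        by_contra h4
        have hs : Fx 3 N (Fin 5) ⊆ {3} := by
          intro b hb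
          have h1 := hb y hy p2
          have h2 : b ≠ 4 := fun e => h4 (e ▸ hb)
          have h3 : ∀ b : Fin 5, (swap 0 1 * swap 0 2 : Perm (Fin 5)) b = b → b ≠ 4 → b = 3 := by
            decide
          exact h3 b h1 h2
        have h1 := card_Fx (Ω := Fin 5) 3 hN
        have h2 : Nat.card (Fx 3 N (Fin 5)) ≤ 1 := by
          have := Set.ncard_le_ncard hs
          rwa [Set.ncard_singleton] at this
        simp only [Nat.card_eq_fintype_card, Fintype.card_fin, Nat.ModEq] at h1 h2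
        omega
      exact h4 g hg hp
    · exact a5_cent g.1 (congrArg Subtype.val (comm hN hy hg p2 hc).eq.symm)
        (mem_alternatingGroup.1 g.2)

theorem nocov_perm (n : ℕ) (hn : 4 ≤ n) : NoCov (Perm (Fin n)) := by
  rcases hn.eq_or_lt with rfl | hn
  · exact nocov_s4
  obtain ⟨p, hp, hd, x, y, ω, h1, h2, h3, h4, h5, -⟩ := exists_xy n hn
  have := Fact.mk hp
  refine nocov_act (Ω := Fin n) p (by simpa using hd) h1 h2 h3 h4 h5 ?_
  have : Nontrivial (Fin n) := Fin.nontrivial_iff_two_le.2 (by omega)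
  obtain ⟨a, ha⟩ := exists_ne ω
  exact ⟨swap ω a, by simpa using ha⟩

theorem nocov_alt (n : ℕ) (hn : 5 ≤ n) : NoCov (alternatingGroup (Fin n)) := by
  rcases hn.eq_or_lt with rfl | hn'
  · exact nocov_a5
  obtain ⟨p, hp, hd, x, y, ω, ⟨k1, h1⟩, ⟨k2, h2⟩, h3, h4, h5, h6⟩ := exists_xy n hn
  obtain ⟨s1, s2⟩ := h6 hn'.ne'
  have := Fact.mk hp
  refine nocov_act (Ω := Fin n) p (by simpa using hd) (x := ⟨x, mem_alternatingGroup.2 s1⟩)
    (y := ⟨y, mem_alternatingGroup.2 s2⟩) ⟨k1, Subtype.ext h1⟩ ⟨k2, Subtype.ext h2⟩ h3 h4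
    (fun ⟨k, hk⟩ => h5 ⟨k, congrArg Subtype.val hk⟩) ?_
  obtain ⟨a, ha⟩ : ∃ a : Fin n, a ≠ ω := by
    have : Nontrivial (Fin n) := Fin.nontrivial_iff_two_le.2 (by omega)
    exact exists_ne ω
  obtain ⟨b, hb⟩ : ∃ b : Fin n, b ∉ ({ω, a} : Finset (Fin n)) := by
    apply Finset.exists_mem_notMem_of_card_lt_card (t := Finset.univ) ?_ |>.imp fun b hb => hb.2
    have := Finset.card_le_two (a := ω) (b := a)
    simp only [Finset.card_univ, Fintype.card_fin]; omega
  simp only [Finset.mem_insert, Finset.mem_singleton, not_or] at hb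
  refine ⟨⟨swap a b * swap ω a, mem_alternatingGroup.2 ?_⟩, ?_⟩
  · simp [Ne.symm hb.2, Ne.symm ha]
  · show (swap a b * swap ω a) ω ≠ ω
    simpa using hb.1

end Cfsg.Agent.Spc.Cov
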