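import Mathlib
import Cfsg.Agent.Spc.Cov

/-! Groups between `PSL_n(q)` and `PGL_n(q)` have no nilpotent minimal cover. -/

set_option autoImplicit false
set_option linter.unusedSectionVars false

namespace Cfsg.Agent.Spc.Cov

open Subgroup Matrix
open scoped LinearAlgebra.Projectivization

theorem nocovH {Γ Q : Type*} [Group Γ] [Group Q] (π : Γ →* Q) (hs : Function.Surjective π)
    (hk : π.ker ≤ center Γ) (G : Subgroup Q) {ι : Type*} [Finite ι] (xs : ι → Γ) (x0 : Γ)
    (M : ι → Subgroup Γ) (hx : ∀ i, π (xs i) ∈ G) (hx0 : π x0 ∈ G)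
    (hM : ∀ i, ∃ g, π g ∈ G ∧ g ∉ M i)
    (h1 : ∀ i (N : Subgroup Γ), Group.IsNilpotent N → xs i ∈ N →
      N ≤ M i ∧ x0 ∉ N ∧ ∀ j, xs j ∈ N → j = i)
    (h0 : ∀ N : Subgroup Γ, Group.IsNilpotent N → (∀ g ∈ N, π g ∈ G) → x0 ∈ N →
      ∀ g ∈ N, ∃ i, g ∈ M i) : NoCov G := by
  have nil : ∀ N : Subgroup (G.comap π), Group.IsNilpotent N →
      Group.IsNilpotent (N.map (G.comap π).subtype) := fun N hN =>
    Group.nilpotent_of_mulEquiv (N.equivMapOfInjective _ (G.comap π).subtype_injective)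
  refine nocov' (π.subgroupComap G) (π.subgroupComap_surjective_of_surjective G hs) ?_
    (fun i => ⟨xs i, hx i⟩) ⟨x0, hx0⟩ (fun i => (M i).subgroupOf _) ?_ ?_ ?_
  · intro x hx
    have h1 : π x = 1 := congrArg Subtype.val (MonoidHom.mem_ker.1 hx)
    have h2 := mem_center_iff.1 (hk (MonoidHom.mem_ker.2 h1))
    exact mem_center_iff.2 fun y => Subtype.ext (h2 y)
  · intro i e
    obtain ⟨g, hg, hg'⟩ := hM i
    have : (⟨g, hg⟩ : G.comap π) ∈ (M i).subgroupOf _ := e ▸ mem_top _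
    exact hg' this
  · intro i N hN hx
    obtain ⟨b1, b2, b3⟩ := h1 i _ (nil N hN) (mem_map_of_mem _ hx)
    exact ⟨fun g hg => b1 (mem_map_of_mem _ hg), fun h => b2 (mem_map_of_mem _ h),
      fun j h => b3 j (mem_map_of_mem _ h)⟩
  · intro N hN hx g hg
    exact h0 _ (nil N hN) (by rintro _ ⟨g, -, rfl⟩; exact g.2) (mem_map_of_mem _ hx) g
      (mem_map_of_mem _ hg)

variable {F : Type*} [Field F] [Fintype F] {n : Type*} [Fintype n] [DecidableEq n]

theorem gl_smul (g : GL n F) (v : n → F) : g • v = g.val *ᵥ v := rfl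

theorem mem_stab {g : GL n F} {v : n → F} (hv : v ≠ 0) :
    g ∈ MulAction.stabilizer (GL n F) (Projectivization.mk F v hv) ↔ ∃ c : F, c • v = g.val *ᵥ v := by
  rw [MulAction.mem_stabilizer_iff, Projectivization.smul_mk, Projectivization.mk_eq_mk_iff']
  rfl

theorem p_dvd (p : ℕ) [Fact p.Prime] [CharP F p] : p ∣ Fintype.card F := by
  obtain ⟨k, -, hk⟩ := FiniteField.card F p
  rw [hk]; exact dvd_pow_self p k.ne_zero

theorem vec_fix (p : ℕ) [Fact p.Prime] [CharP F p] [Nonempty n] {N : Subgroup (GL n F)}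
    (hN : Group.IsNilpotent N) : ∃ v ∈ Fx p N (n → F), v ≠ 0 := by
  refine Fx_ne p hN ?_ fun g => smul_zero g
  rw [Nat.card_fun, Nat.card_eq_fintype_card]
  exact (p_dvd p).trans (dvd_pow_self _ Nat.card_pos.ne')

theorem le_stab_vec (p : ℕ) [Fact p.Prime] [CharP F p] [Nonempty n] {N : Subgroup (GL n F)}
    (hN : Group.IsNilpotent N) {x : GL n F} (hx : x ∈ N) (hp : PE p x) {v : n → F} (hv : v ≠ 0)
    (hu : ∀ w, x.val *ᵥ w = w → ∃ c : F, c • v = w) :
    N ≤ MulAction.stabilizer (GL n F) (Projectivization.mk F v hv) := by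
  obtain ⟨b, hb, hb0⟩ := vec_fix p hN
  obtain ⟨c, rfl⟩ := hu b (hb x hx hp)
  intro a ha
  obtain ⟨d, hd⟩ := hu _ (Fx_smul hb ha x hx hp)
  have hc : c ≠ 0 := by rintro rfl; simp at hb0
  rw [gl_smul, mulVec_smul] at hd
  exact (mem_stab hv).2 ⟨c⁻¹ * d, by rw [mul_smul, hd, smul_smul, inv_mul_cancel₀ hc, one_smul]⟩

theorem pe_of_nil (p : ℕ) [Fact p.Prime] [CharP F p] [Nonempty n] {x : GL n F}
    (h : IsNilpotent (x.val - 1)) : PE p x := by
  obtain ⟨k, hk⟩ := h
  refine ⟨k, Units.ext ?_⟩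
  have h1 : (x.val - 1) ^ p ^ k = 0 :=
    pow_eq_zero_of_le (Nat.lt_pow_self (Fact.out : p.Prime).one_lt).le hk
  rw [sub_pow_char_pow_of_commute _ _ (Commute.one_right _), one_pow, sub_eq_zero] at h1
  simpa using h1

/-- inverse transpose -/
def trI : GL n F →* GL n F where
  toFun g := ⟨(g⁻¹).valᵀ, g.valᵀ, by rw [← transpose_mul]; simp, by rw [← transpose_mul]; simp⟩
  map_one' := Units.ext (by simp)
  map_mul' a b := Units.ext (by
    show ((a * b)⁻¹).valᵀ = (a⁻¹).valᵀ * (b⁻¹).valᵀ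
    rw [_root_.mul_inv_rev, Units.val_mul, transpose_mul])

theorem cov_fix (p : ℕ) [Fact p.Prime] [CharP F p] [Nonempty n] {N : Subgroup (GL n F)}
    (hN : Group.IsNilpotent N) : ∃ w : n → F, w ≠ 0 ∧ ∀ g ∈ N, PE p g → w ᵥ* g.val = w := by
  have hN' : Group.IsNilpotent (N.map trI) :=
    Group.nilpotent_of_surjective _ (trI.subgroupMap_surjective N)
  obtain ⟨w, hw, hw0⟩ := vec_fix p hN'
  refine ⟨w, hw0, fun g hg ⟨k, hk⟩ => ?_⟩
  have := hw (trI g⁻¹) (mem_map_of_mem _ (inv_mem hg)) ⟨k, by rw [← map_pow, inv_pow, hk]; simp⟩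
  rw [gl_smul] at this
  change (g⁻¹⁻¹).valᵀ *ᵥ w = w at this
  rwa [inv_inv, mulVec_transpose] at this

theorem mem_of_det {G : Subgroup (GL n F ⧸ center (GL n F))}
    (hG : ((SpecialLinearGroup.toGL : SpecialLinearGroup n F →* GL n F).range).map
      (QuotientGroup.mk' (center (GL n F))) ≤ G) {g : GL n F} (hg : g.val.det = 1) :
    QuotientGroup.mk' (center (GL n F)) g ∈ G :=
  hG (mem_map_of_mem _ ⟨⟨g.val, hg⟩, Units.ext rfl⟩)

/-- Jordan block -/
def J (F : Type*) [Field F] (m : ℕ) : Matrix (Fin (m + 1)) (Fin (m + 1)) F :=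
  fun i j => if j.val = i.val + 1 then 1 else 0

theorem J_mulVec (m : ℕ) (v : Fin (m + 1) → F) (k : Fin m) : (J F m *ᵥ v) k.castSucc = v k.succ := by
  simp only [mulVec, dotProduct, J]
  rw [Finset.sum_eq_single k.succ]
  · simp
  · intro b _ hb
    rw [if_neg, zero_mul]
    intro e; exact hb (Fin.ext (by simpa using e))
  · simp

theorem vecMul_J (m : ℕ) (v : Fin (m + 1) → F) (k : Fin m) : (v ᵥ* J F m) k.succ = v k.castSucc := by
  simp only [vecMul, dotProduct, J]
  rw [Finset.sum_eq_single k.castSucc]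
  · simp
  · intro b _ hb
    rw [if_neg, mul_zero]
    intro e; exact hb (Fin.ext (by simpa using e.symm))
  · simp

theorem J_tri (m : ℕ) : (J F m).BlockTriangular id := by
  intro i j h
  simp only [id] at h
  rw [J, if_neg]
  have := Fin.lt_def.1 h
  omega

theorem J_nil (m : ℕ) : IsNilpotent (J F m) := by
  refine ⟨m + 1, ?_⟩
  have := aeval_self_charpoly (J F m)
  rw [charpoly_of_upperTriangular _ (J_tri m)] at this
  simpa [J] using this

theorem det_J (m : ℕ) : (1 + J F m).det = 1 := by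
  rw [det_of_upperTriangular (blockTriangular_one.add (J_tri m))]
  simp [J]

theorem nocov_big (m : ℕ) (G : Subgroup (GL (Fin (m + 3)) F ⧸ center (GL (Fin (m + 3)) F)))
    (hG : ((SpecialLinearGroup.toGL : SpecialLinearGroup (Fin (m + 3)) F →* GL (Fin (m + 3)) F).range).map
      (QuotientGroup.mk' (center (GL (Fin (m + 3)) F))) ≤ G) : NoCov G := by
  obtain ⟨p, hp⟩ := CharP.exists F
  have : Fact p.Prime := ⟨CharP.char_is_prime F p⟩
  let x : GL (Fin (m + 3)) F := GeneralLinearGroup.mkOfDetNeZero (1 + J F (m + 2))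
    (by rw [det_J]; exact one_ne_zero)
  have hxv : x.val = 1 + J F (m + 2) := rfl
  have l1 : Fin.last (m + 2) ≠ 1 := fun e => by simpa using congrArg Fin.val e
  let s : GL (Fin (m + 3)) F := GeneralLinearGroup.mkOfDetNeZero
    (transvection (Fin.last (m + 2)) 1 1) (by rw [det_transvection_of_ne _ _ l1]; exact one_ne_zero)
  have hsv : s.val = transvection (Fin.last (m + 2)) 1 1 := rfl
  have e0 : (Pi.single 0 1 : Fin (m + 3) → F) ≠ 0 := by simp
  have hpx : PE p x := pe_of_nil p (by rw [hxv, add_sub_cancel_left]; exact J_nil _)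
  have ux : ∀ w, x.val *ᵥ w = w → ∃ c : F, c • (Pi.single 0 1 : Fin (m + 3) → F) = w := by
    intro w hw
    rw [hxv, add_mulVec, one_mulVec, add_eq_left] at hw
    refine ⟨w 0, funext fun i => ?_⟩
    refine Fin.cases (by simp) (fun k => ?_) i
    have := J_mulVec (m + 2) w k
    rw [hw] at this
    simpa using this
  have se : s.val *ᵥ (Pi.single 0 1 : Fin (m + 3) → F) = Pi.single 0 1 := by
    rw [hsv, transvection, add_mulVec, one_mulVec, single_mulVec]
    simp
  have uy : ∀ w, (s * x * s⁻¹).val *ᵥ w = w → ∃ c : F, c • (Pi.single 0 1 : Fin (m + 3) → F) = w := by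
    intro w hw
    rw [← gl_smul, mul_smul, mul_smul, smul_eq_iff_eq_inv_smul] at hw
    obtain ⟨c, hc⟩ := ux _ hw
    refine ⟨c, ?_⟩
    rw [eq_inv_smul_iff, gl_smul, mulVec_smul, se] at hc
    exact hc
  refine nocovH (QuotientGroup.mk' _) (QuotientGroup.mk'_surjective _)
    (by rw [QuotientGroup.ker_mk']) G (fun _ : Unit => x) (s * x * s⁻¹)
    (fun _ => MulAction.stabilizer _ (Projectivization.mk F _ e0))
    (fun _ => mem_of_det hG (det_J _)) (mem_of_det hG ?_) (fun _ => ?_)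
    (fun _ N hN hx => ⟨le_stab_vec p hN hx hpx e0 ux, fun hy => ?_, fun _ _ => rfl⟩)
    (fun N hN _ hy g hg => ⟨(), le_stab_vec p hN hy (hpx.conj s) e0 uy hg⟩)
  · rw [Units.val_mul, Units.val_mul, det_units_conj, hxv, det_J]
  · have l2 : (1 : Fin (m + 3)) ≠ 0 := by simp
    refine ⟨GeneralLinearGroup.mkOfDetNeZero (transvection 1 0 1)
      (by rw [det_transvection_of_ne _ _ l2]; exact one_ne_zero),
      mem_of_det hG (det_transvection_of_ne _ _ l2 _), fun h => ?_⟩
    obtain ⟨c, hc⟩ := (mem_stab e0).1 h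
    have := congrFun hc 1
    simp [transvection] at this
  · obtain ⟨w, hw0, hw⟩ := cov_fix p hN
    have h1 := hw x hx hpx
    have h2 := hw _ hy (hpx.conj s)
    have key : ∀ u : Fin (m + 3) → F, u ᵥ* x.val = u → ∀ k : Fin (m + 2), u k.castSucc = 0 := by
      intro u hu k
      rw [hxv, vecMul_add, vecMul_one, add_eq_left] at hu
      rw [← vecMul_J (m + 2) u k, hu]; rfl
    have h3 : (w ᵥ* s.val) ᵥ* x.val = w ᵥ* s.val := by
      conv_rhs => rw [← h2]
      rw [vecMul_vecMul, vecMul_vecMul, ← Units.val_mul, ← Units.val_mul]; simp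
    have h4 := key _ h3 1
    have h5 := key _ h1 1
    rw [show Fin.castSucc (1 : Fin (m + 2)) = 1 from rfl] at h4 h5
    rw [hsv, transvection, vecMul_add, vecMul_one] at h4
    apply hw0
    funext i
    refine Fin.lastCases ?_ (fun k => key _ h1 k) i
    simpa [h5, vecMul, dotProduct, Matrix.single] using h4

end Cfsg.Agent.Spc.Cov
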