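import Mathlib
import Cfsg.Agent.Spc.CovL

/-! Groups between `PSL_2(q)` and `PGL_2(q)`, `q ≥ 4`, have no nilpotent minimal cover. -/

set_option autoImplicit false
set_option linter.unusedSectionVars false

namespace Cfsg.Agent.Spc.Cov

open Subgroup Matrix
open scoped LinearAlgebra.Projectivization

variable {F : Type*} [Field F] [Fintype F]

/-- the transvection with centre `v` -/
noncomputable def xv (v : Fin 2 → F) : GL (Fin 2) F :=
  GeneralLinearGroup.mkOfDetNeZero !![1 - v 0 * v 1, v 0 ^ 2; - v 1 ^ 2, 1 + v 0 * v 1]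
    (by rw [det_fin_two_of]; intro h; exact one_ne_zero (by linear_combination h : (1 : F) = 0))

theorem xv_val (v : Fin 2 → F) :
    (xv v).val = !![1 - v 0 * v 1, v 0 ^ 2; - v 1 ^ 2, 1 + v 0 * v 1] := rfl

theorem xv_det (v : Fin 2 → F) : (xv v).val.det = 1 := by
  rw [xv_val, det_fin_two_of]; ring

theorem xv_pe (p : ℕ) [Fact p.Prime] [CharP F p] (v : Fin 2 → F) : PE p (xv v) := by
  refine pe_of_nil p ⟨2, ?_⟩
  rw [xv_val, pow_two]
  ext i j
  fin_cases i <;> fin_cases j <;> simp [Matrix.mul_apply, Fin.sum_univ_two] <;> ring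

theorem par {v w : Fin 2 → F} (hv : v ≠ 0) (h : v 0 * w 1 = v 1 * w 0) : ∃ c : F, c • v = w := by
  by_cases h0 : v 0 = 0
  · have h1 : v 1 ≠ 0 := fun h1 => hv (funext fun i => by fin_cases i <;> simpa)
    refine ⟨w 1 / v 1, funext fun i => ?_⟩
    fin_cases i
    · rw [h0, zero_mul] at h
      simp [h0, (mul_eq_zero.1 h.symm).resolve_left h1]
    · simp [h1]
  · refine ⟨w 0 / v 0, funext fun i => ?_⟩
    fin_cases i
    · simp [h0]
    · simp only [Fin.mk_one, Pi.smul_apply, smul_eq_mul]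
      field_simp
      linear_combination -h

theorem xv_eig {v w : Fin 2 → F} (hv : v ≠ 0) (hw : w ≠ 0) {c : F} (h : c • w = (xv v).val *ᵥ w) :
    v 0 * w 1 = v 1 * w 0 := by
  have h0 := congrFun h 0
  have h1 := congrFun h 1
  simp [xv_val, mulVec, dotProduct, Fin.sum_univ_two] at h0 h1
  have : (v 0 * w 1 - v 1 * w 0) ^ 2 = 0 := by linear_combination (w 0) * h1 - (w 1) * h0
  exact sub_eq_zero.1 (pow_eq_zero_iff two_ne_zero |>.1 this)

theorem xv_fix {v : Fin 2 → F} (hv : v ≠ 0) (w : Fin 2 → F) (h : (xv v).val *ᵥ w = w) :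
    ∃ c : F, c • v = w := by
  by_cases hw : w = 0
  · exact ⟨0, by simp [hw]⟩
  · exact par hv (xv_eig hv hw (c := 1) (by rw [h, one_smul]))

/-- diagonal matrix -/
noncomputable def dg (a d : Fˣ) : GL (Fin 2) F :=
  GeneralLinearGroup.mkOfDetNeZero !![(a : F), 0; 0, (d : F)] (by simp [det_fin_two_of])

theorem dg_val (a d : Fˣ) : (dg a d).val = !![(a : F), 0; 0, (d : F)] := rfl

theorem diag_of_comm {a d : Fˣ} (h : a ≠ d) {g : GL (Fin 2) F} (hc : Commute (dg a d) g) :
    g.val 0 1 = 0 ∧ g.val 1 0 = 0 := by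
  have e := congrArg Units.val hc.eq
  rw [Units.val_mul, Units.val_mul, dg_val] at e
  have h0 := congrFun (congrFun e 0) 1
  have h1 := congrFun (congrFun e 1) 0
  simp [Matrix.mul_apply, Fin.sum_univ_two] at h0 h1
  have hne : (a : F) - d ≠ 0 := sub_ne_zero.2 fun e => h (Units.ext e)
  exact ⟨(mul_eq_zero.1 (by linear_combination h0 : ((a : F) - d) * g.val 0 1 = 0)).resolve_left hne,
    (mul_eq_zero.1 (by linear_combination -h1 : ((a : F) - d) * g.val 1 0 = 0)).resolve_left hne⟩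

theorem diag_pow {g : GL (Fin 2) F} (h0 : g.val 0 1 = 0) (h1 : g.val 1 0 = 0) (k : ℕ) :
    (g ^ k).val = !![g.val 0 0 ^ k, 0; 0, g.val 1 1 ^ k] := by
  induction k with
  | zero => rw [pow_zero, Units.val_one, one_fin_two]; simp
  | succ k ih =>
    rw [pow_succ, Units.val_mul, ih]
    ext i j
    fin_cases i <;> fin_cases j <;> simp [Matrix.mul_apply, Fin.sum_univ_two, h0, h1, pow_succ]

theorem diag_pow_card {g : GL (Fin 2) F} (h0 : g.val 0 1 = 0) (h1 : g.val 1 0 = 0) :
    g ^ (Fintype.card F - 1) = 1 := by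
  have hd : g.val.det ≠ 0 := GeneralLinearGroup.det_ne_zero g
  rw [det_fin_two, h0, zero_mul, sub_zero] at hd
  apply Units.ext
  rw [diag_pow h0 h1, FiniteField.pow_card_sub_one_eq_one _ (left_ne_zero_of_mul hd),
    FiniteField.pow_card_sub_one_eq_one _ (right_ne_zero_of_mul hd), Units.val_one, one_fin_two]

theorem cop_card (p : ℕ) [Fact p.Prime] [CharP F p] : p.Coprime (Fintype.card F - 1) := by
  rw [Nat.Prime.coprime_iff_not_dvd Fact.out]
  intro h
  have := Nat.dvd_sub (p_dvd (F := F) p) h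
  rw [show Fintype.card F - (Fintype.card F - 1) = 1 by have := Fintype.card_pos (α := F); omega] at this
  exact (Fact.out : p.Prime).one_lt.ne' (Nat.dvd_one.1 this)

theorem nocov_borel (G : Subgroup (GL (Fin 2) F ⧸ center (GL (Fin 2) F)))
    (hG : ((SpecialLinearGroup.toGL : SpecialLinearGroup (Fin 2) F →* GL (Fin 2) F).range).map
      (QuotientGroup.mk' (center (GL (Fin 2) F))) ≤ G) {a d : Fˣ} (had : a ≠ d) (h1 : a * d = 1)
    (h0 : ∀ N : Subgroup (GL (Fin 2) F), Group.IsNilpotent N →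
      (∀ g ∈ N, QuotientGroup.mk' (center (GL (Fin 2) F)) g ∈ G) → dg a d ∈ N →
      ∀ g ∈ N, ∃ (v : Fin 2 → F) (c : F), v ≠ 0 ∧ c • v = g.val *ᵥ v) : NoCov G := by
  obtain ⟨p, hp⟩ := CharP.exists F
  have : Fact p.Prime := ⟨CharP.char_is_prime F p⟩
  refine nocovH (QuotientGroup.mk' _) (QuotientGroup.mk'_surjective _)
    (by rw [QuotientGroup.ker_mk']) G (fun ω : ℙ F (Fin 2 → F) => xv ω.rep) (dg a d)
    (fun ω => MulAction.stabilizer _ ω) (fun _ => mem_of_det hG (xv_det _)) (mem_of_det hG ?_)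
    (fun ω => ?_) (fun ω N hN hx => ?_) (fun N hN hN' hx g hg => ?_)
  · rw [dg_val, det_fin_two_of]
    simpa using congrArg Units.val h1
  · induction ω using Projectivization.ind with | h v hv => ?_
    by_cases h0 : v 0 = 0
    · refine ⟨xv ![1, 0], mem_of_det hG (xv_det _), fun h => ?_⟩
      obtain ⟨c, hc⟩ := (mem_stab hv).1 h
      have := xv_eig (by simp) hv hc
      exact hv (funext fun i => by fin_cases i <;> simp_all)
    · refine ⟨xv ![0, 1], mem_of_det hG (xv_det _), fun h => ?_⟩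
      obtain ⟨c, hc⟩ := (mem_stab hv).1 h
      have := xv_eig (by simp) hv hc
      simp at this
      exact h0 this.symm
  · have hle := le_stab_vec p hN hx (xv_pe p _) ω.rep_nonzero (xv_fix ω.rep_nonzero)
    refine ⟨by rwa [ω.mk_rep] at hle, fun hy => ?_, fun j hj => ?_⟩
    · have hc := comm hN hx hy (xv_pe p _) ((cop_card (F := F) p).coprime_dvd_right
        (orderOf_dvd_of_pow_eq_one (diag_pow_card rfl rfl)))
      obtain ⟨e1, e2⟩ := diag_of_comm had hc.symm
      simp [xv_val] at e1 e2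
      exact ω.rep_nonzero (funext fun i => by fin_cases i <;> simpa)
    · obtain ⟨c, hc⟩ := (mem_stab ω.rep_nonzero).1 (hle hj)
      obtain ⟨e, he⟩ := par j.rep_nonzero (xv_eig j.rep_nonzero ω.rep_nonzero hc)
      rw [← ω.mk_rep, ← j.mk_rep, eq_comm, Projectivization.mk_eq_mk_iff']
      exact ⟨e, he⟩
  · obtain ⟨v, c, hv, h⟩ := h0 N hN hN' hx g hg
    exact ⟨Projectivization.mk F v hv, (mem_stab hv).2 ⟨c, h⟩⟩

theorem nocov_odd (G : Subgroup (GL (Fin 2) F ⧸ center (GL (Fin 2) F)))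
    (hG : ((SpecialLinearGroup.toGL : SpecialLinearGroup (Fin 2) F →* GL (Fin 2) F).range).map
      (QuotientGroup.mk' (center (GL (Fin 2) F))) ≤ G) {r : ℕ} (hr : r.Prime) (hr2 : r ≠ 2)
    (hd : r ∣ Fintype.card F - 1) : NoCov G := by
  classical
  have := Fact.mk hr
  obtain ⟨a, ha⟩ := exists_prime_orderOf_dvd_card (G := Fˣ) r (by rwa [Fintype.card_units])
  have had : a ≠ a⁻¹ := by
    intro e
    have : a ^ 2 = 1 := by rw [pow_two]; nth_rewrite 2 [e]; simp
    have := orderOf_dvd_of_pow_eq_one this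
    rw [ha] at this
    exact hr2 ((Nat.prime_dvd_prime_iff_eq hr Nat.prime_two).1 this)
  have hpe : PE r (dg a a⁻¹) := by
    refine ⟨1, Units.ext ?_⟩
    have e : a ^ r = 1 := by rw [← ha, pow_orderOf_eq_one]
    have e' : (a : F) ^ r = 1 := by simpa using congrArg Units.val e
    rw [diag_pow rfl rfl, Units.val_one, one_fin_two]
    simp [dg_val, e']
  refine nocov_borel G hG had (by simp) fun N hN _ hx g hg => ?_
  obtain ⟨ω, hω⟩ := Fx_nonempty (Ω := ℙ F (Fin 2 → F)) r hN (by
    rw [Projectivization.card_of_finrank_two F _ (by simp), Nat.card_eq_fintype_card]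
    intro h
    have := Nat.dvd_sub h hd
    rw [show Fintype.card F + 1 - (Fintype.card F - 1) = 2 by
      have := Fintype.card_pos (α := F); omega] at this
    exact hr2 ((Nat.prime_dvd_prime_iff_eq hr Nat.prime_two).1 this))
  have hle : N ≤ MulAction.stabilizer _ ω := by
    refine nil_le r (fun g hg hp => hω g hg hp) fun g hg hc => ?_
    obtain ⟨e1, e2⟩ := diag_of_comm had (comm hN hx hg hpe hc)
    have h1 : dg a a⁻¹ ∈ MulAction.stabilizer _ ω := hω _ hx hpe
    clear hω
    induction ω using Projectivization.ind with | h v hv => ?_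
    obtain ⟨c, hc⟩ := (mem_stab hv).1 h1
    have h0 := congrFun hc 0
    have h1 := congrFun hc 1
    simp [dg_val, mulVec, dotProduct, Fin.sum_univ_two] at h0 h1
    rw [mem_stab]
    have : v 0 = 0 ∨ v 1 = 0 := by
      rcases h0 with h0 | h0
      · rcases h1 with h1 | h1
        · exact absurd (Units.ext (by simpa using h0.symm.trans h1)) had
        · exact Or.inr h1
      · exact Or.inl h0
    rcases this with h | h
    · exact ⟨g.val 1 1, funext fun i => by
        fin_cases i <;> simp [mulVec, dotProduct, Fin.sum_univ_two, h, e1]⟩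
    · exact ⟨g.val 0 0, funext fun i => by
        fin_cases i <;> simp [mulVec, dotProduct, Fin.sum_univ_two, h, e2]⟩
  have := hle hg
  rw [← ω.mk_rep] at this
  obtain ⟨c, hc⟩ := (mem_stab ω.rep_nonzero).1 this
  exact ⟨_, c, ω.rep_nonzero, hc⟩

theorem root_two {i : F} (hi : i * i = -1) (k : ℕ) : ∀ g : Matrix (Fin 2) (Fin 2) F,
    IsSquare g.det → g ^ 2 ^ k = 1 → ∃ μ : F, μ ^ 2 - (g 0 0 + g 1 1) * μ + g.det = 0 := by
  induction k with
  | zero =>
    intro g _ h
    rw [pow_zero, pow_one] at h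
    exact ⟨1, by rw [h]; simp⟩
  | succ k ih =>
    intro g ⟨d, hd⟩ h
    obtain ⟨ν, hν⟩ := ih (g * g) ⟨g.det, det_mul _ _⟩ (by rw [← pow_two, ← pow_mul, ← pow_succ', h])
    by_cases ht : g 0 0 + g 1 1 = 0
    · exact ⟨i * d, by rw [ht, hd]; linear_combination d ^ 2 * hi⟩
    · refine ⟨(ν + g.det) / (g 0 0 + g 1 1), ?_⟩
      rw [det_mul] at hν
      simp only [Matrix.mul_apply, Fin.sum_univ_two, det_fin_two] at hν ⊢
      field_simp
      linear_combination hν

theorem eig_of_root {g : Matrix (Fin 2) (Fin 2) F} {μ : F}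
    (h : μ ^ 2 - (g 0 0 + g 1 1) * μ + g.det = 0) : ∃ v : Fin 2 → F, v ≠ 0 ∧ μ • v = g *ᵥ v := by
  classical
  obtain ⟨v, hv, e⟩ := (exists_mulVec_eq_zero_iff (M := g - μ • 1)).2 (by
    rw [det_fin_two] at h ⊢
    simp
    linear_combination h)
  refine ⟨v, hv, ?_⟩
  rw [sub_mulVec, smul_mulVec, one_mulVec, sub_eq_zero] at e
  exact e.symm

theorem nocov_sq (G : Subgroup (GL (Fin 2) F ⧸ center (GL (Fin 2) F)))
    (hG : ((SpecialLinearGroup.toGL : SpecialLinearGroup (Fin 2) F →* GL (Fin 2) F).range).map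
      (QuotientGroup.mk' (center (GL (Fin 2) F))) ≤ G) {k : ℕ}
    (hd : Fintype.card F - 1 = 2 ^ (k + 2))
    (hs : ∀ g, QuotientGroup.mk' (center (GL (Fin 2) F)) g ∈ G →
      IsSquare (GeneralLinearGroup.det g)) : NoCov G := by
  classical
  have hq : Fintype.card F = 4 * 2 ^ k + 1 := by
    have := Fintype.card_pos (α := F)
    rw [pow_add] at hd; omega
  obtain ⟨i, hi⟩ := (FiniteField.isSquare_neg_one_iff (F := F)).2 (by omega)
  have h2 : (2 : F) ≠ 0 := by
    apply Ring.two_ne_zero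
    intro h
    have := FiniteField.even_card_iff_char_two.1 h
    omega
  have hi0 : i ≠ 0 := by rintro rfl; simp at hi
  have had : Units.mk0 i hi0 ≠ -Units.mk0 i hi0 := by
    intro e
    have : i = -i := by simpa using congrArg Units.val e
    exact hi0 ((mul_eq_zero.1 (by linear_combination this : 2 * i = 0)).resolve_left h2)
  refine nocov_borel G hG had (Units.ext (by simp; linear_combination hi)) fun N hN hN' hx g hg => ?_
  have hpe : PE 2 (dg (Units.mk0 i hi0) (-Units.mk0 i hi0)) :=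
    ⟨k + 2, by rw [← hd]; exact diag_pow_card rfl rfl⟩
  obtain ⟨P, -, hP⟩ := exists_sylow 2 hN
  have hle : N ≤ P := by
    refine nil_le 2 (fun g hg hp => (hP g).2 ⟨hg, hp⟩) fun g hg hc => (hP g).2 ⟨hg, k + 2, ?_⟩
    obtain ⟨e1, e2⟩ := diag_of_comm had (comm hN hx hg hpe hc)
    rw [← hd]; exact diag_pow_card e1 e2
  obtain ⟨j, hj⟩ := ((hP g).1 (hle hg)).2
  obtain ⟨d, hd⟩ := hs g (hN' g hg)
  obtain ⟨μ, hμ⟩ := root_two hi.symm j g.val ⟨d, by simpa using congrArg Units.val hd⟩
    (by simpa using congrArg Units.val hj)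
  obtain ⟨v, hv, e⟩ := eig_of_root hμ
  exact ⟨v, μ, hv, e⟩

theorem nocov_nsq (G : Subgroup (GL (Fin 2) F ⧸ center (GL (Fin 2) F)))
    (hG : ((SpecialLinearGroup.toGL : SpecialLinearGroup (Fin 2) F →* GL (Fin 2) F).range).map
      (QuotientGroup.mk' (center (GL (Fin 2) F))) ≤ G)
    (hs : ∃ g, QuotientGroup.mk' (center (GL (Fin 2) F)) g ∈ G ∧
      ¬ IsSquare (GeneralLinearGroup.det g)) : NoCov G := by
  obtain ⟨p, hp⟩ := CharP.exists F
  have : Fact p.Prime := ⟨CharP.char_is_prime F p⟩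
  have key : ∀ (v : Fin 2 → F) (N : Subgroup (GL (Fin 2) F)), (v = ![1, 0] ∨ v = ![0, 1]) →
      Group.IsNilpotent N → xv v ∈ N →
      N ≤ (Subgroup.square Fˣ).comap GeneralLinearGroup.det := by
    intro v N hv hN hx
    refine nil_le p (fun g _ ⟨k, hk⟩ => ?_) fun g hg hc => ?_
    · have h1 : GeneralLinearGroup.det g ^ p ^ k = 1 := by rw [← map_pow, hk, map_one]
      have h2 : GeneralLinearGroup.det g ^ (Fintype.card F - 1) = 1 := by
        classical
        rw [← Fintype.card_units]; exact pow_card_eq_one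
      have := (pow_eq_one_iff_of_coprime ((cop_card (F := F) p).pow_left k)).1 ⟨h1, h2⟩
      rw [mem_comap, this]; exact one_mem _
    · have e := congrArg Units.val (comm hN hx hg (xv_pe p v) hc).eq
      rw [Units.val_mul, Units.val_mul, xv_val] at e
      have h00 := congrFun (congrFun e 0) 0
      have h01 := congrFun (congrFun e 0) 1
      have h10 := congrFun (congrFun e 1) 0
      have hd : g.val.det = g.val 0 0 * g.val 0 0 := by
        rw [det_fin_two]
        rcases hv with rfl | rfl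
        · simp [Matrix.mul_apply, Fin.sum_univ_two] at h00 h01
          rw [h00]; linear_combination g.val 0 0 * h01
        · simp [Matrix.mul_apply, Fin.sum_univ_two] at h00 h10
          rw [h00]; linear_combination g.val 0 0 * h10
      have h0 : g.val 0 0 ≠ 0 := by
        have := GeneralLinearGroup.det_ne_zero g
        rw [hd] at this
        exact left_ne_zero_of_mul this
      rw [mem_comap, Subgroup.mem_square]
      exact ⟨Units.mk0 _ h0, Units.ext (by simpa using hd)⟩
  have e1 : (![1, 0] : Fin 2 → F) ≠ 0 := by simp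
  refine nocovH (QuotientGroup.mk' _) (QuotientGroup.mk'_surjective _)
    (by rw [QuotientGroup.ker_mk']) G (fun _ : Unit => xv ![1, 0]) (xv ![0, 1])
    (fun _ => (Subgroup.square Fˣ).comap GeneralLinearGroup.det)
    (fun _ => mem_of_det hG (xv_det _)) (mem_of_det hG (xv_det _)) (fun _ => ?_)
    (fun _ N hN hx => ⟨key _ N (Or.inl rfl) hN hx, fun hy => ?_, fun _ _ => rfl⟩)
    (fun N hN _ hy g hg => ⟨(), key _ N (Or.inr rfl) hN hy hg⟩)
  · obtain ⟨g, h1, h2⟩ := hs
    exact ⟨g, h1, fun h => h2 (Subgroup.mem_square.1 h)⟩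
  · obtain ⟨c, hc⟩ := (mem_stab e1).1 (le_stab_vec p hN hx (xv_pe p _) e1 (xv_fix e1) hy)
    have := xv_eig (by simp) e1 hc
    simp at this

theorem nocov_two (hq : 4 ≤ Fintype.card F) (G : Subgroup (GL (Fin 2) F ⧸ center (GL (Fin 2) F)))
    (hG : ((SpecialLinearGroup.toGL : SpecialLinearGroup (Fin 2) F →* GL (Fin 2) F).range).map
      (QuotientGroup.mk' (center (GL (Fin 2) F))) ≤ G) : NoCov G := by
  by_cases h : ∃ r : ℕ, r.Prime ∧ r ≠ 2 ∧ r ∣ Fintype.card F - 1
  · obtain ⟨r, h1, h2, h3⟩ := h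
    exact nocov_odd G hG h1 h2 h3
  push Not at h
  obtain ⟨k, hk⟩ : ∃ k, Fintype.card F - 1 = 2 ^ k := ⟨_, Nat.eq_prime_pow_of_unique_prime_dvd
    (by omega) fun {d} hd hdn => by_contra fun e => h d hd e hdn⟩
  obtain ⟨j, rfl⟩ : ∃ j, k = j + 2 := by
    rcases k with _ | _ | k
    · simp at hk; omega
    · simp at hk; omega
    · exact ⟨k, rfl⟩
  by_cases hs : ∀ g, QuotientGroup.mk' (center (GL (Fin 2) F)) g ∈ G →
      IsSquare (GeneralLinearGroup.det g)
  · exact nocov_sq G hG hk hs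
  · push Not at hs
    exact nocov_nsq G hG hs

end Cfsg.Agent.Spc.Cov
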