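import Mathlib
import Cfsg.Agent.FGS.MinNPC
import Cfsg.Agent.FGS.PClosed

/-! Field model and order bound for minimal groups without normal `p`-complement. -/

set_option autoImplicit false
set_option linter.unusedSectionVars false
set_option linter.style.haveILetI false

namespace Cfsg.Agent.SpcSchm

open Subgroup Cfsg Cfsg.Agent FGS Polynomial
open scoped commutatorElement

/-- Coordinates on `Q` modulo the centre. -/
structure Md {G : Type*} [Group G] (Q : Subgroup G) (g : G) {K : Type*} [Field K] (l : K)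
    (φ : G → K) : Prop where
  add : ∀ u ∈ Q, ∀ v ∈ Q, φ (u * v) = φ u + φ v
  surj : ∀ c, ∃ u ∈ Q, φ u = c
  zero : ∀ u ∈ Q, φ u = 0 ↔ u ∈ center G
  conj : ∀ u ∈ Q, φ (g * u * g⁻¹) = l * φ u

variable {G : Type*} [Group G] [Finite G] {p q : ℕ} [hp : Fact p.Prime] {Q : Subgroup G} {g : G}

theorem pow_cent (h : MinNPC p q Q g) : g ^ q ∈ centralizer (Q : Set G) := by
  haveI := h.normal
  obtain ⟨k, hk⟩ := h.ord
  have hne : Q ⊔ zpowers (g ^ q) ≠ ⊤ := by
    intro ht
    have h1 : g ∈ ((Q ⊔ zpowers (g ^ q) : Subgroup G) : Set G) := ht.ge (mem_top g)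
    rw [normal_mul] at h1
    obtain ⟨u, hu, v, hv, e⟩ := h1
    have h2 : zpowers g ⊓ Q = ⊥ := inf_eq_bot_of_coprime (h.coprime_card le_rfl)
    have h3 : u = 1 := h2.le ⟨by
      rw [show u = g * v⁻¹ from eq_mul_inv_of_mul_eq e]
      exact (zpowers g).mul_mem (mem_zpowers g) ((zpowers g).inv_mem
        (zpowers_le.2 (pow_mem (mem_zpowers g) q) hv)), hu⟩
    have h4 : g ∈ zpowers (g ^ q) := by
      rw [← show v = g by simpa [h3] using e]
      rw [← show v = g by simpa [h3] using e] at hv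
      exact hv
    have h5 := mem_zpowers_pow_iff.1 h4
    rw [hk] at h5
    rcases k with _ | k
    · rw [pow_zero, orderOf_eq_one_iff] at hk
      exact h.not_cent (hk ▸ one_mem _)
    · have := (Nat.dvd_gcd (dvd_refl q) (dvd_pow_self q k.succ_ne_zero))
      rw [h5] at this
      exact h.prime.not_dvd_one this
  have hgH : g ^ q ∈ Q ⊔ zpowers (g ^ q) := mem_sup_right (mem_zpowers _)
  have := Transfer.mem_centralizer_of_hasNormalPComplement (h.npc _ hne)
    (Q := Q.subgroupOf (Q ⊔ zpowers (g ^ q))) (h.pgroup.comap_subtype) (g := ⟨g ^ q, hgH⟩)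
    (by rw [normalizer_eq_top]; exact mem_top _)
    (by rw [← orderOf_coe]; exact h.coprime.coprime_dvd_left (orderOf_pow_dvd q))
  rw [mem_centralizer_iff] at this ⊢
  intro y hy
  exact congrArg Subtype.val (this ⟨y, mem_sup_left hy⟩ hy)

theorem normal_of (h : MinNPC p q Q g) {R : Subgroup G} (h1 : ⁅Q, Q⁆ ≤ R) (h2 : R ≤ Q)
    (h3 : ∀ b ∈ R, g * b * g⁻¹ ∈ R) : R.Normal := by
  rw [← normalizer_eq_top_iff, eq_top_iff, ← h.sup]
  refine sup_le (fun u hu => mem_normalizer_fintype fun y hy => ?_)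
    (zpowers_le.2 (mem_normalizer_fintype h3))
  rw [show u * y * u⁻¹ = ⁅u, y⁆ * y by group]
  exact mul_mem (h1 (commutator_mem_commutator hu (h2 hy))) hy

theorem not_triv (h : MinNPC p q Q g) : ¬ ∀ u ∈ Q, g * u * g⁻¹ * u⁻¹ ∈ center G := by
  intro hc
  haveI := h.normal
  apply h.not_le_center
  rw [← h.commutator_zpowers, commutator_comm, commutator_le]
  intro a ha u hu
  obtain ⟨n, rfl⟩ := mem_powers_iff_mem_zpowers.2 ha
  induction n with
  | zero => simp
  | succ n ih =>
    have h1 := ih (pow_mem (mem_zpowers g) n)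
    have h2 := hc u hu
    have h3 : ⁅g ^ (n + 1), u⁆ = g * ⁅g ^ n, u⁆ * g⁻¹ * (g * u * g⁻¹ * u⁻¹) := by
      simp only [commutatorElement_def, pow_succ']
      group
    simp only at h1 ⊢
    rw [h3, mem_center_iff.1 h1 g, mul_inv_cancel_right]
    exact mul_mem h1 h2

open scoped IsMulCommutative in
theorem exists_md (h : MinNPC p q Q g) : ∃ (F : Type) (_ : Field F) (_ : Fintype F) (l : F)
    (φ : G → F), Md Q g l φ ∧ orderOf l = q ∧ (p : F) = 0 ∧
    ∀ X : AddSubgroup F, (∀ v ∈ X, l * v ∈ X) → X = ⊥ ∨ X = ⊤ := by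
  classical
  haveI := h.normal
  haveI := Fact.mk h.prime
  let π := QuotientGroup.mk' (center G)
  have hπ : ∀ x, π x = 1 ↔ x ∈ center G := fun x => QuotientGroup.eq_one_iff x
  let A := Q.map π
  haveI : IsMulCommutative A := ⟨⟨by
    rintro ⟨_, a, ha, rfl⟩ ⟨_, b, hb, rfl⟩
    refine Subtype.ext (commutatorElement_eq_one_iff_mul_comm.1 ?_)
    change ⁅π a, π b⁆ = 1
    rw [← map_commutatorElement, hπ]
    exact h.commutator_le_center (commutator_mem_commutator ha hb)⟩⟩
  haveI : A.Normal := Normal.map inferInstance _ (QuotientGroup.mk'_surjective _)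
  have hN : zpowers (π g) ≤ normalizer (A : Set (G ⧸ center G)) := by
    rw [normalizer_eq_top]; exact le_top
  let σ : MulAut A := PGrp.actHom hN ⟨π g, mem_zpowers _⟩
  have hσ : ∀ a : A, (σ a : G ⧸ center G) = π g * a * (π g)⁻¹ := fun a => rfl
  let s : AddMonoid.End (Additive A) := MonoidHom.toAdditive σ.toMonoidHom
  haveI : Finite (AddMonoid.End (Additive A)) :=
    Finite.of_injective _ (DFunLike.coe_injective (F := Additive A →+ Additive A))
  obtain ⟨u0, hu0, h0⟩ : ∃ u ∈ Q, g * u * g⁻¹ * u⁻¹ ∉ center G := by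
    by_contra! h1
    exact not_triv h h1
  let v₀ : A := ⟨π u0, mem_map_of_mem π hu0⟩
  have h0' : Additive.ofMul v₀ ≠ 0 := fun h1 => h0 (by
    have h2 : π u0 = 1 := congrArg Subtype.val (show v₀ = 1 from h1)
    rw [← hπ]
    simp [h2])
  have hirr' : ∀ X : AddSubgroup (Additive A), (∀ v ∈ X, s v ∈ X) → X = ⊥ ∨ X = ⊤ := by
    intro X hX
    let R := ((AddSubgroup.toSubgroup' X).map A.subtype).comap π ⊓ Q
    haveI : R.Normal := normal_of h (le_inf (h.commutator_le_center.trans fun x hx => by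
        rw [mem_comap, (hπ x).2 hx]; exact one_mem _) (commutator_le_left _ _)) inf_le_right (by
      rintro b ⟨⟨c, hc, e⟩, hb⟩
      refine ⟨⟨σ c, hX _ hc, ?_⟩, h.normal.conj_mem _ hb _⟩
      change (σ c : G ⧸ center G) = _
      rw [hσ, show (c : G ⧸ center G) = π b from e]
      simp)
    by_cases h1 : R ≤ center G
    · left
      rw [eq_bot_iff]
      intro v hv
      obtain ⟨b, hb, e⟩ := v.toMul.2
      have := (hπ b).2 (h1 ⟨⟨v.toMul, hv, e.symm⟩, hb⟩)
      exact (show v.toMul = 1 from Subtype.ext (e.symm.trans this))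
    · right
      have h2 := h.eq_of_not_le_center inf_le_right h1
      rw [eq_top_iff]
      intro v _
      obtain ⟨b, hb, e⟩ := v.toMul.2
      obtain ⟨w, hw, hwv⟩ := (h2.ge hb).1
      have : w = v.toMul := Subtype.ext (hwv.trans e)
      subst this
      exact hw
  obtain ⟨F, _, _, e, he, he1⟩ := Perm.exists_field_of_irreducible (R := AddMonoid.End (Additive A))
    (V := Additive A) {s} (by simp) (fun X hX => hirr' X fun v hv => hX s rfl v hv) h0'
  obtain ⟨l, hl⟩ := he s rfl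
  have hl' : ∀ y, s (e y) = e (l * y) := hl
  let φ : G → F := fun u => if hu : u ∈ Q then e.symm (Additive.ofMul ⟨π u, mem_map_of_mem π hu⟩)
    else 0
  have hφ : ∀ u (hu : u ∈ Q), e (φ u) = Additive.ofMul ⟨π u, mem_map_of_mem π hu⟩ := by
    intro u hu
    simp only [φ, dif_pos hu, AddEquiv.apply_symm_apply]
  have hm : Md Q g l φ := by
    refine ⟨fun u hu v hv => e.injective ?_, fun c => ?_, fun u hu => ?_,
      fun u hu => e.injective ?_⟩
    · rw [map_add, hφ _ hu, hφ _ hv, hφ _ (mul_mem hu hv)]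
      exact Subtype.ext (map_mul π u v)
    · obtain ⟨b, hb, e1⟩ := (e c).toMul.2
      exact ⟨b, hb, e.injective (by rw [hφ _ hb]; exact Subtype.ext e1)⟩
    · rw [← hπ, ← e.map_eq_zero_iff, hφ _ hu]
      exact ⟨fun h1 => congrArg Subtype.val (show (⟨π u, mem_map_of_mem π hu⟩ : A) = 1 from h1),
        fun h1 => (show (⟨π u, mem_map_of_mem π hu⟩ : A) = 1 from Subtype.ext h1)⟩
    · rw [← hl', hφ _ hu, hφ _ (h.normal.conj_mem _ hu _)]
      refine Subtype.ext ?_
      change π _ = π g * π u * (π g)⁻¹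
      simp
  have hpow : ∀ (n : ℕ), ∀ u ∈ Q, φ (g ^ n * u * (g ^ n)⁻¹) = l ^ n * φ u := by
    intro n u hu
    induction n with
    | zero => simp
    | succ n ih =>
      rw [show g ^ (n + 1) * u * (g ^ (n + 1))⁻¹ = g * (g ^ n * u * (g ^ n)⁻¹) * g⁻¹ by group,
        hm.conj _ (h.normal.conj_mem _ hu _), ih, pow_succ', mul_assoc]
  have hu1 : φ u0 = 1 := e.injective (by rw [hφ _ hu0, he1])
  refine ⟨F, inferInstance, inferInstance, l, φ, hm, orderOf_eq_prime ?_ ?_, ?_, fun X hX => ?_⟩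
  · have := hpow q u0 hu0
    rw [← pow_cent h u0 hu0, mul_inv_cancel_right, hu1, mul_one] at this
    exact this.symm
  · rintro rfl
    apply h0
    have h1 := hm.add _ (mul_mem (h.normal.conj_mem _ hu0 g) (inv_mem hu0)) _ hu0
    rw [inv_mul_cancel_right, hm.conj _ hu0, one_mul, right_eq_add] at h1
    exact (hm.zero _ (mul_mem (h.normal.conj_mem _ hu0 g) (inv_mem hu0))).1 h1
  · obtain ⟨k, hk⟩ := h.pgroup ⟨u0, hu0⟩
    have h1 : u0 ^ p ^ k = 1 := congrArg Subtype.val hk
    refine eq_zero_of_pow_eq_zero (n := k) (e.injective ?_)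
    rw [← Nat.cast_pow, ← nsmul_one, map_nsmul, map_zero, he1]
    refine Subtype.ext ?_
    change π u0 ^ p ^ k = 1
    rw [← map_pow, h1, map_one]
  · rcases hirr' (X.map e.toAddMonoidHom) (by
      rintro _ ⟨v, hv, rfl⟩
      exact ⟨l * v, hX v hv, (hl' v).symm⟩) with h | h
    · left
      exact (AddSubgroup.map_eq_bot_iff_of_injective _ e.injective).mp h
    · right
      rw [eq_top_iff]
      intro v _
      obtain ⟨w, hw, hwv⟩ := h.ge (AddSubgroup.mem_top (e v))
      rwa [← e.injective hwv]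

theorem ringHom_frob {F : Type*} [Field F] [Fintype F] [CharP F p] {a : ℕ}
    (hF : Fintype.card F = p ^ a) (σ : F →+* F) : ∃ i < a, ∀ x, σ x = x ^ p ^ i := by
  letI : Algebra (ZMod p) F := ZMod.algebra F p
  let τ : F →ₐ[ZMod p] F := { σ with
    commutes' := fun r => congrFun (congrArg DFunLike.coe (RingHom.ext_zmod
      (σ.comp (algebraMap (ZMod p) F)) (algebraMap (ZMod p) F))) r }
  obtain ⟨n, hn⟩ := (FiniteField.bijective_frobeniusAlgHom_pow (ZMod p) F).2 τ
  have h1 := Module.card_eq_pow_finrank (K := ZMod p) (V := F)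
  rw [hF, ZMod.card] at h1
  refine ⟨n, (Nat.pow_right_injective hp.out.two_le h1) ▸ n.2, fun a => ?_⟩
  have := congrArg (fun f : F →ₐ[ZMod p] F => f a) hn
  simp only [AlgHom.coe_pow, FiniteField.coe_frobeniusAlgHom, pow_iterate, ZMod.card] at this
  exact this.symm

/-- Invariant alternating biadditive maps on the field. -/
theorem form_bound {F W : Type*} [Field F] [Fintype F] [AddCommGroup W] (hq : q.Prime)
    (hqp : q ≠ p) (hpF : (p : F) = 0)
    {l : F} (hl : orderOf l = q) (hirr : ∀ X : AddSubgroup F, (∀ v ∈ X, l * v ∈ X) → X = ⊥ ∨ X = ⊤)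
    (B : F →+ F →+ W) (h1 : ∀ x, B x x = 0) (h2 : ∀ x y, B (l * x) (l * y) = B x y)
    (h3 : B ≠ 0) : ∃ j, orderOf (p : ZMod q) = 2 * j ∧ ∃ β : F →+ W, Nat.card β.range ≤ p ^ j ∧
      ∀ x y, B x y ∈ β.range := by
  classical
  haveI := Fact.mk hq
  haveI : CharP F p := (CharP.charP_iff_prime_eq_zero hp.out).mpr hpF
  have hF := card_field_of_irred hp.out hpF hl hirr
  have hl0 : l ≠ 0 := by
    rintro rfl
    have := pow_orderOf_eq_one (0 : F)
    rw [hl, zero_pow hq.ne_zero] at this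
    exact zero_ne_one this
  have hlB : ∀ x y, B (l * x) y = B x (l⁻¹ * y) := fun x y => by
    rw [← h2 x, mul_inv_cancel_left₀ hl0]
  let I : AddSubgroup F :=
    { carrier := {c | ∃ c', ∀ x y, B (c * x) y = B x (c' * y)}
      zero_mem' := ⟨0, by simp⟩
      add_mem' := by
        rintro a b ⟨a', ha⟩ ⟨b', hb⟩
        exact ⟨a' + b', fun x y => by simp [add_mul, ha, hb]⟩
      neg_mem' := by
        rintro a ⟨a', ha⟩
        exact ⟨-a', fun x y => by simp [ha]⟩ }
  have hI : I = ⊤ := by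
    refine (hirr I ?_).resolve_left fun h => ?_
    · rintro c ⟨c', hc⟩
      exact ⟨c' * l⁻¹, fun x y => by rw [mul_assoc, hlB, hc, mul_assoc]⟩
    · exact one_ne_zero (h.le (show (1 : F) ∈ I from ⟨1, by simp⟩))
  choose s hs using fun c => (show ∃ c', ∀ x y, B (c * x) y = B x (c' * y) from
    hI.ge (AddSubgroup.mem_top c))
  have un : ∀ c d, (∀ x y, B x (c * y) = B x (d * y)) → c = d := by
    intro c d h
    by_contra hne
    apply h3
    ext x y
    have := h x ((c - d)⁻¹ * y)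
    rw [← sub_eq_zero, ← map_sub, ← sub_mul, mul_inv_cancel_left₀ (sub_ne_zero.2 hne)] at this
    simpa using this
  let σ : F →+* F :=
    { toFun := s
      map_one' := un _ _ fun x y => by rw [← hs, one_mul, one_mul]
      map_mul' := fun a b => un _ _ fun x y => by
        rw [← hs, mul_assoc, hs, hs, mul_left_comm, mul_assoc]
      map_zero' := un _ _ fun x y => by rw [← hs]; simp
      map_add' := fun a b => un _ _ fun x y => by rw [← hs]; simp [add_mul, hs] }
  obtain ⟨j, hj, hσ⟩ := ringHom_frob hF σ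
  have hσ' : ∀ x, s x = x ^ p ^ j := hσ
  have h4 : l ^ p ^ j = l⁻¹ := by
    rw [← hσ']
    exact un _ _ fun x y => by rw [← hs, hlB]
  have h5 : (p : ZMod q) ^ j = -1 := by
    have : q ∣ p ^ j + 1 := by
      rw [← hl, orderOf_dvd_iff_pow_eq_one, pow_succ, h4, inv_mul_cancel₀ hl0]
    have := (ZMod.natCast_eq_zero_iff _ q).2 this
    push_cast at this
    exact eq_neg_of_add_eq_zero_left this
  have h6 : orderOf (p : ZMod q) ∣ 2 * j := orderOf_dvd_of_pow_eq_one (by
    rw [pow_mul', h5]; simp)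
  have hB : ∀ x y, B x y = B 1 (s x * y) := fun x y => by rw [← hs, mul_one]
  have htr : ∀ y, B 1 (y + s y) = 0 := fun y => by
    have := h1 (1 + y)
    simp only [map_add, AddMonoidHom.add_apply, h1] at this
    rw [hB y, mul_one] at this
    simpa [add_comm] using this
  have hj0 : j ≠ 0 := by
    rintro rfl
    apply h3
    ext x y
    have h7 : (2 : F) ≠ 0 := fun h => by
      have h8 : q = 2 := by
        have : ((2 : ℕ) : ZMod q) = 0 := by
          rw [pow_zero] at h5
          push_cast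
          linear_combination h5
        exact (Nat.prime_dvd_prime_iff_eq hq Nat.prime_two).1
          ((ZMod.natCast_eq_zero_iff _ q).1 this)
      have h9 : p ∣ 2 := (CharP.cast_eq_zero_iff F p 2).1 (by exact_mod_cast h)
      exact hqp (h8.trans ((Nat.prime_dvd_prime_iff_eq hp.out Nat.prime_two).1 h9).symm)
    have := htr (s x * y / 2)
    rw [hσ' (_ / 2), pow_zero, pow_one, show s x * y / 2 + s x * y / 2 = s x * y by
      field_simp; ring] at this
    simpa [hB x y] using this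
  refine ⟨j, ?_, B 1, ?_, fun x y => ⟨_, (hB x y).symm⟩⟩
  · obtain ⟨c, hc⟩ := h6
    have : c = 1 := by
      rcases c with _ | _ | c
      · omega
      · rfl
      · nlinarith
    rw [hc, this, mul_one]
  · let τ : F →+ F := AddMonoidHom.id F + σ.toAddMonoidHom
    have e1 := AddSubgroup.card_eq_card_quotient_mul_card_addSubgroup (B 1).ker
    have e2 := AddSubgroup.card_eq_card_quotient_mul_card_addSubgroup τ.ker
    rw [Nat.card_congr (QuotientAddGroup.quotientKerEquivRange _).toEquiv] at e1 e2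
    have e3 : Nat.card τ.range ≤ Nat.card (B 1).ker := AddSubgroup.card_le_of_le (by
      rintro _ ⟨y, rfl⟩
      exact htr y)
    have e4 : Nat.card τ.ker ≤ p ^ j := by
      have hlt : 1 < p ^ j := Nat.one_lt_pow hj0 hp.out.one_lt
      have hd : (X ^ p ^ j + X : F[X]).natDegree = p ^ j := by
        rw [natDegree_add_eq_left_of_natDegree_lt] <;> simp [hlt]
      have := card_le_degree_of_subset_roots (p := (X ^ p ^ j + X : F[X]))
        (Z := (τ.ker : Set F).toFinset) (by
        intro y hy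
        rw [mem_roots (by intro h; rw [h] at hd; simp at hd; omega)]
        have : y + s y = 0 := (show τ y = 0 by simpa using hy)
        rw [hσ'] at this
        simp [add_comm, this])
      rwa [hd, Set.toFinset_card, ← Nat.card_eq_fintype_card] at this
    have e5 : 0 < Nat.card τ.range := Nat.card_pos
    refine le_trans (Nat.le_of_mul_le_mul_left ?_ e5) e4
    rw [← e2, e1, mul_comm]
    exact Nat.mul_le_mul_left _ e3

theorem Md.one {K : Type*} [Field K] {l : K} {φ : G → K} (h : Md Q g l φ) : φ 1 = 0 :=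
  (h.zero 1 (one_mem _)).2 (one_mem _)

theorem Md.inv {K : Type*} [Field K] {l : K} {φ : G → K} (h : Md Q g l φ) {u : G} (hu : u ∈ Q) :
    φ u⁻¹ = -φ u := by
  have := h.add u hu _ (inv_mem hu)
  rw [mul_inv_cancel, h.one] at this
  linear_combination -this

theorem Md.eq {K : Type*} [Field K] {l : K} {φ : G → K} (h : Md Q g l φ) {u v : G} (hu : u ∈ Q)
    (hv : v ∈ Q) (e : φ u = φ v) : ∃ z ∈ center G, u = v * z :=
  ⟨v⁻¹ * u, (h.zero _ (mul_mem (inv_mem hv) hu)).1 (by
    rw [h.add _ (inv_mem hv) _ hu, h.inv hv, e, neg_add_cancel]), by group⟩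

theorem Md.pow [Q.Normal] {K : Type*} [Field K] {l : K} {φ : G → K} (h : Md Q g l φ) (n : ℕ) :
    Md Q (g ^ n) (l ^ n) φ := by
  refine ⟨h.add, h.surj, h.zero, fun u hu => ?_⟩
  induction n with
  | zero => simp
  | succ n ih =>
    rw [show g ^ (n + 1) * u * (g ^ (n + 1))⁻¹ = g * (g ^ n * u * (g ^ n)⁻¹) * g⁻¹ by group,
      h.conj _ (Normal.conj_mem inferInstance _ hu _), ih, pow_succ', mul_assoc]

theorem Md.card {K : Type*} [Field K] {l : K} {φ : G → K} (h : Md Q g l φ) :
    Nat.card Q = Nat.card K * Nat.card (Q ⊓ center G : Subgroup G) := by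
  let f : Q →* Multiplicative K := MonoidHom.mk' (fun u => Multiplicative.ofAdd (φ u))
    fun a b => h.add _ a.2 _ b.2
  have h1 : Function.Surjective f := fun c => by
    obtain ⟨u, hu, e⟩ := h.surj c.toAdd
    exact ⟨⟨u, hu⟩, e⟩
  have h2 : f.ker = (Q ⊓ center G).subgroupOf Q := by
    ext u
    rw [mem_subgroupOf, mem_inf, and_iff_right u.2, ← h.zero _ u.2]
    rfl
  rw [card_eq_card_quotient_mul_card_subgroup f.ker,
    Nat.card_congr (QuotientGroup.quotientKerEquivOfSurjective f h1).toEquiv, h2,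
    Nat.card_congr (subgroupOfEquivOfLe inf_le_left).toEquiv]
  rfl

theorem center_le (h : MinNPC p q Q g) : Q ⊓ center G ≤ ⁅Q, Q⁆ := by
  haveI := h.normal
  let π := QuotientGroup.mk' ⁅Q, Q⁆
  have hπ : ∀ x, π x = 1 ↔ x ∈ ⁅Q, Q⁆ := fun x => QuotientGroup.eq_one_iff x
  have hc : ∀ a ∈ Q, ∀ b ∈ Q, π a * π b = π b * π a := fun a ha b hb =>
    commutatorElement_eq_one_iff_mul_comm.1 (by
      rw [← map_commutatorElement, hπ]; exact commutator_mem_commutator ha hb)
  let f : Q →* G ⧸ ⁅Q, Q⁆ := MonoidHom.mk' (fun u => π (g * u * g⁻¹ * (u : G)⁻¹)) fun a b => by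
    have e := hc _ (inv_mem a.2) _ (mul_mem (h.normal.conj_mem _ b.2 g) (inv_mem b.2))
    rw [show g * ((a * b : Q) : G) * g⁻¹ * ((a * b : Q) : G)⁻¹ =
      g * a * g⁻¹ * (g * b * g⁻¹ * (b : G)⁻¹ * (a : G)⁻¹) by simp only [Subgroup.coe_mul]; group,
      map_mul, map_mul π _ (a : G)⁻¹, ← e, map_mul π _ (a : G)⁻¹, ← mul_assoc]
  have hf : ∀ u : Q, f u = π (g * u * g⁻¹ * (u : G)⁻¹) := fun u => rfl
  let R := f.range.comap π ⊓ Q
  haveI : R.Normal := normal_of h (le_inf (fun x hx => by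
      rw [mem_comap, (hπ x).2 hx]; exact one_mem _) (commutator_le_left _ _)) inf_le_right (by
    rintro b ⟨⟨c, e⟩, hb⟩
    refine ⟨⟨⟨_, h.normal.conj_mem _ c.2 g⟩, ?_⟩, h.normal.conj_mem _ hb _⟩
    rw [hf] at e ⊢
    rw [map_mul π _ g⁻¹, map_mul π g b, ← e, ← map_mul, ← map_mul]
    congr 1
    group)
  have h1 : R = Q := h.eq_of_not_le_center inf_le_right fun hc => not_triv h fun u hu =>
    hc ⟨⟨⟨u, hu⟩, rfl⟩, Q.mul_mem (h.normal.conj_mem _ hu _) (Q.inv_mem hu)⟩
  let f0 : Q →* G ⧸ ⁅Q, Q⁆ := π.comp Q.subtype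
  have h2 : f0.range ≤ f.range := by
    rintro _ ⟨u, rfl⟩
    exact (h1.ge u.2).1
  have h3 : f0.ker ≤ f.ker := fun u hu => by
    rw [MonoidHom.mem_ker] at hu ⊢
    have : π u = 1 := hu
    simp [hf, this]
  have e1 := card_eq_card_quotient_mul_card_subgroup f.ker
  have e2 := card_eq_card_quotient_mul_card_subgroup f0.ker
  rw [Nat.card_congr (QuotientGroup.quotientKerEquivRange _).toEquiv] at e1 e2
  have e3 := card_le_of_le h2
  have h4 : f0.ker = f.ker := eq_of_le_of_card_ge h3 (by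
    have e5 : 0 < Nat.card f0.range := Nat.card_pos
    refine Nat.le_of_mul_le_mul_left ?_ e5
    rw [← e2, e1]
    exact Nat.mul_le_mul_right _ e3)
  rintro z ⟨hz, hz'⟩
  have h5 : (⟨z, hz⟩ : Q) ∈ f.ker := by
    rw [MonoidHom.mem_ker, hf]
    change π (g * z * g⁻¹ * z⁻¹) = 1
    rw [mem_center_iff.1 hz' g]
    simp
  exact (hπ z).1 (h4.ge h5)

open scoped IsMulCommutative in
theorem card_le (h : MinNPC p q Q g) {a : ℕ} (ha : a = orderOf (p : ZMod q)) :
    Nat.card Q ≤ p ^ (if a % 2 = 1 then a else 3 * a / 2) := by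
  haveI := h.normal
  haveI := Fact.mk h.prime
  obtain ⟨F, _, _, l, φ, hm, hl, hpF, hirr⟩ := exists_md h
  have hF := card_field_of_irred hp.out hpF hl hirr
  choose s hs1 hs2 using hm.surj
  have hc : ∀ u ∈ Q, ∀ v ∈ Q, ⁅u, v⁆ ∈ center G := fun u hu v hv =>
    h.commutator_le_center (commutator_mem_commutator hu hv)
  have hcs : ∀ u ∈ Q, ∀ v ∈ Q, ⁅u, v⁆ = ⁅s (φ u), s (φ v)⁆ := fun u hu v hv => by
    obtain ⟨z, hz, e⟩ := hm.eq hu (hs1 _) (hs2 _).symm
    obtain ⟨w, hw, e'⟩ := hm.eq hv (hs1 _) (hs2 _).symm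
    generalize s (φ u) = x at *
    generalize s (φ v) = y at *
    have h1 := mem_center_iff.1 hz
    have h2 := mem_center_iff.1 hw
    rw [e, e', commutatorElement_def, commutatorElement_def, mul_inv_rev, mul_inv_rev,
      show x * z * (y * w) * (z⁻¹ * x⁻¹) * (w⁻¹ * y⁻¹) =
        x * (z * (y * w) * z⁻¹) * x⁻¹ * (w⁻¹ * y⁻¹) by group, ← h1, mul_inv_cancel_right,
      show x * (y * w) * x⁻¹ * (w⁻¹ * y⁻¹) = x * y * (w * x⁻¹ * w⁻¹) * y⁻¹ by group, ← h2,
      mul_inv_cancel_right]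
  let B0 : F → F → Additive (center G) := fun x y =>
    Additive.ofMul ⟨⁅s x, s y⁆, hc _ (hs1 _) _ (hs1 _)⟩
  have l1 : ∀ x x' y, B0 (x + x') y = B0 x y + B0 x' y := fun x x' y => Subtype.ext (by
    have e := hcs _ (mul_mem (hs1 x) (hs1 x')) _ (hs1 y)
    rw [hm.add _ (hs1 _) _ (hs1 _), hs2, hs2, hs2] at e
    change ⁅s (x + x'), s y⁆ = ⁅s x, s y⁆ * ⁅s x', s y⁆
    rw [← e, show ⁅s x * s x', s y⁆ = s x * ⁅s x', s y⁆ * (s x)⁻¹ * ⁅s x, s y⁆ by group,
      mem_center_iff.1 (hc _ (hs1 x') _ (hs1 y)), mul_inv_cancel_right,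
      mem_center_iff.1 (hc _ (hs1 x') _ (hs1 y))])
  have l2 : ∀ x y y', B0 x (y + y') = B0 x y + B0 x y' := fun x y y' => Subtype.ext (by
    have e := hcs _ (hs1 x) _ (mul_mem (hs1 y) (hs1 y'))
    rw [hm.add _ (hs1 _) _ (hs1 _), hs2, hs2, hs2] at e
    change ⁅s x, s (y + y')⁆ = ⁅s x, s y⁆ * ⁅s x, s y'⁆
    rw [← e, show ⁅s x, s y * s y'⁆ = ⁅s x, s y⁆ * (s y * ⁅s x, s y'⁆ * (s y)⁻¹) by group,
      mem_center_iff.1 (hc _ (hs1 x) _ (hs1 y')), mul_inv_cancel_right])
  let B : F →+ F →+ Additive (center G) := AddMonoidHom.mk' (fun x => AddMonoidHom.mk' (B0 x) (l2 x))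
    fun x x' => AddMonoidHom.ext fun y => l1 x x' y
  have hB : ∀ x y, ((B x y).toMul : G) = ⁅s x, s y⁆ := fun x y => rfl
  have key : ∀ β : F →+ Additive (center G), (∀ x y, B x y ∈ β.range) →
      Nat.card Q ≤ p ^ a * Nat.card β.range := by
    intro β hβ
    rw [hm.card, Nat.card_eq_fintype_card, hF, ← ha]
    refine Nat.mul_le_mul_left _ ((card_le_of_le (K := (AddSubgroup.toSubgroup' β.range).map
      (center G).subtype) ((center_le h).trans (commutator_le.2 fun u hu v hv => ?_))).trans ?_)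
    · exact ⟨_, hβ (φ u) (φ v), (hB _ _).trans (hcs u hu v hv).symm⟩
    · rw [card_map_of_injective (center G).subtype_injective]
      rfl
  by_cases h0 : B = 0
  · have := key 0 (fun x y => by rw [h0]; exact zero_mem _)
    rw [show (0 : F →+ Additive (center G)).range = ⊥ from AddMonoidHom.range_zero,
      AddSubgroup.card_bot, mul_one] at this
    refine this.trans (Nat.pow_le_pow_right hp.out.pos ?_)
    split_ifs <;> omega
  · obtain ⟨j, hj, β, h1, h2⟩ := form_bound h.prime h.ne hpF hl hirr B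
      (fun x => Subtype.ext (commutatorElement_self _)) (fun x y => Subtype.ext (by
        have e := hcs _ (h.normal.conj_mem _ (hs1 x) g) _ (h.normal.conj_mem _ (hs1 y) g)
        rw [hm.conj _ (hs1 _), hm.conj _ (hs1 _), hs2, hs2] at e
        change ⁅s (l * x), s (l * y)⁆ = ⁅s x, s y⁆
        rw [← e, ← conjugate_commutatorElement, mem_center_iff.1 (hc _ (hs1 x) _ (hs1 y)),
          mul_inv_cancel_right])) h0
    refine (key β h2).trans ((Nat.mul_le_mul_left _ h1).trans ?_)
    rw [← pow_add, if_neg (by omega)]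
    exact Nat.pow_le_pow_right hp.out.pos (by omega)

end Cfsg.Agent.SpcSchm
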