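import Mathlib
import Cfsg.Agent.Spc.VnB
import Cfsg.Agent.Transfer.Residual
import Cfsg.Agent.S0012
import Cfsg.Agent.S0033
import Cfsg.Agent.S0081
import Cfsg.Agent.S0205
import Cfsg.Agent.S2904

/-! Solvability of groups in which `G' ∖ K` is one class and `G/K` is Camina over `G'/K`. -/

set_option autoImplicit false

namespace Cfsg.Agent.Spc.Vn

open Subgroup Cfsg.Agent.PGrp QuotientGroup
open scoped commutatorElement

variable {G : Type*} [Group G] [Finite G]

theorem conj_onto {S D : Subgroup G} {x : G} (h : ∀ s ∈ S, x⁻¹ * (s * x * s⁻¹) ∈ D)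
    (hc : Nat.card D ≤ (centralizer ({x} : Set G)).relIndex S) : ∀ d ∈ D, ∃ s ∈ S, s * x * s⁻¹ = x * d := by
  let f : S ⧸ (centralizer ({x} : Set G)).subgroupOf S → D := fun c => ⟨x⁻¹ * (c.out * x * (c.out : G)⁻¹), h _ c.out.2⟩
  have a : Function.Injective f := fun c c' e => by
    have e' : x⁻¹ * (c.out * x * (c.out : G)⁻¹) = x⁻¹ * (c'.out * x * (c'.out : G)⁻¹) := congrArg Subtype.val e
    rw [← c.out_eq', ← c'.out_eq', QuotientGroup.eq, mem_subgroupOf, mem_centralizer_singleton_iff]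
    simp only [coe_mul, coe_inv]
    calc (c.out : G)⁻¹ * c'.out * x = (c.out : G)⁻¹ * x * (x⁻¹ * (c'.out * x * (c'.out : G)⁻¹)) * c'.out := by group
      _ = _ := by rw [← e']; group
  intro d i
  obtain ⟨c, e⟩ := (a.bijective_of_nat_card_le hc).2 ⟨d, i⟩
  exact ⟨_, c.out.2, by rw [← show _ = d from congrArg Subtype.val e]; simp [f]⟩

theorem solv_of_fpf {p : ℕ} [hp : Fact p.Prime] {K : Subgroup G} [K.Normal] (h : HasNormalPComplement p K)
    (hy : p = 2 ∨ ∃ y : G, y ^ p = 1 ∧ IsPGroup p (centralizer ({y} : Set G))) : Group.IsSolvable K := by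
  have a : Group.IsSolvable (pResidual p K) := by
    rcases hy with rfl | ⟨y, y1, y2⟩
    · exact S0205.result (Nat.not_even_iff_odd.mp fun e => Transfer.hasNormalPComplement_iff_not_dvd.mp h e.two_dvd)
    set L := (pResidual p K).map K.subtype
    refine Core.solvable_of_mulEquiv ((pResidual p K).equivMapOfInjective _ K.subtype_injective).symm ?_
    have n : y ∈ normalizer (L : Set G) := Core.normalizer_le_normalizer_map_subtype K _ (le_normalizer_of_normal (mem_top y))
    let φ : MulAut L := L.normalizerMonoidHom ⟨y, n⟩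
    have f : ∀ x : L, φ x = x → x = 1 := fun x e => by
      have e' : y * x * y⁻¹ = x := congrArg Subtype.val e
      obtain ⟨k, i⟩ := IsPGroup.iff_orderOf.mp y2 ⟨x, mem_centralizer_singleton_iff.mpr (mul_inv_eq_iff_eq_mul.mp e').symm⟩
      obtain ⟨u, j, l⟩ := x.2
      have o := (Transfer.mem_pResidual_iff_coprime h).mp j
      rw [← orderOf_coe, show (u : G) = x from l] at o
      rw [← orderOf_coe] at i
      exact Subtype.ext (orderOf_eq_one_iff.mp (Nat.eq_one_of_dvd_coprimes (o.pow_right k) dvd_rfl i.dvd))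
    have e : φ ^ p = 1 := by
      rw [← map_pow, show (⟨y, n⟩ : normalizer (L : Set G)) ^ p = 1 from Subtype.ext y1, map_one]
    by_cases o : φ = 1
    · exact Group.isSolvable_of_comm fun a b => by rw [f a (by rw [o]; rfl), f b (by rw [o]; rfl)]
    have := S0033.result φ f p hp.out (orderOf_eq_prime e o)
    infer_instance
  have := Core.solvable_of_isPGroup (Transfer.isPGroup_quotient_pResidual (G := K) (p := p))
  exact Group.isSolvable_of_ker_le_range (pResidual p K).subtype (mk' (pResidual p K)) (by simp)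

/-- the configuration in the group itself -/
structure GH (K : Subgroup G) [K.Normal] (g : G) : Prop where
  le : K ≤ commutator G
  mem : g ∈ commutator G
  ne : g ∉ K
  cl : ∀ m ∈ commutator G, m ∉ K → IsConj g m
  cam : ∀ y, y ∉ commutator G → ∀ m ∈ commutator G, IsConj (y : G ⧸ K) (y * m)

namespace GH

variable {K : Subgroup G} [K.Normal] {g : G} (h : GH K g)
include h

omit [Finite G] in
theorem mem_iff {x : G} : (x : G ⧸ K) ∈ commutator (G ⧸ K) ↔ x ∈ commutator G := by
  have : commutator (G ⧸ K) = (commutator G).map (mk' K) := by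
    rw [commutator_def, commutator_def, map_commutator, map_top_of_surjective _ (mk'_surjective K)]
  rw [this]
  refine ⟨fun ⟨y, i, e⟩ => ?_, fun i => ⟨x, i, rfl⟩⟩
  simpa using mul_mem i (h.le (QuotientGroup.eq.mp e))

omit [Finite G] in
theorem qh : QH (g : G ⧸ K) where
  mem := h.mem_iff.mpr h.mem
  ne := fun e => h.ne ((eq_one_iff g).mp e)
  cl := fun m i j => by
    obtain ⟨m, rfl⟩ := mk_surjective m
    exact (mk' K).map_isConj (h.cl m (h.mem_iff.mp i) fun e => j ((eq_one_iff m).mpr e))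
  cam := fun y i m j => by
    obtain ⟨m, rfl⟩ := mk_surjective m
    obtain ⟨y, rfl⟩ := mk_surjective y
    exact h.cam y (fun e => i (h.mem_iff.mpr e)) m (h.mem_iff.mp j)

theorem card_cen {x : G} (hx : x ∈ commutator G) (hK : x ∉ K) :
    Nat.card (centralizer ({x} : Set G)) = Nat.card (centralizer (commutator (G ⧸ K) : Set (G ⧸ K))) := by
  rw [← Char.card_centralizer_eq_of_isConj (h.cl x hx hK)]
  have a := index_add h.le (g := g) fun x => ⟨fun i => by
    obtain ⟨c, rfl⟩ := isConj_iff.mp i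
    exact ⟨Normal.conj_mem inferInstance g h.mem c, fun e => h.ne (by simpa [mul_assoc] using Normal.conj_mem' ‹_› _ e c)⟩,
    fun i => h.cl x i.1 i.2⟩
  have b := Core.card_comap_mk' K (commutator (G ⧸ K))
  rw [show (commutator (G ⧸ K)).comap (mk' K) = commutator G from ext fun x => h.mem_iff, ← h.qh.idx, ← a, mul_add,
    mul_one, Nat.add_right_cancel_iff] at b
  have c := card_mul_index (centralizer ({g} : Set G))
  have d := card_mul_index (centralizer (commutator (G ⧸ K) : Set (G ⧸ K)))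
  rw [b, card_eq_card_quotient_mul_card_subgroup K, ← d] at c
  refine Nat.eq_of_mul_eq_mul_right (Nat.mul_pos (Nat.card_pos (α := K)) (Nat.pos_of_ne_zero
    (index_ne_zero_of_finite (H := centralizer (commutator (G ⧸ K) : Set (G ⧸ K)))))) ?_
  rw [c]; ring

theorem pg_cen {x : G} (hx : x ∈ commutator G) (hK : x ∉ K) :
    IsPGroup (orderOf (g : G ⧸ K)) (centralizer ({x} : Set G)) := by
  have := Fact.mk h.qh.prime
  rw [IsPGroup.iff_card, h.card_cen hx hK]
  exact IsPGroup.iff_card.mp h.qh.pgC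

theorem map_eq [Fact (orderOf (g : G ⧸ K)).Prime] (S : Sylow (orderOf (g : G ⧸ K)) G) :
    (S : Subgroup G).map (mk' K) = centralizer (commutator (G ⧸ K) : Set (G ⧸ K)) := by
  refine le_antisymm (Core.le_of_coprime_index ?_) (h.qh.pgC.le_sylow_of_normal (S.mapSurjective (mk'_surjective K)))
  obtain ⟨k, e⟩ := IsPGroup.iff_card.mp (S.isPGroup'.map (mk' K))
  rw [e]
  exact ((Nat.Prime.coprime_iff_not_dvd h.qh.prime).mpr h.qh.ndvd).pow_left k

theorem relIndex_eq [Fact (orderOf (g : G ⧸ K)).Prime] (S : Sylow (orderOf (g : G ⧸ K)) G) :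
    (K ⊓ S).relIndex S = Nat.card (centralizer (commutator (G ⧸ K) : Set (G ⧸ K))) := by
  rw [← h.map_eq S, inf_relIndex_right, ← relIndex_ker, ker_mk']

theorem cam_syl [Fact (orderOf (g : G ⧸ K)).Prime] (S : Sylow (orderOf (g : G ⧸ K)) G) {x : G}
    (hS : x ∈ (S : Subgroup G)) (hx : x ∈ commutator G) (hK : x ∉ K) :
    ∀ d ∈ K ⊓ S, ∃ s ∈ (S : Subgroup G), s * x * s⁻¹ = x * d := by
  refine conj_onto (fun s i => mem_inf.mpr ⟨?_, mul_mem (inv_mem hS) (mul_mem (mul_mem i hS) (inv_mem i))⟩) ?_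
  · have a : (x : G ⧸ K) * s = s * x := (h.map_eq S).le ⟨s, i, rfl⟩ _ (h.mem_iff.mpr hx)
    rw [← eq_one_iff]
    simp [← a]
  have a := card_inf_mul_relIndex (centralizer ({x} : Set G)) S
  have b := card_inf_mul_relIndex K S
  rw [← inf_relIndex_right, h.relIndex_eq S, ← h.card_cen hx hK, ← a] at b
  have c : Nat.card ↥(centralizer ({x} : Set G) ⊓ S) ≤ Nat.card (centralizer ({x} : Set G)) := card_le_of_le inf_le_left
  refine Nat.le_of_mul_le_mul_right ?_ (Nat.card_pos (α := centralizer ({x} : Set G)))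
  rw [b, mul_comm]
  exact Nat.mul_le_mul_left _ c

theorem npc [Fact (orderOf (g : G ⧸ K)).Prime] : HasNormalPComplement (orderOf (g : G ⧸ K)) K := by
  obtain ⟨S, hS⟩ := (h.pg_cen h.mem h.ne).exists_le_sylow
  have a : g ∈ (S : Subgroup G) := hS (mem_centralizer_singleton_iff.mpr rfl)
  refine S0081.result S K fun d i => ?_
  obtain ⟨s, s1, s2⟩ := h.cam_syl S a h.mem h.ne d i
  refine ⟨⁅(⟨g, a⟩⁻¹ : (S : Subgroup G)), ⟨s, s1⟩⁆, (S0012.result _ S.isPGroup').1 (cmem _ _), ?_⟩
  simp only [commutatorElement_def, coe_subtype, coe_mul, coe_inv, inv_inv]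
  rw [eq_inv_mul_of_mul_eq s2.symm]; group

theorem exists_ord [hp : Fact (orderOf (g : G ⧸ K)).Prime] (h2 : orderOf (g : G ⧸ K) ≠ 2) :
    ∃ y : G, y ^ orderOf (g : G ⧸ K) = 1 ∧ IsPGroup (orderOf (g : G ⧸ K)) (centralizer ({y} : Set G)) := by
  obtain ⟨S⟩ : Nonempty (Sylow (orderOf (g : G ⧸ K)) G) := inferInstance
  obtain ⟨k, k0, hk⟩ := h.qh.card
  have c := h.qh.cen_self h2
  have sM : (S : Subgroup G) ≤ commutator G := fun s i => h.mem_iff.mp (c.le ((h.map_eq S).le ⟨s, i, rfl⟩))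
  have pc : PC (orderOf (g : G ⧸ K)) k S (K ⊓ S) :=
    { pg := S.isPGroup'
      le := inf_le_right
      idx := by rw [h.relIndex_eq S, c, hk]
      k0 := k0
      com := fun a i b j => mem_inf.mpr ⟨(eq_one_iff _).mp (by
        rw [← mk'_apply, map_commutatorElement]
        exact commutatorElement_eq_one_iff_commute.mpr (h.qh.comm (h.mem_iff.mpr (sM i)) (h.mem_iff.mpr (sM j)))),
        mul_mem (mul_mem (mul_mem i j) (inv_mem i)) (inv_mem j)⟩
      pw := fun a i => mem_inf.mpr ⟨(eq_one_iff _).mp (by rw [mk_pow]; exact h.qh.pw (h.mem_iff.mpr (sM i))), pow_mem i _⟩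
      cen := fun x i j => by rw [h.card_cen (sM i) fun e => j ⟨e, i⟩, c, hk]
      cam := fun x i j => h.cam_syl S i (sM i) fun e => j ⟨e, i⟩ }
  suffices ∃ y ∈ (S : Subgroup G), y ∉ K ⊓ S ∧ y ^ orderOf (g : G ⧸ K) = 1 by
    obtain ⟨y, y1, y2, y3⟩ := this
    exact ⟨y, y3, h.pg_cen (sM y1) fun e => y2 ⟨e, y1⟩⟩
  by_cases k1 : k = 1
  · obtain ⟨x, x1, x2⟩ := pc.ex
    exact ⟨x, x1, x2, pc.ord_one k1 x1 x2⟩
  refine pc.ord_of_cen h2 ?_
  by_cases k2 : k = 2
  · exact pc.cen_two k2
  obtain ⟨r, r1, r2, r3⟩ := S2904.result _ k hp.out.one_lt (by omega) (fun i => h2 i.1) fun i => k2 i.1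
  have i1 : (commutator G).index = orderOf (g : G ⧸ K) ^ k - 1 := by
    rw [← hk, ← h.qh.idx, c, Nat.add_sub_cancel, ← index_comap_of_surjective _ (mk'_surjective K)]
    exact congrArg index (ext fun x => h.mem_iff.symm)
  have rp : r ≠ orderOf (g : G ⧸ K) := fun e => h.qh.ndvd (by
    rw [← e, c, ← index_comap_of_surjective _ (mk'_surjective K),
      show (commutator (G ⧸ K)).comap (mk' K) = commutator G from ext fun x => h.mem_iff, i1]
    exact r2)
  have := Fact.mk r1
  obtain ⟨⟨ρ, n⟩, e⟩ := exists_prime_orderOf_dvd_card' (G := normalizer ((S : Subgroup G) : Set G)) r (by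
    refine r2.trans (i1 ▸ ?_)
    rw [← relIndex_top_right, ← S.normalizer_sup_eq_top' sM, relIndex_sup_right]
    exact relIndex_dvd_card _ _)
  rw [← orderOf_coe] at e
  refine pc.cen_rho r1 e rp r3 n (mem_normalizer_of_conj_mem fun d i =>
    ⟨Normal.conj_mem ‹_› d i.1 ρ, conj_mem_of_mem_normalizer n i.2⟩) fun x i j => by_contra fun o => ?_
  obtain ⟨s, s1, s2⟩ := pc.cam x i o _ (conj_mem_of_mem_normalizer' (pc.nrm i) j)
  have a : s⁻¹ * ρ ∈ centralizer ({x} : Set G) := mem_centralizer_singleton_iff.mpr (by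
    rw [commutatorElement_def] at s2
    calc s⁻¹ * ρ * x = s⁻¹ * (x * (x⁻¹ * (ρ * x * ρ⁻¹ * x⁻¹) * x)) * ρ := by group
      _ = _ := by rw [← s2]; group)
  have b : centralizer ({x} : Set G) ≤ S := by
    refine inf_eq_left.mp (eq_of_le_of_card_le inf_le_left ?_)
    have u := card_inf_mul_relIndex (centralizer ({x} : Set G)) S
    rw [card_eq_card_mul_relIndex pc.le, pc.idx, ← pc.cen x i o] at u
    refine Nat.le_of_mul_le_mul_right ?_ (Nat.card_pos (α := ↥(K ⊓ S)))
    rw [mul_comm, ← u]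
    exact Nat.mul_le_mul_left _ (relIndex_centralizer_singleton_le fun s l => pc.com s l x i)
  obtain ⟨j, l⟩ := IsPGroup.iff_orderOf.mp S.isPGroup' ⟨ρ, by simpa using mul_mem s1 (b a)⟩
  rw [← orderOf_coe, e] at l
  exact rp ((Nat.prime_dvd_prime_iff_eq r1 hp.out).mp (r1.dvd_of_dvd_pow l.dvd))

theorem solv : Group.IsSolvable G := by
  have := Fact.mk h.qh.prime
  have := solv_of_fpf h.npc ((em _).imp_right h.exists_ord)
  have := h.qh.solv
  exact Group.isSolvable_of_ker_le_range K.subtype (mk' K) (by simp)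

end GH

end Cfsg.Agent.Spc.Vn
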