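import Cfsg.Agent.Spc.GnDef
import Cfsg.Agent.Push.Struct
import Cfsg.Agent.Push.Loc

/-! Abelian offenders in minimal parabolic groups. -/

namespace Cfsg.Agent.Spc.Gn

open Subgroup Cfsg.Agent.LocalEven Cfsg.Agent.PLocal Cfsg.Agent.Push
open Cfsg.Agent.Glaub hiding cent_anti
open Cfsg.Agent.Classical.SL2Basic Cfsg.Agent.Classical.Borel2
open scoped commutatorElement MatrixGroups

universe u

variable {G : Type u} [Group G] {p : ℕ} {V P A B C X Y T M L : Subgroup G}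
  {D : Set (Subgroup G)} {q : ℕ} [Finite G] [hp : Fact p.Prime]

theorem exists_minOff_ab (h : Mod p V P) (hP : IsPGroup p X) (hX : X ≤ P) (e : X ≤ 𝐂⟮X⟯)
    (h0 : X ≠ ⊥) (ho : Nat.card V ≤ Nat.card X * Nat.card ↥(V ⊓ 𝐂⟮X⟯)) :
    ∃ A ≤ X, MinOff p V A := by
  obtain ⟨Z, ⟨z1, z0⟩, hm⟩ := Set.exists_max_image {Z : Subgroup G | Z ≤ X ∧ Z ≠ ⊥}
    (fun Z => Nat.card Z * Nat.card ↥(V ⊓ 𝐂⟮Z⟯)) (Set.toFinite _) ⟨X, le_rfl, h0⟩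
  have o1 : Nat.card V ≤ Nat.card Z * Nat.card ↥(V ⊓ 𝐂⟮Z⟯) := ho.trans (hm X ⟨le_rfl, h0⟩)
  have hmax : ∀ B : Subgroup G, B ≤ Z → Nat.card B * Nat.card ↥(V ⊓ 𝐂⟮B⟯) ≤
      Nat.card Z * Nat.card ↥(V ⊓ 𝐂⟮Z⟯) := fun B hB => by
    by_cases hb : B = ⊥
    · subst hb
      rwa [centralizer_bot', inf_top_eq, card_bot, one_mul]
    · exact hm B ⟨hB.trans z1, hb⟩
  have nZ : Z ≤ 𝐍⟮V⟯ := (z1.trans hX).trans h.norm
  have cZ : Z ≤ 𝐂⟮Z⟯ := (z1.trans e).trans (cent_anti z1)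
  obtain ⟨e1, f1⟩ := Transfer.replacement h.comm nZ
    ((comm_bot_of_le_cent cZ).le.trans bot_le) hmax le_rfl
  have hQ : ⁅V, Z⁆ ≤ V := h.comm_le (z1.trans hX)
  have q1 : ⁅V, Z ⊓ 𝐂⟮⁅V, Z⁆⟯⁆ ≤ 𝐂⟮Z ⊓ 𝐂⟮⁅V, Z⁆⟯⟯ :=
    (commutator_mono le_rfl inf_le_left).trans (le_cent_comm inf_le_right)
  have n0 : Z ⊓ 𝐂⟮⁅V, Z⁆⟯ ≠ ⊥ := fun h0' => by
    rw [h0', centralizer_bot', inf_top_eq] at e1
    have h1 : ⁅V, Z⁆ ≠ ⊥ := fun h1 => z0 (eq_bot_iff.2 ((le_inf (z1.trans hX)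
      (le_cent_comm (le_cent_of_comm_bot h1))).trans h.faith.le))
    refine (Core.commutator_lt_of_isPGroup ((isPGroup_of_elemAb h.ea).to_le hQ) (hP.to_le z1)
      (Core.le_normalizer_commutator nZ le_normalizer) h1).not_ge ?_
    conv_lhs => rw [e1]
    rw [Transfer.commutator_sup_left_of_comm h.comm hQ inf_le_left nZ,
      commutator_eq_bot_iff_le_centralizer.mpr (inf_le_right : V ⊓ _ ≤ _), sup_bot_eq]
  obtain ⟨A, a1, m, -⟩ := exists_minOff (V := V)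
    (h.ea_of_stab (inf_le_left.trans (z1.trans hX)) q1) n0 (by rw [e1, ← f1]; exact o1)
  exact ⟨A, a1.trans (inf_le_left.trans z1), m⟩

theorem split_ab (h : MinPar p V P T M) (hD : TvSet p V P D q) (hA : A ∈ D) (hX : X ≤ T)
    (e : X ≤ 𝐂⟮X⟯) (hAX : A ≤ X) (hB : B ∈ D) (hBM : ¬ B ≤ M) (hc : ¬ A ≤ 𝐂⟮B⟯) :
    X ≤ A ⊔ (X ⊓ (𝐂⟮A ⊔ B⟯ ⊓ 𝐂⟮⁅V, A ⊔ B⁆⟯)) ∧
      Nat.card X ≤ q * Nat.card ↥(X ⊓ (𝐂⟮A ⊔ B⟯ ⊓ 𝐂⟮⁅V, A ⊔ B⁆⟯)) := by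
  have t : X ≤ A ⊔ (X ⊓ (𝐂⟮A ⊔ B⟯ ⊓ 𝐂⟮⁅V, A ⊔ B⁆⟯)) := fun x hx => by
    obtain ⟨a, ha, e'⟩ := (h.star hD hA).1.exists_dec hD hA (hAX.trans hX) hB hBM hc (hX hx)
      (cent_anti hAX (e hx))
    simpa using mul_mem (mem_sup_left ha) (mem_sup_right (S := A)
      (mem_inf.2 ⟨mul_mem (inv_mem (hAX ha)) hx, e'⟩))
  exact ⟨t, (card_le_of_le t).trans (hD.card A hA ▸ Nat.le_of_dvd (Nat.mul_pos Nat.card_pos
    Nat.card_pos) (Core.card_sup_dvd (inf_le_left.trans (e.trans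
      ((cent_anti hAX).trans (centralizer_le_normalizer _))))))⟩

theorem le_wJ_ab (h : MinPar p V P T M) (hD : TvSet p V P D q) (hA : A ∈ D) (hXT : X ≤ T)
    (e : X ≤ 𝐂⟮X⟯) (ho : Nat.card V ≤ Nat.card X * Nat.card ↥(V ⊓ 𝐂⟮X⟯)) :
    X ≤ wJ D X := by
  induction hn : Nat.card X using Nat.strong_induction_on generalizing X with
  | _ n ih =>
  by_cases h0 : X = ⊥
  · rw [h0]; exact bot_le
  obtain ⟨A, a1, m⟩ := exists_minOff_ab hD.mod (h.syl.pgrp.to_le hXT) (hXT.trans h.syl.le) e h0 ho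
  have a2 := a1.trans (hXT.trans h.syl.le)
  have hA := h.mem_of_tv hD hA a2 (h.tv a2 m)
  obtain ⟨B, hB, hBM, hc⟩ := h.exists_nc hD hA
  obtain ⟨s1, s2⟩ := split_ab h hD hA hXT e a1 hB hBM hc
  set Y := X ⊓ (𝐂⟮A ⊔ B⟯ ⊓ 𝐂⟮⁅V, A ⊔ B⁆⟯)
  obtain ⟨g, -⟩ := (h.star hD hA).1.good' hD hA (a1.trans (hXT.trans h.min.le)) hB hBM hc
  obtain ⟨b, hb, hb1⟩ := hD.exists_ne hB
  refine s1.trans (sup_le (Push.le_wJ hA a1) ((ih _ (hn ▸ lt_of_not_ge fun e' => hc (a1.trans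
    ((eq_of_le_of_card_le inf_le_left e').ge.trans (inf_le_right.trans (inf_le_left.trans
      (cent_anti le_sup_right)))))) (inf_le_left.trans hXT)
      ((inf_le_left.trans e).trans (cent_anti inf_le_left)) (ho.trans ?_)
     rfl).trans (sSup_le_sSup fun Z hZ => ⟨hZ.1, hZ.2.trans inf_le_left⟩)))
  have t1 := card_inf_mul_relIndex' 𝐂⟮X⟯ (V ⊓ 𝐂⟮Y⟯)
  rw [inf_assoc, inf_eq_right.2 (cent_anti inf_le_left)] at t1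
  have t2 := relIndex_mono_right 𝐂⟮X⟯ (le_inf (hD.mod.comm_le ((zpowers_le.2 hb).trans
    (hD.le B hB))) (le_cent_comm (H := Y) (inf_le_right.trans (inf_le_right.trans (cent_anti
      (commutator_mono le_rfl ((zpowers_le.2 hb).trans le_sup_right)))))))
  rw [g.idx_comm hD hB hA le_sup_right le_sup_left (fun e => hc (e ▸ (hD.tv B hB).comm)) hb hb1
    (cent_anti a1)] at t2
  rw [← t1]
  calc Nat.card X * Nat.card ↥(V ⊓ 𝐂⟮X⟯) ≤ q * Nat.card Y * Nat.card ↥(V ⊓ 𝐂⟮X⟯) :=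
        Nat.mul_le_mul_right _ s2
    _ = Nat.card Y * (Nat.card ↥(V ⊓ 𝐂⟮X⟯) * q) := by ring
    _ ≤ _ := Nat.mul_le_mul_left _ (Nat.mul_le_mul_left _ t2)

theorem cent_of_cent_comm (hD : TvSet p V P D q) (hS : Star p V P D T M) (hA : A ∈ D)
    (hAT : A ≤ T) (hB : B ∈ D) (hBM : ¬ B ≤ M) (hc : ¬ A ≤ 𝐂⟮B⟯) {x : G} (hx : x ∈ T)
    (hxc : x ∈ 𝐂⟮⁅V, A⁆⟯) : x ∈ 𝐂⟮A⟯ := by
  have hxP := hS.syl.le hx
  have m1 := hD.conj A hA x hxP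
  have e1 : ⁅V, cj x A⁆ = ⁅V, A⁆ := by
    rw [hD.comm_cj hxP, cj_eq_of_mem_normalizer (centralizer_le_normalizer _ hxc)]
  have e2 : A = cj x A := hS.uniq hD hA hAT m1 (cj_le_of_mem hx hAT) hB hBM hc fun e =>
    hc ((hD.comm_le_cent hA hB).1 (e1 ▸ (hD.comm_le_cent m1 hB).2 e))
  have hxA : x ∈ 𝐍⟮A⟯ := cj_eq_self_iff.1 e2.symm
  have hxV := hD.mod.norm hxP
  have n2 : zpowers x ≤ 𝐍⟮V ⊓ 𝐂⟮A⟯⟯ :=
    le_normalizer_inf (zpowers_le.2 hxV) (le_normalizer_centralizer (zpowers_le.2 hxA))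
  obtain ⟨w, h1, h2, h3⟩ := exists_fixed_mod (isPGroup_of_elemAb hD.mod.ea)
    (hS.syl.pgrp.to_le (zpowers_le.2 hx)) (zpowers_le.2 hxV) n2 (fun s hs => by
      rw [hD.mod.eq_one (hS.syl.le (zpowers_le.2 hx hs.1)) (hD.mod.comm hs.2)]
      exact one_mem _) (lt_of_le_of_ne inf_le_left fun e => (hD.tv A hA).ne (eq_bot_iff.2
        ((le_inf (hD.le A hA) (le_cent_comm (e.ge.trans inf_le_right))).trans hD.mod.faith.le)))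
  have h4 := h3 x (mem_zpowers x)
  intro a ha
  have ha' : x * a * x⁻¹ ∈ A := conj_mem_of_mem_normalizer hxA ha
  have k1 : a * w * a⁻¹ * w⁻¹ ∈ ⁅V, A⁆ := comm_mem' h1 ha
  have k2 : (a * w * a⁻¹ * w⁻¹) * x = x * (a * w * a⁻¹ * w⁻¹) := hxc _ k1
  set c := x * w * x⁻¹ * w⁻¹ with hc'
  set b := x * a * x⁻¹ with hb
  have k3 : b * c = c * b := h4.2 b ha'
  have k4 : b * w * b⁻¹ * w⁻¹ ∈ V := hD.mod.comm_le (hD.le A hA) (comm_mem' h1 ha')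
  have k5 : (b * w * b⁻¹ * w⁻¹) * c = c * (b * w * b⁻¹ * w⁻¹) := hD.mod.comm h4.1 _ k4
  have k6 : b * w * b⁻¹ * w⁻¹ = a * w * a⁻¹ * w⁻¹ := by
    calc b * w * b⁻¹ * w⁻¹ = c * (b * w * b⁻¹ * w⁻¹) * c⁻¹ := by rw [← k5]; group
      _ = (c * b) * w * b⁻¹ * w⁻¹ * c⁻¹ := by group
      _ = x * (a * w * a⁻¹ * w⁻¹) * x⁻¹ := by rw [← k3, hc', hb]; group
      _ = _ := by rw [← k2]; group
  have k7 : (a⁻¹ * b) * w = w * (a⁻¹ * b) := by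
    calc (a⁻¹ * b) * w = a⁻¹ * (b * w * b⁻¹ * w⁻¹) * w * b := by group
      _ = _ := by rw [k6]; group
  have k8 : a⁻¹ * b = 1 := by
    by_contra h0
    exact h2 ⟨h1, (hD.tv A hA).fix _ (mul_mem (inv_mem ha) ha') h0 w h1 k7⟩
  have k9 : b = a := (inv_mul_eq_one.1 k8).symm
  calc a * x = b * x := by rw [k9]
    _ = x * a := by rw [hb]; group

theorem syl_good (g : Good p V D L) (hD : TvSet p V P D q) (hA : A ∈ D) (hAL : A ≤ L) :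
    IsSylowIn p A L := by
  obtain ⟨n, hn, e⟩ := (g.nat A hA hAL).pow
  obtain ⟨F, _, _, hF⟩ := exists_field_card (p := p) hn
  haveI : CharP F p := charP_of_card_eq_prime_pow hF
  obtain ⟨σ, ψ, d, s, u1, u2⟩ := (g.nat A hA hAL).nat F (hF.trans e.symm)
  have hi : Function.Injective σ := d.bij fun l hl h => g.inj l hl fun v hv => (h v hv).2
  refine ⟨hAL, (hD.tv A hA).pgrp, fun Q hQ hQp hAQ => le_antisymm (fun y hy => ?_) hAQ⟩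
  have e1 : (Q.subgroupOf L).map σ = USL F := (sylSL F p).is_maximal'
    ((isPGroup_subgroupOf hQp).map σ) (by
      rintro _ ⟨c, rfl⟩
      obtain ⟨a, ha, ea⟩ := u2 c
      exact ⟨a, hAQ ha, ea⟩)
  obtain ⟨c, hc⟩ : σ ⟨y, hQ hy⟩ ∈ USL F := e1 ▸ ⟨⟨y, hQ hy⟩, hy, rfl⟩
  obtain ⟨a, ha, ea⟩ := u2 c
  have : a = ⟨y, hQ hy⟩ := hi (ea.trans hc)
  rw [this] at ha
  exact ha

theorem blk_data (hD : TvSet p V P D q) (hS : Star p V P D T M) (hA : A ∈ D)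
    (hAT : A ≤ T) (hB : B ∈ D) (hBM : ¬ B ≤ M) (hc : ¬ A ≤ 𝐂⟮B⟯) :
    IsSylowIn p (T ⊓ 𝐂⟮A⟯) ((A ⊔ B) ⊔ (T ⊓ 𝐂⟮A ⊔ B⟯)) ∧
      ⁅T ⊓ 𝐂⟮A⟯, T ⊓ 𝐂⟮A⟯⁆ ≤ T ⊓ 𝐂⟮A ⊔ B⟯ ∧
      (A ⊔ B) ⊔ (T ⊓ 𝐂⟮A ⊔ B⟯) ≤ 𝐍⟮T ⊓ 𝐂⟮A ⊔ B⟯⟯ := by
  obtain ⟨g, -⟩ := hS.good' hD hA (hAT.trans hS.le) hB hBM hc
  have sy := syl_good g hD hA le_sup_left
  have dec : ∀ x ∈ T ⊓ 𝐂⟮A⟯, ∃ a ∈ A, a⁻¹ * x ∈ T ⊓ 𝐂⟮A ⊔ B⟯ := fun x hx => by
    obtain ⟨a, ha, e⟩ := hS.exists_dec hD hA hAT hB hBM hc hx.1 hx.2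
    exact ⟨a, ha, T.mul_mem (T.inv_mem (hAT ha)) hx.1, e.1⟩
  have n1 : A ⊔ B ≤ 𝐍⟮T ⊓ 𝐂⟮A ⊔ B⟯⟯ :=
    (le_cent_comm inf_le_right).trans (centralizer_le_normalizer _)
  have l1 : A ≤ T ⊓ 𝐂⟮A⟯ := le_inf hAT (hD.tv A hA).comm
  have l2 : T ⊓ 𝐂⟮A ⊔ B⟯ ≤ T ⊓ 𝐂⟮A⟯ := inf_le_inf_left _ (cent_anti le_sup_left)
  refine ⟨⟨fun x hx => ?_, hS.syl.pgrp.to_le inf_le_left, fun Q hQ hQp hle =>
    le_antisymm (fun y hy => ?_) hle⟩, commutator_le.2 fun x hx y hy => ?_, sup_le n1 le_normalizer⟩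
  · obtain ⟨a, ha, e⟩ := dec x hx
    simpa using Subgroup.mul_mem _ (Subgroup.mem_sup_left (Subgroup.mem_sup_left ha))
      (Subgroup.mem_sup_right (S := A ⊔ B) e)
  · obtain ⟨l, hl, c, hc, rfl⟩ := (mem_sup_iff_of_le_normalizer n1).1 (hQ hy)
    have e := sy.max (Q ⊓ (A ⊔ B)) inf_le_right (hQp.to_le inf_le_left)
      (le_inf (l1.trans hle) le_sup_left)
    have : l ∈ A := e.le ⟨by simpa using mul_mem hy (inv_mem (hle (l2 hc))), hl⟩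
    exact mul_mem (l1 this) (l2 hc)
  · obtain ⟨a, ha, e⟩ := dec x hx
    obtain ⟨b, hb, e'⟩ := dec y hy
    have c1 : Commute a y := hy.2 a ha
    have c2 : Commute b (a⁻¹ * x) := (l2 e).2 b hb
    have : ⁅x, y⁆ = ⁅a⁻¹ * x, b⁻¹ * y⁆ := by
      have c3 : Commute a x := hx.2 a ha
      have t1 : ⁅a⁻¹ * x, b⁻¹ * y⁆ = ⁅a⁻¹ * x, y⁆ := by
        generalize a⁻¹ * x = z at c2
        have c4 : Commute b y := hy.2 b hb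
        simp only [commutatorElement_def, mul_inv_rev, inv_inv]
        calc z * (b⁻¹ * y) * z⁻¹ * (y⁻¹ * b) = (z * b⁻¹) * y * z⁻¹ * (y⁻¹ * b) := by group
          _ = b⁻¹ * (z * y * z⁻¹ * y⁻¹) * b := by rw [← c2.inv_left.eq]; group
          _ = _ := by
            rw [(((c2.mul_right c4).mul_right c2.inv_right).mul_right c4.inv_right).inv_left.eq]
            group
      rw [t1]
      simp only [commutatorElement_def, mul_inv_rev, inv_inv]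
      calc x * y * x⁻¹ * y⁻¹ = a⁻¹ * (a * (x * y * x⁻¹)) * y⁻¹ := by group
        _ = _ := by rw [((c3.mul_right c1).mul_right c3.inv_right).eq]; group
    rw [this]
    exact mul_mem (mul_mem (mul_mem e e') (inv_mem e)) (inv_mem e')

end Cfsg.Agent.Spc.Gn
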