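import Cfsg.Agent.Push.PY
import Cfsg.Agent.Push.Bau

/-! The pieces of the proof of the Glauberman-Niles theorem on the focal subgroup. -/

namespace Cfsg.Agent.Spc.Gn

open Subgroup Cfsg.Agent.LocalEven Cfsg.Agent.Glaub Cfsg.Agent.PLocal Cfsg.Agent.Push
open scoped commutatorElement

universe u

/-- The normalizer of every nontrivial characteristic subgroup of `S` lies in `M`. -/
def NC {G : Type u} [Group G] (S M : Subgroup G) : Prop :=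
  ∀ W : Subgroup S, W ≠ ⊥ → W.Characteristic → 𝐍⟮W.map S.subtype⟯ ≤ M

/-- Reduction to a rank one subgroup containing the Baumann subgroup. -/
def Ph1 (p : ℕ) : Prop :=
  ∀ (G : Type u) [Group G] [Finite G] (S M : Subgroup G), IsSylowIn p S ⊤ → MinIn S ⊤ M →
    𝐂⟮pCore p G⟯ ≤ pCore p G → NC S M →
    ∃ S₁ H : Subgroup G, pCore p G ≤ S₁ ∧ S₁ ≤ S ∧ S ⊓ 𝐂⟮centerThompsonAOf S⟯ ≤ S₁ ∧
      AB p S₁ H (H ⊓ M) (pCoreOf p H)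

/-- The rank one case, after the Baumann argument. -/
def Ph2 (p : ℕ) : Prop :=
  ∀ (G : Type u) [Group G] [Finite G] (S H M Q : Subgroup G), Q.Normal → 𝐂⟮Q⟯ ≤ Q → Q ≤ S →
    AB p S H (H ⊓ M) (pCoreOf p H) → ¬ S ⊓ 𝐂⟮S⟯ ≤ 𝐂⟮H⟯ →
    NC (S ⊓ 𝐂⟮centerThompsonAOf S⟯) M → ∃ E : Subgroup G, ¬ E ≤ M ∧ ⁅Q, E⁆ ≤ ⁅Q, M⁆

/-- The rank one case that is not pushed up. -/
def Ph3 (p : ℕ) : Prop :=
  ∀ (G : Type u) [Group G] [Finite G] (S M T U : Subgroup G), AB p S ⊤ M T → 𝐂⟮T⟯ ≤ T → ND S →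
    U.Normal → U ≤ ⁅T, pResOf p (⊤ : Subgroup G)⁆ → ⁅U, (⊤ : Subgroup G)⁆ ≤ ⁅U, M⁆

/-- The local statement. -/
def Core (p : ℕ) : Prop :=
  ∀ (G : Type u) [Group G] [Finite G] (S M : Subgroup G), IsSylowIn p S ⊤ → MinIn S ⊤ M →
    𝐂⟮pCore p G⟯ ≤ pCore p G → NC S M →
    ∃ E : Subgroup G, ¬ E ≤ M ∧ ⁅pCore p G, E⁆ ≤ ⁅pCore p G, M⁆

end Cfsg.Agent.Spc.Gn
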