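import Mathlib
import Cfsg.Agent.Spc.GnDef

/-! The rank one case that is not pushed up. -/

namespace Cfsg.Agent.Spc.Gn

open Subgroup Cfsg.Agent.LocalEven Cfsg.Agent.Glaub Cfsg.Agent.PLocal Cfsg.Agent.Push
open scoped commutatorElement MatrixGroups

universe u

theorem p3b_inv {G : Type u} [Group G] {F : Type*} [Field F] {X Y : Subgroup G} {σ ψ}
    (d : NatData F ⊤ X Y σ ψ) {z : G} (hz : σ ⟨z, trivial⟩ = -1) {u : G} (hu : u ∈ X) :
    z * u * z⁻¹ * u ∈ Y := by
  have h1 : z * u * z⁻¹ ∈ X := conj_mem_of_mem_normalizer (d.norm trivial) hu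
  rw [← d.ker _ (X.mul_mem h1 hu), d.mul _ h1 _ hu]
  have := d.conj ⟨z, trivial⟩ u hu
  rw [hz] at this
  simp only [this, Matrix.SpecialLinearGroup.coe_neg, Matrix.SpecialLinearGroup.coe_one,
    Matrix.neg_mulVec, Matrix.one_mulVec, neg_add_cancel]

theorem p3b_center {F : Type*} [Field F] {a : SL(2, F)} (h : a ∈ center SL(2, F)) :
    a = 1 ∨ a = -1 := by
  obtain ⟨r, h1, h2⟩ := Matrix.SpecialLinearGroup.mem_center_iff.1 h
  rw [Fintype.card_fin, sq_eq_one_iff] at h1
  rcases h1 with rfl | rfl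
  · exact Or.inl (Subtype.ext (by rw [← h2]; simp))
  · exact Or.inr (Subtype.ext (by rw [← h2, map_neg, map_one]; simp))

theorem ph3b {p : ℕ} [hp : Fact p.Prime] (hp2 : p ≠ 2) : Ph3.{u} p := by
  intro G _ _ S M T U h hT nd hU hUT
  obtain ⟨f, A, c, -⟩ := h.cf_of hT nd
  have o := c.out_of nd
  set V := omegaOneCenter p T
  have pn : PN p S ⊤ M T V := c.toSt.toPN
  have := normal_of_top_le pn.nT
  obtain ⟨n, hn, e⟩ := pn.nat.pow
  obtain ⟨F, _, _, hF⟩ := exists_field_card (p := p) hn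
  obtain ⟨σ, ψ, d, s, -⟩ := pn.nat.nat F (hF.trans e.symm)
  obtain ⟨ρ, sρ, kρ, eρ⟩ := pn.quot (o.ker_T pn hT) d s
  have odd : ∀ k, Odd (p ^ k) := fun k => (hp.1.odd_of_ne_two hp2).pow
  have ne : (-1 : SL(2, F)) ≠ 1 := fun k => by
    have k1 : (-1 : F) = 1 := by simpa using congrArg (fun a : SL(2, F) => a.1 0 0) k
    obtain ⟨m, hm⟩ := odd n
    have k2 := FiniteField.cast_card_eq_zero F
    rw [hF, hm] at k2
    push_cast at k2
    exact one_ne_zero (by linear_combination k2 + (m : F) * k1 : (1 : F) = 0)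
  set N := (center SL(2, F)).comap ρ
  have cm : ∀ z ∈ N, ∀ g, z * g * z⁻¹ * g⁻¹ ∈ T := fun z hz g => by
    rw [← kρ, MonoidHom.mem_ker]
    simp only [map_mul, map_inv]
    rw [← mem_center_iff.1 hz (ρ g)]
    group
  have NM : N ≤ M := fun z hz => minIn_mem_of_cj_le h.min trivial (cj_le_iff'.2 fun x hx =>
    h.min.le (by simpa using S.mul_mem (h.TS (cm z hz x)) hx))
  obtain ⟨z, hz⟩ := sρ (-1)
  have zN : z ∈ N := by
    rw [mem_comap, hz, mem_center_iff]
    intro g
    simp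
  set R := ⁅U, N⁆
  set Z := (center (G ⧸ R)).comap (QuotientGroup.mk' R)
  have RZ : R ≤ Z := fun x hx => by
    rw [mem_comap, QuotientGroup.mk'_apply, (QuotientGroup.eq_one_iff x).2 hx]
    exact one_mem _
  have UT : U ≤ T := hUT.trans (commutator_le_left _ _)
  have step : ∀ u ∈ U, z * u * z⁻¹ * u ∈ Z → u ∈ Z := fun u hu k => by
    have a : u * z * u⁻¹ * z⁻¹ ∈ Z := RZ (commutator_mem_commutator hu zN)
    have b : u ^ 2 ∈ Z := by
      have := Z.mul_mem a k
      rwa [show u * z * u⁻¹ * z⁻¹ * (z * u * z⁻¹ * u) = u * z * z⁻¹ * u by group,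
        mul_inv_cancel_right, ← pow_two] at this
    obtain ⟨k, hk⟩ := h.pT ⟨u, UT hu⟩
    obtain ⟨m, hm⟩ := odd k
    have hk' : u ^ (2 * m + 1) = 1 := by rw [← hm]; exact congrArg Subtype.val hk
    have : u = (u ^ 2) ^ (m + 1) := by
      rw [← pow_mul, show 2 * (m + 1) = 2 * m + 1 + 1 by ring, pow_succ, hk', one_mul]
    exact this ▸ Z.pow_mem b _
  have UV : ∀ u ∈ U, u ∈ V → u ∈ Z := fun u hu hv => step u hu (by
    have := (p3b_inv d ((eρ z).symm.trans hz) hv).2
    rw [mem_comap, mem_center_iff]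
    intro g
    obtain ⟨g, rfl⟩ := QuotientGroup.mk'_surjective R g
    rw [← map_mul, ← map_mul, this g trivial])
  have UZ : U ≤ Z := by
    rcases o.2 with ⟨a, -⟩ | ⟨-, -, W, X, x⟩
    · exact fun u hu => UV u hu (a (hUT hu))
    obtain ⟨σ', ψ', d', s'⟩ := x.nat pn F ((hF.trans e.symm).trans pn.idxS)
    set ρ' : G →* SL(2, F) := σ'.comp (topEquiv (G := G)).symm.toMonoidHom
    have s2 : Function.Surjective ρ' := s'.comp (topEquiv (G := G)).symm.surjective
    have k1 : T ≤ ρ'.ker := fun k hk => (d'.eq_one_iff ⟨k, trivial⟩).2 fun y hy =>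
      (x.ker k trivial (fun v hv => by
        rw [conj_eq_of_cent hk (pn.cen hv), mul_inv_cancel]; exact one_mem _) y hy).1
    have k2 : ρ'.ker ≤ T := by
      have i1 : T.index = ρ'.ker.index := by
        rw [← kρ, index_ker, index_ker, MonoidHom.range_eq_top.2 sρ, MonoidHom.range_eq_top.2 s2]
      have i2 := relIndex_mul_index k1
      rw [i1] at i2
      exact relIndex_eq_one.1 (Nat.eq_of_mul_eq_mul_right
        (Nat.pos_of_ne_zero FiniteIndex.index_ne_zero) (i2.trans (one_mul _).symm))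
    have k3 : ρ' z ∈ center SL(2, F) := mem_center_iff.2 fun g => by
      obtain ⟨g, rfl⟩ := s2 g
      have := k1 (cm z zN g)
      rw [MonoidHom.mem_ker] at this
      simp only [map_mul, map_inv] at this
      rw [mul_inv_eq_one, mul_inv_eq_iff_eq_mul] at this
      exact this.symm
    have k4 : σ' ⟨z, trivial⟩ = -1 := (p3b_center k3).resolve_left fun k =>
      ne (hz.symm.trans (kρ.ge (k2 k)))
    exact fun u hu => step u hu (UV _ (U.mul_mem (hU.conj_mem u hu z) hu)
      (p3b_inv d' k4 (x.res (hUT hu))))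
  refine le_trans (commutator_le.2 fun u hu g _ => ?_) (commutator_mono le_rfl NM)
  rw [← QuotientGroup.eq_one_iff, ← QuotientGroup.mk'_apply, map_commutatorElement,
    commutatorElement_eq_one_iff_mul_comm]
  exact (mem_center_iff.1 (UZ hu) _).symm

end Cfsg.Agent.Spc.Gn
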