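import Cfsg.Agent.Spc.PuDef
import Cfsg.Agent.S2983
import Cfsg.Agent.S2984

/-! The block structure forces `[O₂(G), O²(G)] ≤ Ω₁ Z(O₂(G))`. -/

namespace Cfsg.Agent.Spc.Od

open Subgroup Cfsg.Agent.LocalEven Cfsg.Agent.PLocal Cfsg.Agent.Push Cfsg.Agent.BHS
open Cfsg.Agent.Glaub hiding cent_anti
open scoped commutatorElement MatrixGroups

universe u

variable {G : Type u} [Group G] [Finite G]

theorem hb (T : Sylow 2 G) (hG : 𝐂⟮pCore 2 G⟯ ≤ pCore 2 G) (𝓑 : Set (Subgroup G))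
    (h1 : HasBaumannBlockStructure 2 (T : Subgroup G) 𝓑)
    (h2 : cStarOf 2 (T : Subgroup G) = (cStarOf 2 (T : Subgroup G) ⊓ sSup 𝓑) ⊔ T) :
    ⁅pCore 2 G, pResOf 2 (⊤ : Subgroup G)⁆ ≤ OZ 2 (pCore 2 G) := by
  have : Fact (Nat.Prime 2) := ⟨Nat.prime_two⟩
  obtain ⟨b1, b2, -, b4, -⟩ := h1
  have hN : (sSup 𝓑).Normal := ⟨fun x hx g => by
    have : sSup 𝓑 ≤ (sSup 𝓑).comap (MulAut.conj g).toMonoidHom :=
      sSup_le fun E hE y hy => le_sSup (b2 E hE g) (mem_map_of_mem _ hy)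
    exact this hx⟩
  have hT : sSup 𝓑 ⊔ (T : Subgroup G) = ⊤ := by
    rw [eq_top_iff, ← b4, h2]
    exact sup_le (sup_le (inf_le_right.trans le_sup_left) le_sup_right) le_sup_left
  have hR : pResOf 2 (⊤ : Subgroup G) ≤ sSup 𝓑 := pResOf_le_of_pow_mem fun x _ => by
    obtain ⟨a, ha, t, ht, rfl⟩ := (mem_sup_iff_of_le_normalizer' (N := sSup 𝓑) (H := T)
      le_normalizer_of_normal).1 (hT ▸ mem_top x)
    obtain ⟨k, hk⟩ := T.2 ⟨t, ht⟩
    have hk' : t ^ 2 ^ k = 1 := congrArg Subtype.val hk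
    refine ⟨k, (QuotientGroup.eq_one_iff _).1 ?_⟩
    rw [QuotientGroup.mk_pow, QuotientGroup.mk_mul, (QuotientGroup.eq_one_iff a).2 ha, one_mul,
      ← QuotientGroup.mk_pow, hk', QuotientGroup.mk_one]
  haveI := Transfer.omegaOneCenter_normal (p := 2) (pCore 2 G)
  refine (commutator_mono le_rfl hR).trans (le_centMod.1 (sSup_le fun E hE => le_centMod.2
    ⟨le_normalizer_of_normal, ?_⟩)).2
  have blk := b1 E hE
  have hQ := Cfsg.Agent.S2983.result hG T E blk (pCore 2 G) isPGroup_pCore le_normalizer_of_normal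
    le_normalizer_of_normal
  have hW := (Cfsg.Agent.S2984.result hG T E blk).2.1
  obtain ⟨⟨-, -, c3, c4⟩, -⟩ := Pu.isBlock_iff.1 blk
  have e : pCoreOf 2 E = OZ 2 (pCoreOf 2 E) := by
    rcases c4 with ⟨F, _, _, n, -, -, -, h | h⟩ | ⟨-, m, -, -, h⟩
    · exact h
    · exact absurd h.1 (by norm_num)
    · exact h
  refine (le_inf (commutator_le_left_of_le_normalizer le_normalizer_of_normal)
    (commutator_le_right_of_le_normalizer hQ)).trans ((pCore_inf_le E).trans ?_)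
  rw [← c3, e]
  exact hW

end Cfsg.Agent.Spc.Od
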