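import Cfsg.Agent.Spc.PuDef
import Cfsg.Agent.BHS.Inv
import Cfsg.Agent.BHS.Exc

/-! The commutator of `O₂(G)` with `O²(G)` under the block structure. -/

namespace Cfsg.Agent.Spc.Od

open Subgroup Cfsg.Agent.LocalEven Cfsg.Agent.PLocal Cfsg.Agent.Push Cfsg.Agent.BHS
open Cfsg.Agent.Glaub hiding cent_anti
open scoped commutatorElement MatrixGroups

universe u

theorem hbb {G : Type u} [Group G] [Finite G] (T : Sylow 2 G) (hG : 𝐂⟮pCore 2 G⟯ ≤ pCore 2 G)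
    (𝓑 : Set (Subgroup G)) (h1 : HasBaumannBlockStructure 2 (T : Subgroup G) 𝓑)
    (h2 : cStarOf 2 (T : Subgroup G) = (cStarOf 2 (T : Subgroup G) ⊓ sSup 𝓑) ⊔ T) :
    ⁅pCore 2 G, pResOf 2 (⊤ : Subgroup G)⁆ ≤ OZ 2 (pCore 2 G) := by
  have := Transfer.omegaOneCenter_normal (p := 2) (pCore 2 G)
  obtain ⟨b1, b2, -, b4, -⟩ := h1
  have hN : (sSup 𝓑).Normal := ⟨fun n hn g => by
    have : (sSup 𝓑).map (MulAut.conj g).toMonoidHom ≤ sSup 𝓑 := by
      rw [map_le_iff_le_comap]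
      exact sSup_le fun E hE => map_le_iff_le_comap.1 (le_sSup (b2 E hE g))
    exact this ⟨n, hn, rfl⟩⟩
  have htop : sSup 𝓑 ⊔ (T : Subgroup G) = ⊤ := by
    refine top_le_iff.1 (b4.ge.trans (sup_le (h2.le.trans (sup_le_sup_right inf_le_right _)) le_sup_left))
  have hR : pResOf 2 (⊤ : Subgroup G) ≤ sSup 𝓑 := pResOf_le_of_pow_mem fun x _ => by
    have hx : x ∈ ((sSup 𝓑 ⊔ (T : Subgroup G) : Subgroup G) : Set G) := by rw [htop]; trivial
    rw [normal_mul] at hx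
    obtain ⟨n, hn, t, ht, rfl⟩ := hx
    obtain ⟨k, hk⟩ := T.isPGroup' ⟨t, ht⟩
    refine ⟨k, (QuotientGroup.eq_one_iff _).1 ?_⟩
    have e : t ^ 2 ^ k = 1 := congrArg Subtype.val hk
    rw [QuotientGroup.mk_pow, QuotientGroup.mk_mul, (QuotientGroup.eq_one_iff n).2 hn, one_mul,
      ← QuotientGroup.mk_pow, e, QuotientGroup.mk_one]
  refine (le_centMod.1 (hR.trans (sSup_le fun E hE => le_centMod.2 ⟨le_normalizer_of_normal, ?_⟩))).2
  have bt := bt_of hG (isSylowIn_top T) (b1 E hE)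
  have e : pCoreOf 2 E = OZ 2 (pCoreOf 2 E) := by
    obtain ⟨F, _, _, n, -, -, -, e | e⟩ | ⟨-, m, -, -, e⟩ := (b1 E hE).2.2.2.2
    · exact e
    · exact absurd e.1 (by norm_num)
    · exact e
  refine bt.comm_core.trans (le_trans ?_ (BHS.U_le_V hG (isSylowIn_top T) (b1 E hE)))
  rw [← e]
  exact (b1 E hE).2.2.1.ge

end Cfsg.Agent.Spc.Od
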