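import Cfsg.Agent.Spc.PuR1

namespace Cfsg.Agent.Spc.Od

open Subgroup Cfsg.Agent.LocalEven Cfsg.Agent.PLocal Cfsg.Agent.Push Cfsg.Agent.BHS
open Cfsg.Agent.Glaub hiding cent_anti
open scoped commutatorElement MatrixGroups

universe u

theorem h1c_wJ {G : Type u} [Group G] [Finite G] {p : ℕ} [Fact p.Prime] {V P T M A X : Subgroup G}
    {D : Set (Subgroup G)} {q : ℕ} (h : MinPar p V P T M) (hD : TvSet p V P D q) (hA : A ∈ D)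
    (hAX : A ≤ X) (hXT : X ≤ T) (hn : T ≤ 𝐍⟮X⟯) : wJ D T ≤ X := by
  obtain ⟨st, -⟩ := h.star hD hA
  obtain ⟨B, hB, hBM, hc⟩ := h.exists_nc hD hA
  let N : Subgroup G := sSup {Y | Y ∈ D ∧ Y ≤ T ∧ ¬ Y ≤ X}
  have n1 : N ≤ T := sSup_le fun _ h => h.2.1
  have n2 : N ≤ 𝐂⟮A ⊔ B⟯ := sSup_le fun Y hY =>
    st.le_cent_sup hD hA (hAX.trans hXT) hB hBM hc hY.1 hY.2.1 fun e => hY.2.2 (e ▸ hAX)
  have n3 : T ≤ 𝐍⟮N⟯ := fun t ht => mem_normalizer_of_cj_le (cj_le_iff.2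
    (sSup_le fun Y hY => cj_le_iff.1 (le_sSup ⟨hD.conj Y hY.1 t (h.syl.le ht),
      cj_le_of_mem ht hY.2.1, fun e => hY.2.2 (by
        rwa [← cj_eq_of_mem_normalizer (hn ht), cj_le_cj] at e)⟩)))
  have n4 : P ≤ 𝐍⟮N⟯ := by
    rw [← h.sup_eq (K := A ⊔ B) (sup_le (hD.le A hA) (hD.le B hB))
      fun e => hBM (le_sup_right.trans e)]
    exact sup_le ((le_cent_comm n2).trans (centralizer_le_normalizer _)) n3
  have n5 : N ≤ ⊥ := (le_pCoreOf (n1.trans h.syl.le) n4 (h.syl.pgrp.to_le n1)).trans h.core.le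
  refine wJ_le_iff.2 fun Y hY hYT => by_contra fun e => (hD.tv Y hY).ne (eq_bot_iff.2 ?_)
  exact (le_sSup (s := {Y | Y ∈ D ∧ Y ≤ T ∧ ¬ Y ≤ X}) ⟨hY, hYT, e⟩).trans n5

variable {G : Type u} [Group G] [Finite G] {S M : Subgroup G}

theorem h1c (hS : IsSylowIn 2 S ⊤) (h : MinIn S ⊤ M) (hG : 𝐂⟮pCore 2 G⟯ ≤ pCore 2 G)
    (hz : 𝐂⟮OZ 2 S⟯ ≤ M) (hJ : 𝐍⟮Jt 2 S⟯ ≤ M) :
    S ⊓ 𝐂⟮OZ 2 (pCore 2 G)⟯ ≤ pCore 2 G ∧ OZ 2 (pCore 2 G) ≤ Jt 2 S ∧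
    (∀ Y ≤ Jt 2 S, IsElementaryAbelian 2 Y →
      𝐂⟮OZ 2 (pCore 2 G)⟯.relIndex Y ≤ 𝐂⟮Y⟯.relIndex (OZ 2 (pCore 2 G))) ∧
    (∀ Y ≤ Jt 2 S, IsElementaryAbelian 2 Y → S ≤ 𝐍⟮Y⟯ → ¬ Y ≤ 𝐂⟮OZ 2 (pCore 2 G)⟯ →
      𝐂⟮Y⟯.relIndex (OZ 2 (pCore 2 G)) ≤ 𝐂⟮OZ 2 (pCore 2 G)⟯.relIndex Y →
      Jt 2 S ≤ Y ⊔ pCore 2 G) := by
  haveI : Fact (Nat.Prime 2) := ⟨Nat.prime_two⟩
  haveI i0 := Transfer.omegaOneCenter_normal (p := 2) (pCore 2 G)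
  obtain ⟨V, hVd⟩ : ∃ V, V = OZ 2 (pCore 2 G) := ⟨_, rfl⟩
  haveI : V.Normal := hVd ▸ i0
  rw [← hVd]
  have hV : IsElementaryAbelian 2 V := hVd ▸ Transfer.ea_omegaOneCenter _
  have hO : pCore 2 G ≤ 𝐂⟮V⟯ := hVd ▸ Transfer.le_centralizer_omegaOneCenter _
  have hOS : pCore 2 G ≤ S := pCoreOf_top.ge.trans hS.pCoreOf_le
  have hVS : V ≤ S := (hVd ▸ omegaOneCenter_le _ : V ≤ pCore 2 G).trans hOS
  have hZ : OZ 2 S ≤ V := hVd ▸ oz_le_oz_core hG hS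
  have hc : 𝐂⟮V ⊓ 𝐂⟮S⟯⟯ ≤ M :=
    (cent_anti (le_inf hZ (omegaOneCenter_le_centralizer _))).trans hz
  have hcV : 𝐂⟮V⟯ ≤ M := (cent_anti inf_le_left).trans hc
  have mp := minPar_hol hV hS h hO hc
  have c1 : S ⊓ 𝐂⟮V⟯ ≤ pCore 2 G := (minIn_le_pCoreOf h hS.pgrp le_normalizer_of_normal hcV
    (hS.pgrp.to_le inf_le_left) inf_le_right).trans pCoreOf_top.le
  have ci : ∀ Y : Subgroup G, Nat.card (Y.map (holRep V)) = 𝐂⟮V⟯.relIndex Y := fun Y => by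
    rw [← relIndex_cent_hol', ← inf_relIndex_left, map_holRep_inf_centralizer, relIndex_bot_left]
  refine ⟨c1, Pu.v_le_jt hV hVS mp.mod (map_mono le_top), fun Y _ e => ?_,
    fun Y hY e hn h0 ho => ?_⟩
  · rw [← ci, ← relIndex_cent_hol (V := V) le_rfl, holImg_self]
    exact mp.mod.max _ (map_mono le_top) (elemAb_map e _)
  have hYS : Y ≤ S := hY.trans (jt_le _)
  have off : Nat.card (holV V) ≤ Nat.card (Y.map (holRep V)) *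
      Nat.card ↥(holV V ⊓ 𝐂⟮Y.map (holRep V)⟯) := by
    rw [← card_inf_mul_relIndex' 𝐂⟮Y.map (holRep V)⟯ (holV V), mul_comm]
    refine Nat.mul_le_mul_right _ ?_
    rwa [ci, ← holImg_self, relIndex_cent_hol le_rfl]
  obtain ⟨A, a1, m, -⟩ := exists_minOff (elemAb_map e (holRep V))
    (fun k => h0 (ker_holRep (V := V) ▸ (Subgroup.map_eq_bot_iff _).1 k)) off
  have hD := mp.tvSet (a1.trans (map_mono le_top)) m
  have hA : A ∈ {X | ∃ g ∈ (⊤ : Subgroup G).map (holRep V), cj g A = X} := ⟨1, one_mem _, cj_one _⟩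
  generalize {X | ∃ g ∈ (⊤ : Subgroup G).map (holRep V), cj g A = X} = D at hD hA
  have w := h1c_wJ mp hD hA a1 (map_mono hYS) ((map_mono hn).trans (le_normalizer_map _))
  have j1 : Jt 2 S ≤ (Y.map (holRep V)).comap (holRep V) := by
    refine Transfer.thompsonSubgroupOf_le_iff.2 fun X hX => ?_
    obtain ⟨x1, x2⟩ := off_hol hV hVS hX
    rw [← map_le_iff_le_comap]
    exact (mp.le_wJ hD hA (map_mono le_top) x1 x2).trans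
      ((wJ_le_iff.2 fun Z hZ hZX => Push.le_wJ hZ (hZX.trans (map_mono hX.1))).trans w)
  intro x hx
  obtain ⟨y, hy, e'⟩ := j1 hx
  have k : y⁻¹ * x ∈ pCore 2 G := c1 (mem_inf.2 ⟨mul_mem (inv_mem (hYS hy)) (jt_le _ hx),
    holRep_eq_one_iff.1 (by rw [map_mul, map_inv, e', inv_mul_cancel])⟩)
  simpa using mul_mem (mem_sup_left hy : y ∈ Y ⊔ pCore 2 G) (mem_sup_right k)

end Cfsg.Agent.Spc.Od
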