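import Cfsg.Agent.Spc.PuDef
import Cfsg.Agent.Spc.GnB

/-! The natural module section used in the parity argument. -/

namespace Cfsg.Agent.Spc.Od

open Subgroup Cfsg.Agent.LocalEven Cfsg.Agent.PLocal Cfsg.Agent.Push Cfsg.Agent.BHS
open Cfsg.Agent.Glaub hiding cent_anti
open Cfsg.Agent.Spc.Gn
open scoped commutatorElement MatrixGroups

universe u

theorem h2_key {G : Type u} [Group G] [Finite G] {p q : ℕ} [Fact p.Prime] {V P A B : Subgroup G}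
    {D : Set (Subgroup G)} (hD : TvSet p V P D q) (hA : A ∈ D) (g : Good p V D (A ⊔ B))
    {a c w : G} (ha : a ∈ A) (h1 : a ≠ 1) (hc : c ∈ 𝐂⟮A ⊔ B⟯ ⊓ 𝐂⟮⁅V, A ⊔ B⁆⟯) (hcV : c ∈ 𝐍⟮V⟯)
    (hL : A ⊔ B ≤ P) (hw : w ∈ V) (h : a * c * w * (a * c)⁻¹ * w⁻¹ ∈ 𝐂⟮A ⊔ B⟯) : w ∈ 𝐂⟮A⟯ := by
  have hV := hD.mod.comm
  have hle : ⁅V, A ⊔ B⁆ ≤ V := hD.mod.comm_le hL
  obtain ⟨v₁, h₁, v₂, h₂, rfl⟩ : ∃ v₁ ∈ ⁅V, A ⊔ B⁆, ∃ v₂ ∈ V ⊓ 𝐂⟮A ⊔ B⟯, v₁ * v₂ = w := by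
    have := g.dec hw
    rw [← SetLike.mem_coe, coe_mul_of_left_le_normalizer_right _ _
      ((hle.trans hV).trans ((cent_anti inf_le_left).trans (centralizer_le_normalizer _)))] at this
    exact this
  have z1 : c * v₂ * c⁻¹ ∈ 𝐂⟮A ⊔ B⟯ := mul_mem (mul_mem hc.1 h₂.2) (inv_mem hc.1)
  have z2 : c * v₂ * c⁻¹ * v₂⁻¹ ∈ V := mul_mem (conj_mem_of_mem_normalizer hcV h₂.1) (inv_mem h₂.1)
  have e1 : v₁ * c = c * v₁ := hc.2 v₁ h₁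
  have e2 : a * (c * v₂ * c⁻¹) = (c * v₂ * c⁻¹) * a := z1 a (mem_sup_left ha)
  have e3 : v₁ * (c * v₂ * c⁻¹ * v₂⁻¹) = (c * v₂ * c⁻¹ * v₂⁻¹) * v₁ := hV z2 v₁ (hle h₁)
  have e : a * v₁ * a⁻¹ * v₁⁻¹ =
      a * c * (v₁ * v₂) * (a * c)⁻¹ * (v₁ * v₂)⁻¹ * (c * v₂ * c⁻¹ * v₂⁻¹)⁻¹ := by
    rw [eq_mul_inv_iff_mul_eq]
    calc a * v₁ * a⁻¹ * v₁⁻¹ * (c * v₂ * c⁻¹ * v₂⁻¹)
        = a * v₁ * a⁻¹ * v₁⁻¹ * ((c * v₂ * c⁻¹ * v₂⁻¹) * v₁) * v₁⁻¹ := by group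
      _ = a * v₁ * a⁻¹ * ((c * v₂ * c⁻¹) * a) * a⁻¹ * v₂⁻¹ * v₁⁻¹ := by rw [← e3]; group
      _ = a * (v₁ * c) * v₂ * c⁻¹ * a⁻¹ * v₂⁻¹ * v₁⁻¹ := by rw [← e2]; group
      _ = _ := by rw [e1]; group
  have k : a * v₁ * a⁻¹ * v₁⁻¹ ∈ 𝐂⟮A ⊔ B⟯ := by
    rw [e]; exact mul_mem h (inv_mem (mul_mem z1 (inv_mem h₂.2)))
  exact mul_mem ((g.nat A hA le_sup_left).s2' hD.mod (hD.le A hA) (hD.tv A hA) ha h1 (hle h₁)
    (cent_anti le_sup_right k)) (cent_anti le_sup_left h₂.2)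

variable {G : Type u} [Group G] [Finite G] {S M : Subgroup G}

theorem h2 (hS : IsSylowIn 2 S ⊤) (h : MinIn S ⊤ M) (hG : 𝐂⟮pCore 2 G⟯ ≤ pCore 2 G)
    (hz : 𝐂⟮OZ 2 S⟯ ≤ M) (hJ : 𝐍⟮Jt 2 S⟯ ≤ M) :
    ∃ J₁ W₁ : Subgroup G, pCore 2 G ≤ J₁ ∧ ¬ Jt 2 S ≤ J₁ ∧
      OZ 2 (pCore 2 G) ⊓ 𝐂⟮Jt 2 S⟯ ≤ W₁ ∧ ¬ OZ 2 (pCore 2 G) ≤ W₁ ∧
      ∀ y ∈ Jt 2 S, ∀ w ∈ OZ 2 (pCore 2 G), ⁅w, y⁆ ∈ 𝐂⟮pResOf 2 (⊤ : Subgroup G)⟯ →
        y ∈ J₁ ∨ w ∈ W₁ := by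
  haveI i0 := Transfer.omegaOneCenter_normal (p := 2) (pCore 2 G)
  obtain ⟨V, hVd⟩ : ∃ V, V = OZ 2 (pCore 2 G) := ⟨_, rfl⟩
  haveI : V.Normal := hVd ▸ i0
  have hV : IsElementaryAbelian 2 V := hVd ▸ Transfer.ea_omegaOneCenter _
  have hO : pCore 2 G ≤ 𝐂⟮V⟯ := hVd ▸ Transfer.le_centralizer_omegaOneCenter _
  have hOS : pCore 2 G ≤ S := pCoreOf_top.ge.trans hS.pCoreOf_le
  have hVS : V ≤ S := (hVd ▸ omegaOneCenter_le _ : V ≤ pCore 2 G).trans hOS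
  have hZ : OZ 2 S ≤ V := fun x hx => by
    obtain ⟨h1, h2, h3⟩ := mem_omegaOneCenter.1 hx
    rw [hVd]
    exact mem_omegaOneCenter.2 ⟨hG (cent_anti hOS h2), cent_anti hOS h2, h3⟩
  have hc : 𝐂⟮V ⊓ 𝐂⟮S⟯⟯ ≤ M :=
    (cent_anti (le_inf hZ (omegaOneCenter_le_centralizer _))).trans hz
  have hcV : 𝐂⟮V⟯ ≤ M := (cent_anti inf_le_left).trans hc
  have mp := minPar_hol hV hS h hO hc
  rw [← hVd]
  obtain ⟨X₀, hX₀, hX₀V⟩ : ∃ X ∈ Transfer.MaxEA 2 S, ¬ X ≤ 𝐂⟮V⟯ := by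
    by_contra e
    push Not at e
    have := (minIn_le_pCoreOf h hS.pgrp le_normalizer_of_normal hcV
      (hS.pgrp.to_le (jt_le _))
      (Transfer.thompsonSubgroupOf_le_iff.2 e)).trans pCoreOf_top.le
    refine h.lt.not_ge (le_trans ?_ hJ)
    rw [← jt_eq_of_le this hOS]
    haveI := Transfer.thompsonSubgroupOf_normal (p := 2) (pCore 2 G)
    exact le_normalizer_of_normal
  obtain ⟨A, a0, m⟩ := exists_minOff_hol (Or.inr rfl) hV hS.pgrp hVS hX₀ hX₀V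
  have hD := mp.tvSet (a0.trans (map_mono le_top)) m
  have hA : A ∈ {X | ∃ g ∈ (⊤ : Subgroup G).map (holRep V), cj g A = X} :=
    ⟨1, one_mem _, cj_one _⟩
  generalize {X | ∃ g ∈ (⊤ : Subgroup G).map (holRep V), cj g A = X} = D at hD hA
  generalize Nat.card A = q at hD
  obtain ⟨st, -⟩ := mp.star hD hA
  have hAT : A ≤ S.map (holRep V) := a0.trans (map_mono hX₀.1)
  have hAJ : A ≤ (Jt 2 S).map (holRep V) := a0.trans (map_mono (Transfer.le_thompsonSubgroupOf hX₀))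
  obtain ⟨B, hB, hBM, hAB⟩ := mp.exists_nc hD hA
  obtain ⟨g, -⟩ := st.good' hD hA (hAT.trans st.le) hB hBM hAB
  have hL : A ⊔ B ≤ (⊤ : Subgroup G).map (holRep V) := sup_le (hD.le A hA) (hD.le B hB)
  have j1 : (Jt 2 S).map (holRep V) ≤ wJ D (S.map (holRep V)) := by
    rw [map_le_iff_le_comap, Transfer.thompsonSubgroupOf_le_iff]
    intro X hX
    rw [← map_le_iff_le_comap]
    exact (mp.le_wJ hD hA (map_mono le_top) (off_hol hV hVS hX).1 (off_hol hV hVS hX).2).trans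
      (sSup_le_sSup fun Z hZ => ⟨hZ.1, hZ.2.trans (map_mono hX.1)⟩)
  have j2 : wJ D (S.map (holRep V)) ≤ 𝐂⟮A⟯ := wJ_le_iff.2 fun X hX hXT => st.comm hD hX hA hXT hAT
  have eA : (A.comap (holRep V)).map (holRep V) = A :=
    map_comap_eq_self (by rw [MonoidHom.range_eq_map]; exact hD.le A hA)
  refine ⟨(𝐂⟮A ⊔ B⟯ ⊓ 𝐂⟮⁅holV V, A ⊔ B⁆⟯).comap (holRep V), 𝐂⟮A.comap (holRep V)⟯,
    fun x hx => ?_, fun e => hAB ?_, fun v hv => ?_, fun e => ?_, fun y hy w hw hwy => ?_⟩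
  · rw [mem_comap, holRep_eq_one_iff.2 (hO hx)]; exact one_mem _
  · exact (hAJ.trans (map_le_iff_le_comap.2 e)).trans (inf_le_left.trans (cent_anti le_sup_right))
  · rw [← holI_mem_cent hv.1, eA]
    exact cent_anti hAJ ((holI_mem_cent hv.1).2 hv.2)
  · have k := (holImg_le_cent (V := V) le_rfl).2 e
    rw [holImg_self, eA] at k
    exact (hD.tv A hA).ne (eq_bot_iff.2 ((le_inf (hD.le A hA) (le_cent_comm k)).trans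
      hD.mod.faith.le))
  have hy' := j1 (mem_map_of_mem (holRep V) hy)
  obtain ⟨a, ha, hc'⟩ := st.exists_dec hD hA hAT hB hBM hAB (wJ_le hy') (j2 hy')
  by_cases h1 : a = 1
  · left
    rwa [h1, inv_one, one_mul] at hc'
  right
  have hw' : holI V w ∈ holV V := by rw [← holImg_self]; exact (holI_mem hw).2 hw
  have hyw : y * w * y⁻¹ ∈ V := Normal.conj_mem inferInstance _ hw y
  have eu : holI V (y * w * y⁻¹ * w⁻¹) =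
      holRep V y * holI V w * (holRep V y)⁻¹ * (holI V w)⁻¹ := by
    rw [holI_mul hyw (inv_mem hw), holI_conj y hw, holI_eq (inv_mem hw), holI_eq hw, ← map_inv]
    rfl
  have u1 : holI V (y * w * y⁻¹ * w⁻¹) ∈ 𝐂⟮pResOf 2 (A ⊔ B)⟯ := by
    refine cent_anti ((pResOf_mono hL).trans (map_pResOf (holRep V) ⊤).ge)
      ((holI_mem_cent (mul_mem hyw (inv_mem hw))).2 ?_)
    have := inv_mem hwy
    rwa [commutatorElement_inv, commutatorElement_def] at this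
  have u2 : holI V (y * w * y⁻¹ * w⁻¹) ∈ 𝐂⟮A⟯ := by
    rw [eu]
    exact cent_anti (Push.le_wJ hA hAT) (st.quad_wJ hD (comm_mem' hw' hy')).2
  have u3 : holI V (y * w * y⁻¹ * w⁻¹) ∈ 𝐂⟮A ⊔ B⟯ := by
    rw [← (syl_good g hD hA le_sup_left).pResOf_sup, centralizer_sup']
    exact ⟨u1, u2⟩
  rw [← holI_mem_cent hw, eA]
  refine h2_key hD hA g ha h1 hc' (le_normalizer_of_normal (mem_top _)) hL hw' ?_
  rw [mul_inv_cancel_left, ← eu]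
  exact u3

end Cfsg.Agent.Spc.Od
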