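import Cfsg.Agent.Spc.GnDef
import Cfsg.Agent.BHS.Map

/-! The pieces of the proof of the pushing-up theorem for `p`-minimal groups. -/

namespace Cfsg.Agent.Spc.Pu

open Subgroup Cfsg.Agent.LocalEven Cfsg.Agent.PLocal Cfsg.Agent.Push Cfsg.Agent.BHS
open Cfsg.Agent.Glaub hiding cent_anti
open scoped commutatorElement MatrixGroups

universe u

variable {G : Type u} [Group G]

/-- The last clause of `IsBaumannBlock`, with `B` for the Baumann subgroup. -/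
def Kind (p : ℕ) (B E : Subgroup G) : Prop :=
  (∃ (F : Type) (_ : Field F) (_ : Fintype F) (n : ℕ), Fintype.card F = p ^ n ∧
      Nonempty (↥E ⧸ pCore p ↥E ≃* ↥(commutator SL(2, F))) ∧
      ActsAsSL2OnSection F (commutator SL(2, F)) E (OZ p (pCoreOf p E))
        (OZ p (pCoreOf p E) ⊓ 𝐂⟮E⟯) ∧
      (pCoreOf p E = OZ p (pCoreOf p E) ∨
        (p = 3 ∧
          ActsAsSL2OnSection F (commutator SL(2, F)) E (pCoreOf p E) (OZ p (pCoreOf p E)) ∧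
          ⁅pCoreOf p E, pCoreOf p E⁆ = OZ p (pCoreOf p E) ⊓ 𝐂⟮E⟯ ∧
          (frattini ↥(pCoreOf p E)).map (pCoreOf p E).subtype = OZ p (pCoreOf p E) ⊓ 𝐂⟮E⟯ ∧
          E ⊓ 𝐂⟮E⟯ = OZ p (pCoreOf p E) ⊓ 𝐂⟮E⟯ ∧
          Nat.card ↥(E ⊓ 𝐂⟮E⟯) = 3 ^ n ∧
          ∀ b : G, b ∈ B → b ∉ 𝐂⟮OZ p (pCoreOf p E)⟯ →
            ¬ ⁅⁅pCoreOf p E, zpowers b⁆, zpowers b⁆ ≤ E ⊓ 𝐂⟮E⟯))) ∨
    (p = 2 ∧ ∃ m : ℕ, Nonempty (↥E ⧸ pCore p ↥E ≃* ↥(alternatingGroup (Fin (2 * m + 1)))) ∧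
      ActsAsOddPermModuleOnSection (2 * m + 1) (alternatingGroup (Fin (2 * m + 1))) E
        (OZ p (pCoreOf p E)) (OZ p (pCoreOf p E) ⊓ 𝐂⟮E⟯) ∧
      pCoreOf p E = OZ p (pCoreOf p E))

/-- The part of `IsBaumannBlock` that depends only on `B(T)` and `E`. -/
def BD (p : ℕ) (B E : Subgroup G) : Prop :=
  pResOf p E = E ∧ ⁅E, B⁆ = E ∧ ⁅pCoreOf p E, E⁆ = pCoreOf p E ∧ Kind p B E

theorem isBlock_iff {p : ℕ} {T E : Subgroup G} :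
    IsBaumannBlock p T E ↔ BD p (Bm p T) E ∧ ⁅E, OZ p T⁆ ≠ ⊥ :=
  ⟨fun h => ⟨⟨h.1, h.2.1, h.2.2.1, h.2.2.2.2⟩, h.2.2.2.1⟩,
    fun h => ⟨h.1.1, h.1.2.1, h.1.2.2.1, h.2, h.1.2.2.2⟩⟩

/-- The exceptional case. -/
def XE (p : ℕ) (S T : Subgroup G) : Prop :=
  p = 3 ∧ phi (phi S) = ⊥ ∧ ∃ W X : Subgroup G, XB p S ⊤ T (OZ p T) W X ∧ W ≤ 𝐂⟮W⟯ ∧
    T.relIndex S ≤ Nat.card ↥⁅X, X⁆ ∧
    ∀ b ∈ S, b ∉ T → ¬ ⁅⁅X, zpowers b⁆, zpowers b⁆ ≤ 𝐂⟮(⊤ : Subgroup G)⟯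

/-- The structure of a rank one group that is not pushed up. -/
structure XD (p : ℕ) (S M T : Subgroup G) : Prop where
  pn : PN p S ⊤ M T (OZ p T)
  cen : 𝐂⟮T⟯ ≤ T
  ker : ⊤ ⊓ centMod (OZ p T) (OZ p T ⊓ 𝐂⟮(⊤ : Subgroup G)⟯) ≤ T
  exY : ∃ Y ≤ S, IsElementaryAbelian p Y ∧ Y ⊔ T = S ∧
    ⁅T, Y⁆ ≤ ⁅T, pResOf p (⊤ : Subgroup G)⁆
  case : ⁅T, pResOf p (⊤ : Subgroup G)⁆ ≤ OZ p T ∨ XE p S T

def PA (p : ℕ) : Prop :=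
  ∀ (G : Type u) [Group G] [Finite G] (S M T : Subgroup G), AB p S ⊤ M T → 𝐂⟮T⟯ ≤ T → ND S →
    XD p S M T

def PB (p : ℕ) : Prop :=
  ∀ (G : Type u) [Group G] [Finite G] (S M T : Subgroup G), XD p S M T →
    pResOf p (⊤ : Subgroup G) ⊓ T = ⁅T, pResOf p (⊤ : Subgroup G)⁆

def PC1 (p : ℕ) : Prop :=
  ∀ (G : Type u) [Group G] [Finite G] (S M T : Subgroup G), XD p S M T →
    pResOf p (⊤ : Subgroup G) ⊓ T = ⁅T, pResOf p (⊤ : Subgroup G)⁆ →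
    ⁅T, pResOf p (⊤ : Subgroup G)⁆ ≤ OZ p T → BD p S (pResOf p (⊤ : Subgroup G))

def PC2 (p : ℕ) : Prop :=
  ∀ (G : Type u) [Group G] [Finite G] (S M T : Subgroup G), XD p S M T →
    pResOf p (⊤ : Subgroup G) ⊓ T = ⁅T, pResOf p (⊤ : Subgroup G)⁆ →
    XE p S T → BD p S (pResOf p (⊤ : Subgroup G))

/-- The output of the rank one analysis. -/
structure RO (p : ℕ) (S L T : Subgroup G) : Prop where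
  bd : BD p S (pResOf p L)
  core : pCoreOf p (pResOf p L) = ⁅T, pResOf p L⁆
  two : p = 2 → ⁅T, pResOf p L⁆ ≤ OZ p T
  exY : ∃ Y ≤ S, IsElementaryAbelian p Y ∧ ¬ Y ≤ T ∧ ⁅T, Y⁆ ≤ ⁅T, pResOf p L⁆
  rho : ∃ (F : Type) (_ : Field F) (_ : Fintype F) (_ : CharP F p) (ρ : L →* SL(2, F)),
    Fintype.card F = T.relIndex S ∧ Function.Surjective ρ ∧ ρ.ker = T.subgroupOf L

def RB (p : ℕ) : Prop :=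
  ∀ (G : Type u) [Group G] [Finite G] (S L M T : Subgroup G), AB p S L M T → L ⊓ 𝐂⟮T⟯ ≤ T →
    (∀ W : Subgroup S, W ≠ ⊥ → W.Characteristic → ¬ L ≤ 𝐍⟮W.map S.subtype⟯) → RO p S L T

/-- Baumann's lemma for the elementary abelian Thompson subgroup. -/
def PE (p : ℕ) : Prop :=
  ∀ (G : Type u) [Group G] [Finite G] (S M T : Subgroup G), AB p S ⊤ M T → 𝐂⟮T⟯ ≤ T →
    ¬ S ⊓ 𝐂⟮S⟯ ≤ 𝐂⟮(⊤ : Subgroup G)⟯ → IsSylowIn p (Bm p S) (cjClos (Bm p S) ⊤)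

/-- The hypotheses of the theorem. -/
structure Set0 (p : ℕ) (T M : Subgroup G) : Prop where
  syl : IsSylowIn p T ⊤
  min : MinIn T ⊤ M
  cen : 𝐂⟮pCore p G⟯ ≤ pCore p G
  nc : Gn.NC (Bm p T) M
  z : 𝐂⟮OZ p T⟯ ≤ M

/-- A rank one subgroup with Sylow subgroup `B(T)`. -/
structure R1 (p : ℕ) (T M L : Subgroup G) : Prop where
  ab : AB p (Bm p T) L (L ⊓ M) (pCoreOf p L)
  cen : L ⊓ 𝐂⟮pCoreOf p L⟯ ≤ pCoreOf p L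
  nrm : L ⊓ M ≤ 𝐍⟮Bm p T⟯
  vle : OZ p (pCore p G) ≤ pCoreOf p L

/-- The linear case. -/
def LD (p : ℕ) (T M : Subgroup G) : Prop :=
  ∃ L K : Subgroup G, R1 p T M L ∧ K.Normal ∧ pResOf p L ≤ K ∧
    K ≤ L ⊔ 𝐂⟮⁅OZ p (pCore p G), pResOf p L⁆⟯

/-- The symmetric case; `V = Ω₁ Z(O₂(G))`. -/
structure SD (T M V K : Subgroup G) (n : ℕ) (σ : K →* Equiv.Perm (Fin (2 ^ n + 1)))
    (ψ : G → Fin (2 ^ n + 1) → ZMod 2) : Prop where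
  eqV : V = OZ 2 (pCore 2 G)
  pos : 1 ≤ n
  sub : K.IsSubnormal
  le : 𝐂⟮V⟯ ≤ K
  nle : ¬ K ≤ M
  nB : Bm 2 T ≤ 𝐍⟮K⟯
  surj : Function.Surjective σ
  ker : σ.ker = 𝐂⟮V⟯.subgroupOf K
  perm : PermData (2 ^ n + 1) K ⁅V, K⁆ (⁅V, K⁆ ⊓ 𝐂⟮K⟯) σ ψ
  dec : V ≤ ⁅V, K⁆ ⊔ (V ⊓ 𝐂⟮K⟯)
  ex : ∃ a : K, (a : G) ∈ T ∧ (σ a).IsSwap
  sw : ∀ a : K, (a : G) ∈ T → (σ a).IsSwap → ∃ L : Subgroup G, R1 2 T M L ∧ pResOf 2 L ≤ K ∧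
    ⁅V, zpowers (a : G)⁆ ≤ ⁅V, pResOf 2 L⁆ ∧
    (∀ y ∈ Bm 2 T, ∃ c ∈ zpowers (a : G),
      c⁻¹ * y ∈ 𝐂⟮⁅V, pResOf 2 L⁆⟯ ⊓ centMod (pResOf 2 L) 𝐂⟮V⟯) ∧
    ∀ b : K, (b : G) ∈ T → (σ b).IsSwap → σ b ≠ σ a → (b : G) ∈ 𝐂⟮⁅V, pResOf 2 L⁆⟯

def PR (p : ℕ) : Prop :=
  ∀ (G : Type u) [Group G] [Finite G] (T M : Subgroup G), Set0 p T M →
    LD p T M ∨ (p = 2 ∧ ∃ V K n σ ψ, SD T M V K n σ ψ)

/-- The isomorphism type of a block and of its intersection with `M`. -/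
def Typ (p : ℕ) (T M E : Subgroup G) : Prop :=
  ((∃ (F : Type) (_ : Field F) (_ : Fintype F) (m : ℕ), 3 < p ^ m ∧ Fintype.card F = p ^ m ∧
      Nonempty (↥E ⧸ pCore p ↥E ≃* SL(2, F)) ∧ M ⊓ E = E ⊓ 𝐍⟮T ⊓ E⟯) ∨
    (p = 2 ∧ ∃ m : ℕ, Nonempty (↥E ⧸ pCore p ↥E ≃* ↥(alternatingGroup (Fin (2 * m + 1)))) ∧
      Nonempty (↥(((M ⊓ E).subgroupOf E).map (QuotientGroup.mk' (pCore p ↥E))) ≃*
        ↥(alternatingGroup (Fin (2 * m))))) ∨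
    (p = 3 ∧ Nonempty (↥E ⧸ pCore p ↥E ≃* ↥(commutator SL(2, ZMod 3))) ∧
      ((M ⊓ E).subgroupOf E).map (QuotientGroup.mk' (pCore p ↥E)) =
        center (↥E ⧸ pCore p ↥E))) ∧
  ∀ m : ℕ, Nonempty (↥E ⧸ pCore p ↥E ≃* ↥(alternatingGroup (Fin (2 * m + 1)))) →
    ∃ n : ℕ, 2 * m + 1 = 2 ^ n + 1

/-- A subnormal block outside `M`. -/
structure GB (p : ℕ) (T M E : Subgroup G) : Prop where
  blk : IsBaumannBlock p T E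
  sub : E.IsSubnormal
  nle : ¬ E ≤ M
  star : M ⊓ E ≤ cStarOf p T
  sep : ∃ Y ≤ Bm p T, ⁅OZ p (pCore p G), Y⁆ ≤ E ∧ ∀ e ∈ E, cj e Y ≤ M → e ∈ M
  typ : Typ p T M E

/-- The type of a linear block. -/
def PT (p : ℕ) : Prop :=
  ∀ (G : Type u) [Group G] [Finite G] (T M L : Subgroup G), IsPGroup p T → R1 p T M L →
    RO p (Bm p T) L (pCoreOf p L) → Typ p T M (pResOf p L)

def PL (p : ℕ) : Prop :=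
  ∀ (G : Type u) [Group G] [Finite G] (T M : Subgroup G), Set0 p T M → LD p T M →
    ∃ E, GB p T M E

/-- Splitting of extensions of symmetric groups. -/
def PZ : Prop :=
  ∀ (H : Type u) [Group H] [Finite H] (m : ℕ) (σ : H →* Equiv.Perm (Fin m)) (W : Subgroup H)
    (a : H), Function.Surjective σ → W.Normal → W ≤ σ.ker → IsPGroup 2 σ.ker → a ^ 2 ∈ W →
    (σ a).IsSwap → pResOf 2 (⊤ : Subgroup H) ⊔ zpowers a = ⊤ →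
    ⁅σ.ker ⊓ pResOf 2 (⊤ : Subgroup H), pResOf 2 (⊤ : Subgroup H)⁆ ≤ W →
    (4 ≤ m → ∃ k : H, (σ a).Disjoint (σ (k * a * k⁻¹)) ∧ ⁅a, k * a * k⁻¹⁆ ∈ W) →
    σ.ker ⊓ pResOf 2 (⊤ : Subgroup H) ≤ W

/-- The symmetric block. -/
structure SB (T V K E : Subgroup G) {n : ℕ} (σ : K →* Equiv.Perm (Fin (2 ^ n + 1))) : Prop where
  le : E ≤ K
  res : pResOf 2 E = E
  nK : K ≤ 𝐍⟮E⟯
  nB : Bm 2 T ≤ 𝐍⟮E⟯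
  img : (E.subgroupOf K).map σ = alternatingGroup (Fin (2 ^ n + 1))
  pg : IsPGroup 2 ↥(E ⊓ 𝐂⟮V⟯)
  cc : ⁅E ⊓ 𝐂⟮V⟯, E⁆ ≤ ⁅V, E⁆
  VE : ⁅V, E⁆ ≤ E
  cB : ⁅E, Bm 2 T⁆ = E
  lift : ∀ a : K, (a : G) ∈ T → (σ a).IsSwap → ∃ y : K, (y : G) ∈ Bm 2 T ∧ σ y = σ a ∧
    (y : G) ^ 2 = 1 ∧ ⁅V, zpowers (y : G)⁆ ≤ ⁅V, E⁆ ∧
    ∀ b : K, (b : G) ∈ Bm 2 T → (σ b).IsSwap → σ b ≠ σ a → ⁅(y : G), (b : G)⁆ ∈ ⁅V, E⁆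

def PS1 : Prop :=
  ∀ (G : Type u) [Group G] [Finite G] (T M V K : Subgroup G) (n : ℕ) σ ψ, Set0 2 T M →
    SD T M V K n σ ψ → ∃ E, SB T V K E σ

def PS2 : Prop :=
  ∀ (G : Type u) [Group G] [Finite G] (T M V K E : Subgroup G) (n : ℕ) σ ψ, Set0 2 T M →
    SD T M V K n σ ψ → SB T V K E σ → E ⊓ 𝐂⟮V⟯ ≤ ⁅V, E⁆

def PS3 : Prop :=
  ∀ (G : Type u) [Group G] [Finite G] (T M V K E : Subgroup G) (n : ℕ) σ ψ, Set0 2 T M →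
    SD T M V K n σ ψ → SB T V K E σ → E ⊓ 𝐂⟮V⟯ ≤ ⁅V, E⁆ →
    BD 2 (Bm 2 T) E ∧ pCoreOf 2 E = E ⊓ 𝐂⟮V⟯

def PS4 : Prop :=
  ∀ (G : Type u) [Group G] [Finite G] (T M V K E : Subgroup G) (n : ℕ) σ ψ, Set0 2 T M →
    SD T M V K n σ ψ → SB T V K E σ → BD 2 (Bm 2 T) E → pCoreOf 2 E = E ⊓ 𝐂⟮V⟯ → GB 2 T M E

/-- Recognition of transpositions. -/
def PW : Prop :=
  ∀ (G : Type u) [Group G] [Finite G] (K U U₀ : Subgroup G) (n : ℕ)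
    (σ : K →* Equiv.Perm (Fin (2 ^ n + 1))) ψ (a : K), 1 ≤ n →
    PermData (2 ^ n + 1) K U U₀ σ ψ → σ a ≠ 1 → σ a ^ 2 = 1 →
    𝐂⟮zpowers (a : G)⟯.relIndex U ≤ 2 → (σ a).IsSwap

end Cfsg.Agent.Spc.Pu
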