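import Cfsg.Agent.Spc.GnB
import Cfsg.Agent.Spc.PuDef

/-! The bilinear non-degeneracy used for odd automorphism groups. -/

namespace Cfsg.Agent.Spc.Od

open Subgroup Cfsg.Agent.LocalEven Cfsg.Agent.PLocal Cfsg.Agent.Push Cfsg.Agent.BHS
open Cfsg.Agent.Glaub hiding cent_anti
open scoped commutatorElement MatrixGroups

universe u

variable {G : Type u} [Group G] [Finite G]

theorem h2c_core {p : ℕ} [Fact p.Prime] {V P T M A B : Subgroup G} {D : Set (Subgroup G)} {q : ℕ}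
    (hD : TvSet p V P D q) (st : Star p V P D T M) (hA : A ∈ D) (hAT : A ≤ T) (hB : B ∈ D)
    (hBM : ¬ B ≤ M) (hc : ¬ A ≤ 𝐂⟮B⟯) {y v : G} (hy : y ∈ wJ D T) (hv : v ∈ V)
    (hu : ⁅v, y⁆ ∈ 𝐂⟮pResOf p P⟯) : y ∈ 𝐂⟮A ⊔ B⟯ ⊓ 𝐂⟮⁅V, A ⊔ B⁆⟯ ∨ v ∈ 𝐂⟮A⟯ := by
  obtain ⟨g, -⟩ := st.good' hD hA (hAT.trans st.le) hB hBM hc
  have hL : A ⊔ B ≤ P := sup_le (hD.le A hA) (hD.le B hB)
  have sy := Gn.syl_good g hD hA le_sup_left
  have h1 : ⁅v, y⁆ ∈ 𝐂⟮A⟯ := cent_anti (Push.le_wJ hA hAT)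
    (st.quad_wJ hD (commutator_mem_commutator hv hy)).2
  have h2 : ⁅v, y⁆ ∈ 𝐂⟮A ⊔ B⟯ := by
    rw [← sy.pResOf_sup, centralizer_sup']
    exact ⟨cent_anti (pResOf_mono hL) hu, h1⟩
  obtain ⟨a, ha, hc'⟩ := st.exists_dec hD hA hAT hB hBM hc (wJ_le hy)
    (le_cent_comm (st.comm_wJ hD hA hAT) hy)
  have hcP : a⁻¹ * y ∈ P := mul_mem (inv_mem (hD.le A hA ha)) (st.syl.le (wJ_le hy))
  obtain ⟨c, rfl⟩ : ∃ c, y = a * c := ⟨a⁻¹ * y, by group⟩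
  rw [inv_mul_cancel_left] at hc' hcP
  have hU := hD.mod.comm_le hL
  obtain ⟨r, hr, z, hz, rfl⟩ := (mem_sup_iff_of_le_normalizer' (H := V ⊓ 𝐂⟮A ⊔ B⟯)
    (N := ⁅V, A ⊔ B⁆) ((inf_le_left.trans (hD.mod.comm.trans (cent_anti hU))).trans
      (centralizer_le_normalizer _))).1 (g.dec hv)
  have e1 : r * c = c * r := hc'.2 r hr
  have hw : c * z * c⁻¹ ∈ 𝐂⟮A ⊔ B⟯ := mul_mem (mul_mem hc'.1 hz.2) (inv_mem hc'.1)
  have hwV : c * z * c⁻¹ ∈ V := conj_mem_of_mem_normalizer (hD.mod.norm hcP) hz.1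
  have e2 : a * (c * z * c⁻¹) = (c * z * c⁻¹) * a := hw a (mem_sup_left ha)
  have e3 : a * z = z * a := hz.2 a (mem_sup_left ha)
  have e4 : r * (c * z * c⁻¹ * z⁻¹) = (c * z * c⁻¹ * z⁻¹) * r :=
    hD.mod.comm (mul_mem hwV (inv_mem hz.1)) r (hU hr)
  have h3 : a * (r * z) * a⁻¹ * (r * z)⁻¹ ∈ 𝐂⟮A ⊔ B⟯ := by
    have k := mul_mem (inv_mem h2) (inv_mem (mul_mem hw (inv_mem hz.2)))
    convert k using 1
    rw [eq_mul_inv_iff_mul_eq, commutatorElement_inv, commutatorElement_def]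
    have e5 : a * c * (r * z) * (a * c)⁻¹ = a * r * a⁻¹ * (c * z * c⁻¹) := by
      calc a * c * (r * z) * (a * c)⁻¹ = a * (c * r) * z * c⁻¹ * a⁻¹ := by group
        _ = a * r * a⁻¹ * (a * (c * z * c⁻¹)) * a⁻¹ := by rw [← e1]; group
        _ = _ := by rw [e2]; group
    have e6 : a * (r * z) * a⁻¹ = a * r * a⁻¹ * z := by
      calc a * (r * z) * a⁻¹ = a * r * a⁻¹ * (a * z) * a⁻¹ := by group
        _ = _ := by rw [e3]; group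
    rw [e5, e6]
    generalize c * z * c⁻¹ = w at e4
    calc a * r * a⁻¹ * z * (r * z)⁻¹ * (w * z⁻¹)
        = a * r * a⁻¹ * r⁻¹ * ((w * z⁻¹) * r) * r⁻¹ := by group
      _ = _ := by rw [← e4]; group
  rcases (g.nat A hA le_sup_left).s2 a ha _ hv h3 with k | k
  · left
    have : a = 1 := mem_bot.1 (hD.mod.faith.le ⟨hD.le A hA ha, k⟩)
    rwa [this, one_mul]
  · exact Or.inr k

theorem h2c {S M : Subgroup G} (hS : IsSylowIn 2 S ⊤) (h : MinIn S ⊤ M)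
    (hG : 𝐂⟮pCore 2 G⟯ ≤ pCore 2 G) (hz : 𝐂⟮OZ 2 S⟯ ≤ M) (hJ : 𝐍⟮Jt 2 S⟯ ≤ M) :
    ∃ J₁ W₁ : Subgroup G, pCore 2 G ≤ J₁ ∧ ¬ Jt 2 S ≤ J₁ ∧ OZ 2 (pCore 2 G) ⊓ 𝐂⟮Jt 2 S⟯ ≤ W₁ ∧
      ¬ OZ 2 (pCore 2 G) ≤ W₁ ∧ ∀ y ∈ Jt 2 S, ∀ w ∈ OZ 2 (pCore 2 G),
        ⁅w, y⁆ ∈ 𝐂⟮pResOf 2 (⊤ : Subgroup G)⟯ → y ∈ J₁ ∨ w ∈ W₁ := by
  haveI : Fact (Nat.Prime 2) := ⟨Nat.prime_two⟩
  haveI i0 := Transfer.omegaOneCenter_normal (p := 2) (pCore 2 G)
  have hOS : pCore 2 G ≤ S := pCoreOf_top.ge.trans hS.pCoreOf_le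
  have hZ : OZ 2 S ≤ OZ 2 (pCore 2 G) := fun x hx => by
    obtain ⟨h1, h2, h3⟩ := mem_omegaOneCenter.1 hx
    exact mem_omegaOneCenter.2 ⟨hG (cent_anti hOS h2), cent_anti hOS h2, h3⟩
  have hV : IsElementaryAbelian 2 (OZ 2 (pCore 2 G)) := Transfer.ea_omegaOneCenter _
  have hO : pCore 2 G ≤ 𝐂⟮OZ 2 (pCore 2 G)⟯ := Transfer.le_centralizer_omegaOneCenter _
  have hVS : OZ 2 (pCore 2 G) ≤ S := (omegaOneCenter_le _).trans hOS
  generalize OZ 2 (pCore 2 G) = V at i0 hZ hV hO hVS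
  have hc : 𝐂⟮V ⊓ 𝐂⟮S⟯⟯ ≤ M :=
    (cent_anti (le_inf hZ (omegaOneCenter_le_centralizer _))).trans hz
  have hcV : 𝐂⟮V⟯ ≤ M := (cent_anti inf_le_left).trans hc
  have mp := minPar_hol hV hS h hO hc
  obtain ⟨X₀, hX₀, hX₀V⟩ : ∃ X ∈ Transfer.MaxEA 2 S, ¬ X ≤ 𝐂⟮V⟯ := by
    by_contra e
    push Not at e
    have := (minIn_le_pCoreOf h hS.pgrp le_normalizer_of_normal hcV
      (hS.pgrp.to_le (jt_le _))
      (Transfer.thompsonSubgroupOf_le_iff.2 e)).trans pCoreOf_top.le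
    refine h.lt.not_ge (le_trans ?_ hJ)
    rw [← jt_eq_of_le this hOS]
    haveI := Transfer.thompsonSubgroupOf_normal (p := 2) (pCore 2 G)
    exact le_normalizer_of_normal
  obtain ⟨A, a0, m⟩ := exists_minOff_hol (Or.inr rfl) hV hS.pgrp hVS hX₀ hX₀V
  have hD := mp.tvSet (a0.trans (map_mono le_top)) m
  have hA : A ∈ {X | ∃ g ∈ (⊤ : Subgroup G).map (holRep V), cj g A = X} :=
    ⟨1, one_mem _, cj_one _⟩
  generalize {X | ∃ g ∈ (⊤ : Subgroup G).map (holRep V), cj g A = X} = D at hD hA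
  obtain ⟨st, -⟩ := mp.star hD hA
  have hAT : A ≤ S.map (holRep V) := a0.trans (map_mono hX₀.1)
  have hAJ : A ≤ (Jt 2 S).map (holRep V) :=
    a0.trans (map_mono (Transfer.le_thompsonSubgroupOf hX₀))
  obtain ⟨B, hB, hBM, hAB⟩ := mp.exists_nc hD hA
  have j1 : (Jt 2 S).map (holRep V) ≤ wJ D (S.map (holRep V)) := by
    rw [map_le_iff_le_comap, Transfer.thompsonSubgroupOf_le_iff]
    intro X hX
    rw [← map_le_iff_le_comap]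
    exact (mp.le_wJ hD hA (map_mono le_top) (off_hol hV hVS hX).1 (off_hol hV hVS hX).2).trans
      (sSup_le_sSup fun Z hZ => ⟨hZ.1, hZ.2.trans (map_mono hX.1)⟩)
  have eA : (A.comap (holRep V)).map (holRep V) = A :=
    map_comap_eq_self (hAT.trans (map_le_range _ _))
  have hI : ∀ {v}, v ∈ V → holI V v ∈ holV V := fun hv => by
    rw [← holImg_self]; exact (holI_mem hv).2 hv
  refine ⟨(𝐂⟮A ⊔ B⟯ ⊓ 𝐂⟮⁅holV V, A ⊔ B⁆⟯).comap (holRep V), 𝐂⟮A.comap (holRep V)⟯,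
    fun x hx => ?_, fun e => hAB ?_, fun v hv => ?_, fun e => ?_, fun y hy w hw hu => ?_⟩
  · rw [mem_comap, holRep_eq_one_iff.2 (hO hx)]; exact one_mem _
  · exact hAJ.trans ((map_le_iff_le_comap.2 e).trans (inf_le_left.trans (cent_anti le_sup_right)))
  · rw [← holI_mem_cent hv.1, eA]
    exact cent_anti hAJ ((holI_mem_cent hv.1).2 hv.2)
  · have := (holImg_le_cent (V := V) le_rfl).2 e
    rw [holImg_self, eA] at this
    exact (hD.tv A hA).ne (eq_bot_iff.2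
      ((le_inf (hD.le A hA) (le_cent_comm this)).trans hD.mod.faith.le))
  · have hy' : y * w⁻¹ * y⁻¹ ∈ V := Normal.conj_mem inferInstance _ (inv_mem hw) y
    have e : ⁅holI V w, holRep V y⁆ = holI V ⁅w, y⁆ := by
      have e0 : holI V w⁻¹ = (holI V w)⁻¹ := by
        rw [holI_eq hw, holI_eq (inv_mem hw), ← map_inv]; rfl
      rw [commutatorElement_def, commutatorElement_def,
        show w * y * w⁻¹ * y⁻¹ = w * (y * w⁻¹ * y⁻¹) by group, holI_mul hw hy',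
        ← holI_conj y (inv_mem hw), e0]
      group
    have hm : ⁅w, y⁆ ∈ V := by
      rw [commutatorElement_def, show w * y * w⁻¹ * y⁻¹ = w * (y * w⁻¹ * y⁻¹) by group]
      exact mul_mem hw hy'
    rcases h2c_core hD st hA hAT hB hBM hAB (j1 (mem_map_of_mem _ hy)) (hI hw) (by
      rw [e, ← map_pResOf]; exact (holI_mem_cent hm).2 hu) with k | k
    · exact Or.inl k
    · right
      rw [← holI_mem_cent hw, eA]; exact k

end Cfsg.Agent.Spc.Od
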