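import Cfsg.Agent.Spc.GnB
import Cfsg.Agent.Spc.PuDef

/-! A transvection group in the Thompson subgroup. -/

namespace Cfsg.Agent.Spc.Od

open Subgroup Cfsg.Agent.LocalEven Cfsg.Agent.PLocal Cfsg.Agent.Push Cfsg.Agent.BHS
open Cfsg.Agent.Glaub hiding cent_anti
open scoped commutatorElement MatrixGroups

universe u

variable {G : Type u} [Group G] [Finite G] {S M : Subgroup G}

theorem h2h (hS : IsSylowIn 2 S ⊤) (h : MinIn S ⊤ M) (hG : 𝐂⟮pCore 2 G⟯ ≤ pCore 2 G)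
    (hz : 𝐂⟮OZ 2 S⟯ ≤ M) (hJ : 𝐍⟮Jt 2 S⟯ ≤ M) :
    ∃ J₁ W₁ : Subgroup G, pCore 2 G ≤ J₁ ∧ ¬ Jt 2 S ≤ J₁ ∧ OZ 2 (pCore 2 G) ⊓ 𝐂⟮Jt 2 S⟯ ≤ W₁ ∧
      ¬ OZ 2 (pCore 2 G) ≤ W₁ ∧ ∀ y ∈ Jt 2 S, ∀ w ∈ OZ 2 (pCore 2 G),
        ⁅w, y⁆ ∈ 𝐂⟮pResOf 2 (⊤ : Subgroup G)⟯ → y ∈ J₁ ∨ w ∈ W₁ := by
  haveI : Fact (Nat.Prime 2) := ⟨Nat.prime_two⟩
  haveI i0 := Transfer.omegaOneCenter_normal (p := 2) (pCore 2 G)
  obtain ⟨V, hVd⟩ : ∃ V, V = OZ 2 (pCore 2 G) := ⟨_, rfl⟩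
  haveI : V.Normal := hVd ▸ i0
  rw [← hVd]
  have hV : IsElementaryAbelian 2 V := hVd ▸ Transfer.ea_omegaOneCenter _
  have hO : pCore 2 G ≤ 𝐂⟮V⟯ := hVd ▸ Transfer.le_centralizer_omegaOneCenter _
  have hOS : pCore 2 G ≤ S := pCoreOf_top.ge.trans hS.pCoreOf_le
  have hVS : V ≤ S := (hVd ▸ omegaOneCenter_le _ : V ≤ pCore 2 G).trans hOS
  have hZ : OZ 2 S ≤ V := hVd ▸ fun x hx => by
    obtain ⟨-, h2, h3⟩ := mem_omegaOneCenter.1 hx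
    exact mem_omegaOneCenter.2 ⟨hG (cent_anti hOS h2), cent_anti hOS h2, h3⟩
  have hc : 𝐂⟮V ⊓ 𝐂⟮S⟯⟯ ≤ M :=
    (cent_anti (le_inf hZ (omegaOneCenter_le_centralizer _))).trans hz
  have hcV : 𝐂⟮V⟯ ≤ M := (cent_anti inf_le_left).trans hc
  have mp := minPar_hol hV hS h hO hc
  obtain ⟨X₀, hX₀, hX₀V⟩ : ∃ X ∈ Transfer.MaxEA 2 S, ¬ X ≤ 𝐂⟮V⟯ := by
    by_contra e
    push Not at e
    have := (minIn_le_pCoreOf h hS.pgrp le_normalizer_of_normal hcV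
      (hS.pgrp.to_le (jt_le _))
      (Transfer.thompsonSubgroupOf_le_iff.2 e)).trans pCoreOf_top.le
    refine h.lt.not_ge (le_trans ?_ hJ)
    rw [← jt_eq_of_le this hOS]
    haveI := Transfer.thompsonSubgroupOf_normal (p := 2) (pCore 2 G)
    exact le_normalizer_of_normal
  obtain ⟨A, a0, m⟩ := exists_minOff_hol (Or.inr rfl) hV hS.pgrp hVS hX₀ hX₀V
  have hD := mp.tvSet (a0.trans (map_mono le_top)) m
  have hA : A ∈ {X | ∃ g ∈ (⊤ : Subgroup G).map (holRep V), cj g A = X} :=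
    ⟨1, one_mem _, cj_one _⟩
  generalize {X | ∃ g ∈ (⊤ : Subgroup G).map (holRep V), cj g A = X} = D at hD hA
  generalize Nat.card A = q at hD
  obtain ⟨st, -⟩ := mp.star hD hA
  have hAT : A ≤ S.map (holRep V) := a0.trans (map_mono hX₀.1)
  have hAJ : A ≤ (Jt 2 S).map (holRep V) :=
    a0.trans (map_mono (Transfer.le_thompsonSubgroupOf hX₀))
  obtain ⟨B, hB, hBM, hAB⟩ := mp.exists_nc hD hA
  obtain ⟨g, -⟩ := st.good' hD hA (hAT.trans st.le) hB hBM hAB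
  have j1 : (Jt 2 S).map (holRep V) ≤ wJ D (S.map (holRep V)) := by
    rw [map_le_iff_le_comap, Transfer.thompsonSubgroupOf_le_iff]
    intro X hX
    rw [← map_le_iff_le_comap]
    exact (mp.le_wJ hD hA (map_mono le_top) (off_hol hV hVS hX).1 (off_hol hV hVS hX).2).trans
      (sSup_le_sSup fun Z hZ => ⟨hZ.1, hZ.2.trans (map_mono hX.1)⟩)
  have eA : (A.comap (holRep V)).map (holRep V) = A :=
    map_comap_eq_self (hAT.trans (map_le_range _ _))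
  have hL : A ⊔ B ≤ (pResOf 2 (⊤ : Subgroup G)).map (holRep V) ⊔ wJ D (S.map (holRep V)) := by
    refine sup_le (le_sup_of_le_right (Push.le_wJ hA hAT)) ?_
    obtain ⟨_, ⟨k, -, rfl⟩, hk⟩ := st.syl.exists_le_cj (hD.tv B hB).pgrp (hD.le B hB)
    obtain ⟨e, he, t, ht, rfl⟩ := hS.exists_mul_eq (mem_top k)
    rw [map_mul, cj_mul, cj_eq_of_mem (mem_map_of_mem _ ht)] at hk
    have h1 := Push.le_wJ (hD.conj B hB _ (inv_mem (mem_map_of_mem (holRep V) (mem_top e))))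
      (le_cj_iff.1 hk)
    exact (le_cj_iff.2 h1).trans (cj_le_of_mem (mem_sup_left (mem_map_of_mem _ he)) le_sup_right)
  refine ⟨(𝐂⟮A ⊔ B⟯ ⊓ 𝐂⟮⁅holV V, A ⊔ B⁆⟯).comap (holRep V), 𝐂⟮A.comap (holRep V)⟯,
    fun x hx => ?_, fun e => hAB ?_, ?_, fun e => ?_, fun y hy w hw hc' => ?_⟩
  · rw [mem_comap, holRep_eq_one_iff.2 (hO hx)]; exact one_mem _
  · exact hAJ.trans ((map_le_iff_le_comap.2 e).trans (inf_le_left.trans (cent_anti le_sup_right)))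
  · rw [← holImg_le_cent (V := V) inf_le_left, eA, ← holImg_inf_cent]
    exact inf_le_right.trans (cent_anti hAJ)
  · rw [← holImg_le_cent (V := V) le_rfl, eA, holImg_self] at e
    exact (hD.tv A hA).ne (eq_bot_iff.2 ((le_inf (hD.le A hA) (le_cent_comm e)).trans mp.faith.le))
  have yJ := j1 (mem_map_of_mem (holRep V) hy)
  obtain ⟨a, ha, hc2⟩ := st.exists_dec hD hA hAT hB hBM hAB (wJ_le yJ)
    (le_cent_comm (st.comm_wJ hD hA hAT) yJ)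
  by_cases a1 : a = 1
  · left
    rw [a1, inv_one, one_mul] at hc2
    exact hc2
  right
  rw [← holI_mem_cent (V := V) hw, eA]
  have uV : holI V w ∈ holV V := holImg_self (V := V) ▸ (holI_mem hw).2 hw
  have xN : holRep V y ∈ 𝐍⟮holV V⟯ := mp.norm (mem_map_of_mem _ (mem_top y))
  have z1 : holRep V y * holI V w * (holRep V y)⁻¹ * (holI V w)⁻¹ ∈ 𝐂⟮A ⊔ B⟯ := by
    refine cent_anti hL ?_
    rw [centralizer_sup']
    constructor
    · have w1 : y * w * y⁻¹ ∈ V := Normal.conj_mem inferInstance w hw y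
      have w2 : y * w * y⁻¹ * w⁻¹ ∈ V := V.mul_mem w1 (V.inv_mem hw)
      have e1 : holI V (y * w * y⁻¹ * w⁻¹) * holI V w = holI V (y * w * y⁻¹) := by
        rw [← holI_mul w2 hw, inv_mul_cancel_right]
      rw [holI_conj y hw, ← e1, mul_inv_cancel_right]
      refine (holI_mem_cent w2).2 ?_
      have := inv_mem hc'
      rwa [commutatorElement_inv] at this
    · have := inv_mem (mem_inf.1 ((st.quad_wJ hD) (commutator_mem_commutator uV yJ))).2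
      rwa [commutatorElement_inv] at this
  have hP : A ⊔ B ≤ (⊤ : Subgroup G).map (holRep V) := sup_le (hD.le A hA) (hD.le B hB)
  obtain ⟨r, hr, c, hcc, e⟩ := (mem_sup_iff_of_le_normalizer (((hD.mod.comm_le hP).trans
    (hD.mod.comm.trans (cent_anti inf_le_left))).trans (centralizer_le_normalizer _))).1 (g.dec uV)
  have rV := hD.mod.comm_le hP hr
  rw [← e] at z1 ⊢
  rw [comm_mul_right hD.mod.comm xN rV hcc.1] at z1
  obtain ⟨d, hd⟩ : ∃ d, holRep V y = a * d ∧ d ∈ 𝐂⟮A ⊔ B⟯ ⊓ 𝐂⟮⁅holV V, A ⊔ B⁆⟯ :=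
    ⟨_, by rw [mul_inv_cancel_left], hc2⟩
  rw [hd.1] at z1
  have aL : a ∈ A ⊔ B := mem_sup_left ha
  have k1 : a * d * r * (a * d)⁻¹ * r⁻¹ = a * r * a⁻¹ * r⁻¹ := by
    have := hd.2.2 r hr
    rw [mul_assoc a d r, ← this]; group
  have k2 : a * d * c * (a * d)⁻¹ * c⁻¹ ∈ 𝐂⟮A ⊔ B⟯ := by
    have k3 : d * c * d⁻¹ ∈ 𝐂⟮A ⊔ B⟯ := mul_mem (mul_mem hd.2.1 hcc.2) (inv_mem hd.2.1)
    have k4 := k3 a aL
    have : a * d * c * (a * d)⁻¹ = d * c * d⁻¹ := by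
      rw [show a * d * c * (a * d)⁻¹ = a * (d * c * d⁻¹) * a⁻¹ by group, k4]; group
    rw [this]
    exact mul_mem k3 (inv_mem hcc.2)
  rw [k1] at z1
  have z2 : a * r * a⁻¹ * r⁻¹ ∈ 𝐂⟮A ⊔ B⟯ := by
    have := mul_mem z1 (inv_mem k2)
    rwa [mul_inv_cancel_right] at this
  rcases (g.nat A hA le_sup_left).s2 a ha r rV z2 with k | k
  · exact absurd (hD.mod.eq_one (hD.le A hA ha) k) a1
  · exact mul_mem k (cent_anti le_sup_left hcc.2)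

end Cfsg.Agent.Spc.Od
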