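import Cfsg.Agent.Push.PY

/-! Refined output of the rank one pushing-up analysis (piece `PA`, part one). -/

namespace Cfsg.Agent.Spc.PuA

open Subgroup Cfsg.Agent.LocalEven Cfsg.Agent.PLocal Cfsg.Agent.Push
open Cfsg.Agent.Glaub hiding cent_anti
open scoped MatrixGroups commutatorElement

universe u

variable {G G' : Type u} [Group G] [Group G'] {φ : G →* G'} {p f : ℕ}
  {S L M T V A L' M' T' V' W X U N₀ N₁ : Subgroup G}

theorem xb_of_map (hf : Function.Injective φ) {W X : Subgroup G}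
    (h : XB p (S.map φ) (L.map φ) (T.map φ) (V.map φ) (W.map φ) (X.map φ)) :
    XB p S L T V W X := by
  have l : ∀ {A B : Subgroup G}, A.map φ ≤ B.map φ → A ≤ B := (map_le_map_iff_of_injective hf).1
  have m : ∀ {A : Subgroup G} {x}, φ x ∈ A.map φ ↔ x ∈ A := mem_map_iff_mem hf
  have c : ∀ a x, φ a * φ x * (φ a)⁻¹ * (φ x)⁻¹ = φ (a * x * a⁻¹ * x⁻¹) := by simp
  refine ⟨l h.VW, l h.WX, l h.XT, fun x hx => mem_norm_of_map hf (h.nX (m.2 hx)),
    l (by rw [map_commutator, map_pResOf_of_injective _ hf]; exact h.res),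
    l (by rw [map_commutator]; exact h.XS), l (by rw [map_commutator]; exact h.WS),
    fun k hk e x hx => ?_, fun x hx a ha hT e => m.1 (h.fix _ (m.2 hx) _ (m.2 ha) (mt m.1 hT)
      (c a x ▸ m.2 e)), fun e => h.nle (map_mono e), ?_, fun x hx => m.1 (map_pow φ x p ▸ h.pw _ (m.2 hx)),
    l (by rw [Subgroup.map_sup, map_commutator]; exact h.dec),
    fun x hx e => m.1 (h.cen _ (m.2 hx) ?_), ?_, fun e => h.cl (by
      rw [← map_commutator, ← map_commutator, e, Subgroup.map_bot])⟩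
  · have := h.ker _ (m.2 hk) (by
      rintro _ ⟨v, hv, rfl⟩; exact c k v ▸ (Push.map_mem_cent hf).2 (e v hv)) _ (m.2 hx)
    rwa [c, ← map_inf_cent' hf, m] at this
  · have := h.idx
    rwa [relIndex_map_map_of_injective _ _ hf, relIndex_map_map_of_injective _ _ hf] at this
  · rintro _ ⟨l, hl, rfl⟩; exact c l x ▸ m.2 (e l hl)
  · obtain ⟨_, ⟨y, hy, rfl⟩, e⟩ := h.nine
    exact ⟨y, hy, fun e' => e (by rw [← map_pow, e', map_one])⟩

/-- The refined structure. -/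
def Out2 (p : ℕ) (S L T V : Subgroup G) : Prop :=
  (∃ Y ≤ S, IsElementaryAbelian p Y ∧ Y ⊔ T = S ∧ ⁅T, Y⁆ ≤ ⁅T, pResOf p L⁆) ∧
    (⁅T, pResOf p L⁆ ≤ V ∨ (p = 3 ∧ ∃ W X : Subgroup G, XB p S L T V W X ∧ W ≤ 𝐂⟮W⟯ ∧
      T.relIndex S ≤ Nat.card ↥⁅X, X⁆ ∧
      ∀ b ∈ S, b ∉ T → ¬ ⁅⁅X, zpowers b⁆, zpowers b⁆ ≤ 𝐂⟮L⟯))

theorem Out2.of_map (hf : Function.Injective φ)
    (h : Out2 p (S.map φ) (L.map φ) (T.map φ) (V.map φ)) : Out2 p S L T V := by
  have l : ∀ {A B : Subgroup G}, A.map φ ≤ B.map φ → A ≤ B := (map_le_map_iff_of_injective hf).1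
  obtain ⟨⟨Y, y1, y2, y3, y4⟩, h2⟩ := h
  obtain ⟨Y, rfl⟩ : ∃ R₀, map φ R₀ = Y := ⟨_, map_comap_eq_self (y1.trans (map_le_range φ _))⟩
  refine ⟨⟨Y, l y1, elemAb_of_map_injective φ hf y2, map_injective hf (by
    rw [Subgroup.map_sup]; exact y3), l (by
      rw [map_commutator, map_commutator, map_pResOf_of_injective _ hf]; exact y4)⟩,
    h2.imp (fun h => l (by rw [map_commutator, map_pResOf_of_injective _ hf]; exact h)) ?_⟩
  rintro ⟨h3, W, X, x, w, c, b⟩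
  obtain ⟨X, rfl⟩ : ∃ R₀, map φ R₀ = X := ⟨_, map_comap_eq_self (x.XT.trans (map_le_range φ _))⟩
  obtain ⟨W, rfl⟩ : ∃ R₀, map φ R₀ = W := ⟨_, map_comap_eq_self (x.WX.trans (map_le_range φ _))⟩
  refine ⟨h3, W, X, xb_of_map hf x, (map_le_cent_iff' hf).1 w, ?_, fun a ha haT e => ?_⟩
  · rwa [relIndex_map_map_of_injective _ _ hf, ← map_commutator,
      Nat.card_congr (equivMapOfInjective _ φ hf).toEquiv.symm] at c
  · refine b (φ a) ⟨a, ha, rfl⟩ (mt (mem_map_iff_mem hf).1 haT) ?_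
    rw [← MonoidHom.map_zpowers, ← map_commutator, ← map_commutator]
    exact Push.map_le_cent e

variable [Finite G] [hp : Fact p.Prime]

theorem vs_le (h : St p S L M T V f) : ⁅V, S⁆ ≤ ⁅T, pResOf p L⁆ := by
  obtain ⟨e, he, hM⟩ := h.exists_e
  have eL := pResOf_le L he
  have n : L ≤ 𝐍⟮⁅T, pResOf p L⁆⟯ := le_normalizer_commutator h.nT (le_normalizer_pResOf L)
  have k := (h.idx_pair (h.conj eL).toPN (h.sup_cj eL hM)).2
  rw [← cj_inf_cent (h.nrm eL)] at k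
  have k2 : V ≤ (V ⊓ 𝐂⟮S⟯) ⊔ ⁅T, pResOf p L⁆ := k.trans (sup_le le_sup_left (cj_le_iff'.2
    fun w hw => by
      rw [show e * w * e⁻¹ = e * w * e⁻¹ * w⁻¹ * w by group]
      exact mul_mem (mem_sup_right (comm_mem' (h.le hw.1) he)) (mem_sup_left hw)))
  exact (commutator_mono k2 le_rfl).trans (commutator_sup_left_le ((comm_bot_of_le_cent
    inf_le_right).le.trans bot_le) (comm_le_left (h.syl.le.trans n))
    ((inf_le_left.trans (h.VS.trans h.syl.le)).trans n) le_normalizer)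

theorem outA (h : St p S L M T V f) (h' : St p S L' M' T' V' f) (hV : ¬ V' ≤ T) :
    Out2 p S L T V := by
  have n : S ≤ 𝐍⟮⁅T, pResOf p L⁆⟯ :=
    h.syl.le.trans (le_normalizer_commutator h.nT (le_normalizer_pResOf L))
  refine ⟨⟨V', h'.VS, h'.ea, h.sup_eq' h'.cV hV, ?_⟩, Or.inl (h.caseA h' hV).2.2.1⟩
  have hV' : ¬ V ≤ T' := fun e => hV ((le_inf h'.VS (h'.cen.trans (cent_anti e))).trans h.ker)
  have z' : V' ⊓ T ≤ S ⊓ 𝐂⟮S⟯ := (inf_le_inf_left _ (le_cent_comm h.cen)).trans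
    ((h'.cfix h.VS hV').le.trans (inf_le_inf_right _ h'.VS))
  have e1 : (V ⊔ V') ⊓ T = V := by
    rw [inf_sup_of_le_normalizer (h.VS.trans h'.SN) h.le, sup_eq_left.2 (z'.trans h.zS)]
  have e2 : S ⊓ 𝐂⟮V ⊔ V'⟯ = T ⊓ T' := by rw [inf_cent_sup, h.ker', h'.ker']
  have lY : V ⊔ V' ≤ S := sup_le h.VS h'.VS
  obtain ⟨a1, -⟩ := h.cp (h.cV.sup h.bd h'.cV) (fun e => hV (le_sup_right.trans e))
    le_sup_left (e1.symm ▸ h.nrm) (by
      refine le_trans (le_inf ?_ (inf_le_right.trans (cent_anti le_sup_right)))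
        ((h.cfix h'.VS hV).le.trans inf_le_right)
      exact (le_inf inf_le_left ((inf_le_inf lY (cent_anti le_sup_left)).trans h.ker)).trans e1.le)
  have : T ≤ V ⊔ (T ⊓ T') := by
    have m := (h.cV.sup h.bd h'.cV).modular' h.bd ((h.cV.sup h.bd h'.cV).cent h.bd)
      (e2.le.trans inf_le_left)
    rw [a1, e1, e2, inf_eq_right.2 h.TS] at m
    exact m.le
  exact (commutator_mono this le_rfl).trans (commutator_sup_left_le
    ((commutator_mono le_rfl h'.VS).trans (vs_le h)) ((comm_bot_of_le_cent (inf_le_right.trans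
      (le_cent_comm h'.cen))).le.trans bot_le) (h.VS.trans n) ((inf_le_left.trans h.TS).trans n))

theorem exY (h : HB p S L M T V L' M' T' V' f) (h' : HB p S L' M' T' V' L M T V f) :
    ∃ Y ≤ S, IsElementaryAbelian p Y ∧ Y ⊔ T = S ∧ ⁅T, Y⁆ ≤ ⁅T, pResOf p L⁆ := by
  have s := h.st
  obtain ⟨e, he, hM⟩ := s.exists_e
  have eL := pResOf_le L he
  obtain ⟨e', he', hM'⟩ := h.st'.exists_e
  have eL' := pResOf_le L' he'
  have n : S ≤ 𝐍⟮⁅T, pResOf p L⁆⟯ :=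
    s.syl.le.trans (le_normalizer_commutator s.nT (le_normalizer_pResOf L))
  have yS := (h'.cjT eL').trans h.st'.TS
  have r := vs_le s
  refine ⟨cj e' V, yS, elemAb_cj s.ea e', h.YT h' eL' hM', ?_⟩
  have k1 : V ⊔ V' ⊔ cj e (V ⊔ V') ≤ (V ⊔ V') ⊔ ⁅T, pResOf p L⁆ :=
    sup_le le_sup_left (cj_le_iff'.2 fun w hw => by
      rw [show e * w * e⁻¹ = e * w * e⁻¹ * w⁻¹ * w by group]
      exact mul_mem (mem_sup_right (comm_mem' (h.WT hw) he)) (mem_sup_left hw))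
  have k2 : ⁅V ⊔ V', cj e' V⁆ ≤ ⁅T, pResOf p L⁆ := commutator_sup_left_le
    ((commutator_mono le_rfl yS).trans r) ((comm_bot_of_le_cent (h.st'.cen.trans
      (cent_anti (h'.cjT eL')))).le.trans bot_le) (s.VS.trans n) (h.st'.VS.trans n)
  have k3 : ⁅V ⊔ V' ⊔ cj e (V ⊔ V'), cj e' V⁆ ≤ ⁅T, pResOf p L⁆ :=
    (commutator_mono k1 le_rfl).trans (commutator_sup_left_le k2 (comm_le_left (yS.trans n))
      ((h.WT.trans s.TS).trans n) le_normalizer)
  have k4 : T ⊓ 𝐂⟮V ⊔ V' ⊔ cj e (V ⊔ V')⟯ ≤ T' :=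
    (inf_le_inf s.TS (cent_anti (le_sup_of_le_left le_sup_right))).trans h.st'.ker
  refine (commutator_mono (h.T_eq eL hM) le_rfl).trans (commutator_sup_left_le k3 ?_
    (((h.XT eL).trans s.TS).trans n) ((inf_le_left.trans s.TS).trans n))
  exact (commutator_mono k4 le_rfl).trans ((commutator_comm _ _).le.trans ((h'.comm_cj eL').le.trans
    ((commutator_mono le_rfl h.st'.TS).trans r)))

theorem cardX (h : HB p S L M T V L' M' T' V' f) {g : G} (hg : g ∈ L) (hM : g ∉ M) :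
    T'.relIndex S ≤ Nat.card ↥⁅V ⊔ V' ⊔ cj g (V ⊔ V'), V ⊔ V' ⊔ cj g (V ⊔ V')⁆ := by
  obtain ⟨y, hy, hyT⟩ := SetLike.not_le_iff_exists.1 (h.all g hg hM)
  have yS : y ∈ S := h.st.TS (h.cjT hg hy)
  let c := commL (comm_le_left h.st'.SN) h.st'.VV h.st'.VV yS
  have k1 : c.ker ≤ 𝐂⟮S⟯.subgroupOf V' := fun v hv => by
    have e : ⁅(v : G), y⁆ = 1 := hv
    refine h.st'.fix yS hyT v.2 ?_
    show y * (v : G) * y⁻¹ * (v : G)⁻¹ ∈ _
    rw [← commutatorElement_def, ← commutatorElement_inv, e, inv_one]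
    exact one_mem _
  have k2 : c.range ≤ ⁅V ⊔ V' ⊔ cj g (V ⊔ V'), V ⊔ V' ⊔ cj g (V ⊔ V')⁆ := by
    rintro _ ⟨v, rfl⟩
    exact commutator_mem_commutator (mem_sup_left (mem_sup_right v.2))
      (mem_sup_right (cj_mono g le_sup_right hy))
  rw [← h.st'.idxV]
  refine le_trans (Nat.le_of_dvd (Nat.pos_of_ne_zero index_ne_zero_of_finite)
    (index_dvd_of_le k1)) ?_
  rw [index_ker]
  exact card_le_of_le k2

theorem cubX (h : HB p S L M T V L' M' T' V' f) (h' : HB p S L' M' T' V' L M T V f) {g : G}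
    (hg : g ∈ L) (hM : g ∉ M) {b : G} (hb : b ∈ S) (hT : b ∉ T) :
    ¬ ⁅⁅V ⊔ V' ⊔ cj g (V ⊔ V'), zpowers b⁆, zpowers b⁆ ≤ 𝐂⟮L⟯ := fun hc => by
  have s := h.st
  obtain ⟨e', he', hM'⟩ := h.st'.exists_e
  have eL' := pResOf_le L' he'
  have yS := (h'.cjT eL').trans h.st'.TS
  obtain ⟨y, hy, t, ht, rfl⟩ := (mem_sup_iff_of_le_normalizer ((yS.trans s.syl.le).trans
      s.nT)).1 ((h.YT h' eL' hM').ge hb)
  have yL := s.syl.le (yS hy)
  have key : ∀ x ∈ V ⊔ V' ⊔ cj g (V ⊔ V'), ∃ z ∈ 𝐂⟮L⟯,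
      y * t * x * (y * t)⁻¹ * x⁻¹ = z * (y * x * y⁻¹ * x⁻¹) := fun x hx => by
    have z1 := (h.XcT hg (comm_mem' hx ht)).2
    refine ⟨_, z1, ?_⟩
    rw [← conj_eq_of_cent yL z1]; group
  refine h.all g hg hM (le_trans (fun x hx => ?_) (sup_le h.le' h.st'.le))
  have xX : x ∈ V ⊔ V' ⊔ cj g (V ⊔ V') := mem_sup_right (cj_mono g le_sup_right hx)
  refine h.cub h' hg hM eL' hM' xX hy (fun k => hT (mul_mem k ht)) ?_
  have c1 := hc (comm_mem' (comm_mem' xX (mem_zpowers (y * t))) (mem_zpowers (y * t)))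
  obtain ⟨z', hz', e2⟩ := key _ (mem_sup_left (h.XS h' hg (comm_mem' xX hb)))
  obtain ⟨z, hz, e1⟩ := key x xX
  rw [e2, e1] at c1
  have c2 := (Subgroup.mul_mem_cancel_left _ hz').1 c1
  have c3 : y * (z * (y * x * y⁻¹ * x⁻¹)) * y⁻¹ * (z * (y * x * y⁻¹ * x⁻¹))⁻¹ =
      z * (y * (y * x * y⁻¹ * x⁻¹) * y⁻¹ * (y * x * y⁻¹ * x⁻¹)⁻¹) * z⁻¹ := by
    nth_rewrite 3 [← conj_eq_of_cent yL hz]; group
  rw [c3] at c2
  exact (Subgroup.mul_mem_cancel_left _ hz).1 ((Subgroup.mul_mem_cancel_right _ (inv_mem hz)).1 c2)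

theorem xb2 (h : HB p S L M T V L' M' T' V' f) (h' : HB p S L' M' T' V' L M T V f)
    (hq : T'.relIndex S = T.relIndex S) : p = 3 ∧
      ∃ g ∈ L, g ∉ M ∧ XB p S L T V (V ⊔ V') (V ⊔ V' ⊔ cj g (V ⊔ V')) := by
  obtain ⟨rfl, g, hg, hM, hk⟩ := h.is_three h'
  have s := h.st
  have XT := h.XT hg
  have nle : ¬ cj g V' ≤ V ⊔ V' := fun e => h.all g hg hM (e.trans (sup_le h.le' h.st'.le))
  have l : cj g V' ≤ V ⊔ V' ⊔ cj g (V ⊔ V') := le_sup_of_le_right (cj_mono g le_sup_right)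
  obtain ⟨x, hx, hxW⟩ := SetLike.not_le_iff_exists.1 nle
  obtain ⟨e, he, hM'⟩ := h.st'.exists_e
  have eL := pResOf_le L' he
  obtain ⟨a, ha, haT⟩ := SetLike.not_le_iff_exists.1 (h'.all e eL hM')
  have aS := h.st'.TS (h'.cjT eL ha)
  have xS := s.TS (XT (l hx))
  have c1 := h.XS h' hg (comm_mem' (l hx) aS)
  have cX := (commutator_mono le_rfl XT).trans (h.XcT hg)
  have k := mt (h.cub h' hg hM eL hM' (l hx) ha haT) hxW
  obtain ⟨a₀, ha₀, haT₀⟩ := SetLike.not_le_iff_exists.1 s.not_le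
  refine ⟨rfl, g, hg, hM, le_sup_left, le_sup_left, XT, h.nX h' hg hM, (h.caseB h' hg hM).2,
    h.XS h' hg, h.WS.trans inf_le_left, fun k hk' e x hx => ?_, fun x hx a ha => h.fixX hg hM hx ha,
    fun e => nle (l.trans e), ?_, pow_mem_sup (cX.trans inf_le_left) ((XT.trans s.TL).trans s.nrm)
      (fun x hx => by rw [h.eaW.2 x hx]; exact one_mem _)
      fun x hx => by rw [(elemAb_cj h.eaW g).2 x hx]; exact one_mem _,
    sup_le le_sup_left (cj_le_iff'.2 fun w hw => ?_), fun x hx e => ?_, ⟨x * a, mul_mem xS aS, ?_⟩,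
    fun e => k (by rw [mem_bot.1 (e.le (comm_mem' (comm_mem aS xS) aS))]; exact one_mem _)⟩
  · exact hk (comm_mem' hx (s.mem_ker hk' fun v hv => ⟨comm_le_left s.nrm (comm_mem' hv hk'), e v hv⟩))
  · have b1 := h.cdW.card_sup s.bdT (h.cdW.conj' (s.nT hg))
    have b2 := s.cV.card_sup s.bd h.st'.cV
    have b3 := card_le_of_le (le_inf le_sup_left (le_sup_left.trans (h.cjW hg).ge) :
      V ≤ (V ⊔ V') ⊓ cj g (V ⊔ V'))
    have b4 := card_le_of_le (le_inf ((inf_le_inf_right _ h.st'.VS).trans s.zS) inf_le_left :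
      V' ⊓ 𝐂⟮S⟯ ≤ V ⊓ V')
    have b5 := card_inf_mul_relIndex' 𝐂⟮S⟯ V'
    have b6 := card_mul_relIndex (le_sup_left : V ⊔ V' ≤ V ⊔ V' ⊔ cj g (V ⊔ V'))
    rw [h.st'.idxV, hq] at b5
    rw [card_cj, ← b6, mul_assoc] at b1
    have b7 := Nat.eq_of_mul_eq_mul_left Nat.card_pos b1
    have p1 : 0 < Nat.card V := Nat.card_pos
    have p2 : 0 < Nat.card ↥(V' ⊓ 𝐂⟮S⟯) := Nat.card_pos
    have b8 : Nat.card ↥(V ⊔ V') ≤ Nat.card V * T.relIndex S :=
      Nat.le_of_mul_le_mul_right (by nlinarith) p2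
    exact Nat.le_of_mul_le_mul_right (by nlinarith) p1
  · rw [show g * w * g⁻¹ = g * w * g⁻¹ * w⁻¹ * w by group]
    exact mul_mem (mem_sup_right (comm_mem' (mem_sup_left hw) hg)) (mem_sup_left hw)
  · have x1 := h.fixX hg hM hx ha₀ haT₀ (e _ (s.syl.le ha₀))
    refine h.m3 hg hM ⟨x1, h.cW' g (mem_cj.2 ?_)⟩
    simpa using mul_mem (mem_sup_left (e _ (inv_mem hg))) x1
  · have d1 := h.WS (comm_mem' c1 aS)
    have z1 := cX (comm_mem (l hx) (mem_sup_left c1))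
    have cS := s.TS (h.WT c1)
    rw [cube_aux (inv_mul_cancel_right _ x).symm (inv_mul_cancel_right _ _).symm
      (by group) (d1.2 x xS).symm (d1.2 _ cS).symm (z1.2 x (s.syl.le xS)).symm
      (z1.2 _ (s.syl.le cS)).symm ((elemAb_cj s.ea e).2 a ha) ((elemAb_cj h.st'.ea g).2 x hx)
      (h.eaW.2 _ c1)]
    have z2 := (mem_inf.1 z1).2
    exact fun e => k ((mul_mem_cancel_left z2).1 ((mul_mem_cancel_right (pow_mem z2 4)).1
      (e ▸ one_mem _)))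

theorem outB (h : HB p S L M T V L' M' T' V' f) (h' : HB p S L' M' T' V' L M T V f)
    (hq : T'.relIndex S = T.relIndex S) : Out2 p S L T V := by
  obtain ⟨h3, g, hg, hM, x⟩ := xb2 h h' hq
  exact ⟨exY h h', Or.inr ⟨h3, _, _, x, h.cW, hq ▸ cardX h hg hM,
    fun b hb hT => cubX h h' hg hM hb hT⟩⟩

theorem out2 (c : Cf p S L M T V f A) (nc : NC S L) : Out2 p S L T V := by
  by_contra hn
  have k : ∀ g ∈ 𝐍⟮S⟯, cj g V ≤ centMod (pResOf p L) V := fun g hg => by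
    have s := c.toSt.cj g
    rw [cj_eq_of_mem_normalizer hg] at s
    rcases c.tri s with h | h | ⟨h, h'⟩
    · exact le_centMod.2 ⟨s.VS.trans c.SN, (commutator_comm _ _).le.trans h.2⟩
    · exact (hn (outA c.toSt s h)).elim
    · exact (hn (outB h h' (by
        conv_lhs => rw [← cj_eq_of_mem_normalizer hg, relIndex_cj]))).elim
  have n := le_normalizer_cjClos V 𝐍⟮S⟯
  exact c.not_cent (((le_cjClos V _).trans (nc _ (cjClos_le c.VS le_rfl) n (c.norm_hat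
    (cjClos_le_iff.2 k) (le_cjClos V _) (le_normalizer.trans n))).le).trans bot_le)

theorem out2_of (c : Cf p S ⊤ M T V f A) (nd : ND S) : Out2 p S ⊤ T V := by
  obtain ⟨H, _, _, φ, hf, k⟩ := exists_hol S.subtype S.subtype_injective
  refine Out2.of_map hf (out2 (c.map hf) fun W h1 h2 h3 => by_contra fun h0 => ?_)
  obtain ⟨W, rfl⟩ : ∃ R₀, Subgroup.map φ R₀ = W := ⟨_, map_comap_eq_self (h1.trans (map_le_range φ _))⟩
  have e := map_subgroupOf_eq_of_le ((map_le_map_iff_of_injective hf).1 h1)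
  refine nd (W.subgroupOf S) (fun k => h0 (by rw [← e, k]; simp))
    (characteristic_iff_le_comap.2 fun α x hx => ?_) (by
      rw [e]; exact normal_of_top_le fun x hx => mem_norm_of_map hf (h3 ⟨x, hx, rfl⟩))
  obtain ⟨g, hg⟩ := k α
  have := conj_mem_of_mem_normalizer (h2 (mem_normalizer_of_cj_le (g := g) (cj_le_iff'.2 (by
    rintro _ ⟨s, hs, rfl⟩; exact ⟨_, (α ⟨s, hs⟩).2, (hg ⟨s, hs⟩).symm⟩)))) (mem_map_of_mem φ hx)
  exact (mem_map_iff_mem hf).1 (hg x ▸ this)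

end Cfsg.Agent.Spc.PuA
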