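import Cfsg.Agent.Spc.PuDef
import Cfsg.Agent.Spc.PuA1

/-! The piece `PA` of the pushing-up theorem. -/

namespace Cfsg.Agent.Spc.Pu

open Subgroup Cfsg.Agent.LocalEven Cfsg.Agent.PLocal Cfsg.Agent.Push Cfsg.Agent.BHS
open Cfsg.Agent.Glaub hiding cent_anti
open scoped commutatorElement MatrixGroups

universe u

theorem pa {p : ℕ} [Fact p.Prime] : PA.{u} p := by
  intro G _ _ S M T h hT nd
  obtain ⟨f, A, c, -⟩ := h.cf_of hT nd
  have o := c.out_of nd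
  have o2 := PuA.out2_of c nd
  exact ⟨c.toPN, hT, o.ker_T c.toPN hT, o2.1, o2.2.imp id fun x => ⟨x.1, o.1, x.2⟩⟩

end Cfsg.Agent.Spc.Pu
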