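import Cfsg.Agent.Spc.PuC1

/-! The linear block, exceptional case. -/

namespace Cfsg.Agent.Spc.Pu

open Subgroup Cfsg.Agent.LocalEven Cfsg.Agent.PLocal Cfsg.Agent.Push Cfsg.Agent.BHS
open Cfsg.Agent.Glaub hiding cent_anti
open scoped commutatorElement MatrixGroups

universe u

theorem c2b_sq {F : Type*} [Field F] (h2 : (2 : F) ≠ 0) {g : SL(2, F)} (h : g * g = 1) :
    g = 1 ∨ g = -1 := by
  have hi : g⁻¹ = g := inv_eq_of_mul_eq_one_right h
  have e := Matrix.SpecialLinearGroup.SL2_inv_expl g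
  rw [hi] at e
  have e01 : g 0 1 = - g 0 1 := by conv_lhs => rw [e]; simp
  have e10 : g 1 0 = - g 1 0 := by conv_lhs => rw [e]; simp
  have e00 : g 0 0 = g 1 1 := by conv_lhs => rw [e]; simp
  have b0 : g 0 1 = 0 := by
    have : 2 * g 0 1 = 0 := by linear_combination e01
    exact (mul_eq_zero.1 this).resolve_left h2
  have c0 : g 1 0 = 0 := by
    have : 2 * g 1 0 = 0 := by linear_combination e10
    exact (mul_eq_zero.1 this).resolve_left h2
  have hd := g.det_coe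
  rw [Matrix.det_fin_two] at hd
  have : (g 0 0 - 1) * (g 0 0 + 1) = 0 := by
    have hd' : g 0 0 * g 1 1 - g 0 1 * g 1 0 = 1 := hd
    rw [← e00, b0] at hd'
    linear_combination hd'
  rcases mul_eq_zero.1 this with k | k
  · left
    have k0 : g 0 0 = 1 := by linear_combination k
    ext i j
    fin_cases i <;> fin_cases j <;> simp [b0, c0, k0, ← e00]
  · right
    have k0 : g 0 0 = -1 := by linear_combination k
    ext i j
    fin_cases i <;> fin_cases j <;> simp [b0, c0, k0, ← e00]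

variable {G : Type u} [Group G] [Finite G] {p : ℕ} [hp : Fact p.Prime] {S M T : Subgroup G}

omit [Finite G] hp in
theorem c2b_act {F : Type*} [Field F] {U U₀ : Subgroup G} {σ ψ}
    (d : NatData F (⊤ : Subgroup G) U U₀ σ ψ) (ρ : G →* SL(2, F)) (e : ∀ g, ρ g = σ ⟨g, trivial⟩)
    {R : Subgroup SL(2, F)} (hr : (pResOf p (⊤ : Subgroup G)).map ρ = R) :
    ActsAsSL2OnSection F R (pResOf p (⊤ : Subgroup G)) U U₀ := by
  rw [actsAs_iff]
  refine ⟨σ.comp (inclusion le_top), ψ, ⟨le_top.trans d.norm, d.le, d.mul, d.surj, d.ker,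
    fun e u hu => d.conj (inclusion le_top e) u hu⟩, ?_⟩
  rw [← hr]
  ext g
  constructor
  · rintro ⟨x, rfl⟩
    exact ⟨x, x.2, e x⟩
  · rintro ⟨x, hx, rfl⟩
    exact ⟨⟨x, hx⟩, (e x).symm⟩

omit [Finite G] hp in
theorem c2b_inv {F : Type*} [Field F] {U U₀ : Subgroup G} {σ ψ}
    (d : NatData F (⊤ : Subgroup G) U U₀ σ ψ) {z : G} (hz : σ ⟨z, trivial⟩ = -1) {u : G}
    (hu : u ∈ U) : z * u * z⁻¹ * u ∈ U₀ := by
  have m : z * u * z⁻¹ ∈ U := conj_mem_of_mem_normalizer (d.norm (mem_top z)) hu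
  have c := d.conj ⟨z, trivial⟩ u hu
  rw [hz] at c
  rw [← d.ker _ (mul_mem m hu), d.mul _ m _ hu]
  change ψ (((⟨z, trivial⟩ : (⊤ : Subgroup G)) : G) * u * (((⟨z, trivial⟩ : (⊤ : Subgroup G)) : G))⁻¹) + _ = _
  rw [c]
  simp [Matrix.neg_mulVec]

theorem pc2b : PC2.{u} p := by
  intro G _ _ S M T xd h1 xe
  obtain ⟨rfl, hphi, W, X, x, hW, hq, hb⟩ := xe
  have h := xd.pn
  have a := h.toAB
  set E := pResOf 3 (⊤ : Subgroup G) with hE
  set V := OZ 3 T with hV
  set V0 := V ⊓ 𝐂⟮(⊤ : Subgroup G)⟯ with hV0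
  set R := ⁅T, E⁆ with hR
  haveI : T.Normal := normal_of_top_le a.nT
  haveI : E.Normal := pResOf_normal ⊤
  haveI : V.Normal := normal_of_top_le h.nrm
  haveI : V0.Normal := normal_of_top_le h.nZ
  haveI : X.Normal := normal_of_top_le x.nX
  haveI : R.Normal := inferInstanceAs (⁅T, E⁆).Normal
  have hc : pCoreOf 3 E = R := (c1_core a).trans h1
  have hRX : R ≤ X := x.res
  have hRT : R ≤ T := hRX.trans x.XT
  have hRE : R ≤ E := h1.ge.trans inf_le_left
  have hVX : V ≤ X := x.VW.trans x.WX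
  have cz : ∀ c ∈ V0, ∀ g : G, g * c = c * g := fun c hc g => mem_centralizer_iff.1 hc.2 g trivial
  have v3 : ∀ v ∈ V, v ^ 3 = 1 := h.ea.2
  obtain ⟨n, hn, en⟩ := h.nat.pow
  obtain ⟨F, _, _, hF⟩ := exists_field_card (p := 3) hn
  haveI : _root_.CharP F 3 := BHS.charP_of_card hF
  obtain ⟨σ, ψ, d, s, -⟩ := h.nat.nat F (hF.trans en.symm)
  have eq3 : T.relIndex S = 3 ^ n := h.idxS.symm.trans en
  obtain ⟨σ', ψ', d', s'⟩ := x.nat h F (hF.trans eq3.symm)
  obtain ⟨ρ, sρ, kρ, eρ⟩ := h.quot xd.ker d s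
  have TX : ∀ t ∈ T, ∀ y ∈ X, t * y * t⁻¹ * y⁻¹ ∈ V0 := fun t ht y hy =>
    x.ker t trivial (fun v hv => by
      rw [conj_eq_of_cent ht (h.cen hv), mul_inv_cancel]; exact one_mem _) y hy
  let ρ' : G →* SL(2, F) := σ'.comp (topEquiv (G := G)).symm.toMonoidHom
  have sρ' : Function.Surjective ρ' := s'.comp (topEquiv (G := G)).symm.surjective
  have eρ' : ∀ g, ρ' g = σ' ⟨g, trivial⟩ := fun _ => rfl
  have kT : T ≤ ρ'.ker := fun t ht => (d'.eq_one_iff ⟨t, trivial⟩).2 fun y hy => (TX t ht y hy).1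
  have kρ' : ρ'.ker = T := by
    symm
    refine Subgroup.eq_of_le_of_card_ge kT (le_of_eq ?_)
    have e1 := Subgroup.card_mul_index ρ'.ker
    have e2 := Subgroup.card_mul_index ρ.ker
    rw [index_ker, MonoidHom.range_eq_top.2 sρ'] at e1
    rw [index_ker, MonoidHom.range_eq_top.2 sρ, kρ, ← e1] at e2
    exact (Nat.eq_of_mul_eq_mul_right Nat.card_pos e2).symm
  have two : (2 : F) ≠ 0 := fun e => by
    have := (CharP.cast_eq_zero_iff F 3 2).1 (by exact_mod_cast e)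
    omega
  obtain ⟨⟨z, hz0⟩, hzE, hz⟩ := h.exists_neg s (by decide)
  have hzρ : ρ z = -1 := (eρ z).trans hz
  have hne1 : (-1 : SL(2, F)) ≠ 1 := fun e => by
    have := congrArg (fun g : SL(2, F) => g 0 0) e
    simp at this
    exact two (by linear_combination -this)
  have hzz : z * z ∈ T := by rw [← kρ, MonoidHom.mem_ker, map_mul, hzρ]; simp
  have hzT : z ∉ T := fun e => hne1 (hzρ.symm.trans (kρ.ge e))
  have hz' : ρ' z = -1 :=
    (c2b_sq two ((map_mul ρ' z z).symm.trans (kT hzz))).resolve_left fun e => hzT (kρ'.le e)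
  -- the quotient by `V0`
  let π := QuotientGroup.mk' V0
  have hπ : ∀ g, π g = 1 ↔ g ∈ V0 := fun g => QuotientGroup.eq_one_iff g
  have cπ : ∀ t ∈ T, ∀ y ∈ X, Commute (π t) (π y) := fun t ht y hy => by
    rw [← commutatorElement_eq_one_iff_commute, ← map_commutatorElement, hπ]
    exact TX t ht y hy
  have zinv : ∀ y ∈ X, z * y * z⁻¹ * y ∈ V0 := by
    intro y hy
    have m1 : z * y * z⁻¹ * y ∈ V := c2b_inv d' hz' hy
    have m2 := c2b_inv d hz m1
    have my : z * y * z⁻¹ ∈ X := Normal.conj_mem ‹_› _ hy _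
    have m3 : π (z * (z * y * z⁻¹ * y) * z⁻¹) = π (z * y * z⁻¹ * y) := by
      have e1 : z * (z * y * z⁻¹ * y) * z⁻¹ = (z * z) * y * (z * z)⁻¹ * (z * y * z⁻¹) := by group
      rw [e1, map_mul, map_mul, map_mul, (cπ _ hzz y hy).eq, map_inv, mul_inv_cancel_right,
        (cπ y (x.XT hy) _ my).eq, ← map_mul]
    rw [← hπ, map_mul, m3] at m2
    rw [← hπ]
    have m4 : π (z * y * z⁻¹ * y) ^ 3 = 1 := by rw [← map_pow, v3 _ m1, map_one]
    rw [pow_succ, pow_two, m2, one_mul] at m4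
    exact m4
  have XSV : ¬ ⁅X, S⁆ ≤ V := fun k => by
    obtain ⟨b, hbS, hbT⟩ := SetLike.not_le_iff_exists.1 a.not_le
    exact x.nle fun y hy => x.fix y hy b hbS hbT (k (comm_mem' hy hbS))
  have cube : ∀ y ∈ X, y ^ 3 ∈ V0 := by
    let N : Subgroup G :=
      { carrier := {y | y ∈ X ∧ π y ^ 3 = 1}
        one_mem' := ⟨one_mem _, by simp⟩
        mul_mem' := fun {u v} hu hv => ⟨mul_mem hu.1 hv.1, by
          rw [map_mul, (cπ u (x.XT hu.1) v hv.1).mul_pow, hu.2, hv.2, one_mul]⟩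
        inv_mem' := fun {u} hu => ⟨inv_mem hu.1, by rw [map_inv, inv_pow, hu.2, inv_one]⟩ }
    haveI : N.Normal := ⟨fun u hu g => ⟨Normal.conj_mem ‹X.Normal› _ hu.1 _, by
      rw [map_mul, map_mul, map_inv, conj_pow, hu.2, mul_one, mul_inv_cancel]⟩⟩
    have k1 : ⁅X, S⁆ ≤ N := fun u hu => ⟨comm_le_left le_normalizer_of_normal hu, by
      have m : u ∈ phi S := PGrp.commutator_le_map_frattini a.syl.pgrp
        (commutator_mono (x.XT.trans a.TS) le_rfl hu)
      have := hphi.le (PGrp.pow_mem_map_frattini (a.syl.pgrp.to_le (phi_le S)) m)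
      rw [← map_pow, mem_bot.1 this, map_one]⟩
    have k2 : V ≤ N := fun v hv => ⟨hVX hv, by rw [← map_pow, v3 v hv, map_one]⟩
    have k3 := d'.irr' s' (N := N) le_normalizer_of_normal (fun u hu => hu.1) fun k => XSV (k1.trans k)
    intro y hy
    have := (sup_le le_rfl k2 (k3 hy)).2
    rwa [← map_pow, hπ] at this
  have RV : ¬ R ≤ V := fun k => hzT (kρ'.le ((d'.eq_one_iff ⟨z, trivial⟩).2 fun y hy =>
    k (comm_mem' (x.XT hy) hzE)))
  have XRV : X ≤ R ⊔ V := d'.irr' s' le_normalizer_of_normal hRX RV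
  have dec : ∀ y ∈ X, ∃ r ∈ R, ∃ v ∈ V, r * v = y := fun y hy =>
    (mem_sup_iff_of_le_normalizer le_normalizer_of_normal).1 (XRV hy)
  have cV : ∀ t ∈ T, ∀ v ∈ V, t * v = v * t := fun t ht v hv => mem_centralizer_iff.1 (h.cen hv) t ht
  have XX : ⁅X, X⁆ = ⁅R, R⁆ := by
    refine le_antisymm (commutator_le.2 fun u hu w hw => ?_) (commutator_mono hRX hRX)
    obtain ⟨r, hr, v, hv, rfl⟩ := dec u hu
    obtain ⟨r', hr', v', hv', rfl⟩ := dec w hw
    have c1 : Commute v (r' * v') := (cV _ (x.XT hw) v hv).symm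
    have c2 : Commute v' r⁻¹ := (cV _ (inv_mem (hRT hr)) v' hv').symm
    have : ⁅r * v, r' * v'⁆ = ⁅r, r'⁆ := by
      calc ⁅r * v, r' * v'⁆ = r * (v * (r' * v')) * v⁻¹ * r⁻¹ * (r' * v')⁻¹ := by
            simp only [commutatorElement_def]; group
        _ = r * r' * (v' * r⁻¹) * (r' * v')⁻¹ := by rw [c1.eq]; group
        _ = ⁅r, r'⁆ := by rw [c2.eq]; simp only [commutatorElement_def]; group
    rw [this]
    exact commutator_mem_commutator hr hr'
  have RR0 : ⁅R, R⁆ ≤ V0 := commutator_le.2 fun u hu w hw => TX u (hRT hu) w (hRX hw)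
  have RR : ⁅R, R⁆ = R ⊓ V0 := by
    refine le_antisymm (le_inf (comm_le_left le_normalizer) RR0) ?_
    let τ := QuotientGroup.mk' ⁅R, R⁆
    have hτ : ∀ g, τ g = 1 ↔ g ∈ ⁅R, R⁆ := fun g => QuotientGroup.eq_one_iff g
    have cτ : ∀ u ∈ R, ∀ w ∈ R, Commute (τ u) (τ w) := fun u hu w hw => by
      rw [← commutatorElement_eq_one_iff_commute, ← map_commutatorElement, hτ]
      exact commutator_mem_commutator hu hw
    have nR : ∀ g, ∀ r ∈ R, g * r * g⁻¹ ∈ R := fun g r hr => Normal.conj_mem ‹_› _ hr _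
    have fm : ∀ u ∈ R, ∀ w ∈ R, τ (z * (u * w) * z⁻¹ * (u * w)) =
        τ (z * u * z⁻¹ * u) * τ (z * w * z⁻¹ * w) := fun u hu w hw => by
      have e1 : z * (u * w) * z⁻¹ * (u * w) = (z * u * z⁻¹) * ((z * w * z⁻¹) * u) * w := by group
      have e2 : τ ((z * w * z⁻¹) * u) = τ (u * (z * w * z⁻¹)) := by
        rw [map_mul τ _ u, map_mul τ u, (cτ u hu _ (nR z w hw)).eq]
      rw [e1, map_mul, map_mul, e2, ← map_mul, ← map_mul, ← map_mul]
      congr 1; group
    let N : Subgroup G :=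
      { carrier := {y | y ∈ R ∧ τ (z * y * z⁻¹ * y) = 1}
        one_mem' := ⟨one_mem _, by simp⟩
        mul_mem' := fun {u v} hu hv => ⟨mul_mem hu.1 hv.1, by
          rw [fm u hu.1 v hv.1, hu.2, hv.2, one_mul]⟩
        inv_mem' := fun {u} hu => ⟨inv_mem hu.1, by
          have := fm u hu.1 u⁻¹ (inv_mem hu.1)
          rw [hu.2, one_mul] at this
          rw [← this]; simp⟩ }
    have k1 : ⁅R, E⁆ ≤ N := commutator_le.2 fun r hr e he => by
      have m1 : e * r⁻¹ * e⁻¹ ∈ R := nR e _ (inv_mem hr)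
      have e0 : ⁅r, e⁆ = r * (e * r⁻¹ * e⁻¹) := by simp only [commutatorElement_def]; group
      refine ⟨e0 ▸ mul_mem hr m1, ?_⟩
      have ht : z⁻¹ * (e⁻¹ * z * e) ∈ R := by
        refine h1.le (mem_inf.2 ⟨E.mul_mem (E.inv_mem hzE) (E.mul_mem (E.mul_mem (E.inv_mem he) hzE) he), ?_⟩)
        rw [← kρ]
        change ρ _ = 1
        simp [hzρ]
      have e1 : τ (z * (e * r⁻¹ * e⁻¹) * z⁻¹ * (e * r⁻¹ * e⁻¹)) = τ (z * r⁻¹ * z⁻¹ * r⁻¹) := by
        set t := z⁻¹ * (e⁻¹ * z * e) with ht'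
        have e2 : z * (e * r⁻¹ * e⁻¹) * z⁻¹ * (e * r⁻¹ * e⁻¹) =
            e * (z * (t * r⁻¹ * t⁻¹) * z⁻¹ * r⁻¹) * e⁻¹ := by rw [ht']; group
        have e3 : τ (t * r⁻¹ * t⁻¹) = τ r⁻¹ := by
          rw [map_mul, map_mul, (cτ t ht _ (inv_mem hr)).eq, map_inv τ t, mul_inv_cancel_right]
        have e4 : τ (z * (t * r⁻¹ * t⁻¹) * z⁻¹ * r⁻¹) = τ (z * r⁻¹ * z⁻¹ * r⁻¹) := by
          rw [map_mul, map_mul, map_mul τ z, e3]; simp
        rw [e2, map_mul, map_mul, e4, ← map_mul, cz _ (zinv _ (inv_mem (hRX hr))) e, ← map_mul,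
          mul_inv_cancel_right]
      rw [e0, fm r hr _ m1, e1, ← fm r hr _ (inv_mem hr)]
      simp
    intro c hc0
    have := (k1 ((c1_cc a).ge hc0.1)).2
    rw [cz c hc0.2 z, mul_inv_cancel_right, map_mul] at this
    have m4 : τ c ^ 3 = 1 := by rw [← map_pow, v3 _ hc0.2.1, map_one]
    rw [pow_succ, pow_two, this, one_mul] at m4
    exact (hτ c).1 m4
  have q1 : 1 < T.relIndex S := by rw [eq3]; exact Nat.one_lt_pow hn (by decide)
  have hU : OZ 3 R = R ⊓ V := by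
    refine le_antisymm (le_inf (omegaOneCenter_le _) ?_)
      ((inf_comm _ _).le.trans (omegaOneCenter_inf_le hRT))
    by_contra k
    have k3 := d'.irr' s' (N := OZ 3 R) (le_normalizer_of_normal.trans
      (normalizer_le_normalizer_omegaOneCenter R)) ((omegaOneCenter_le _).trans hRX) k
    have k4 : R ≤ 𝐂⟮R⟯ := hRX.trans (k3.trans (sup_le (omegaOneCenter_le_centralizer R)
      (h.cen.trans (cent_anti hRT))))
    rw [XX, comm_bot_of_le_cent k4, card_bot] at hq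
    omega
  have e0 : R ⊓ V ⊓ 𝐂⟮E⟯ = R ⊓ V0 :=
    le_antisymm (le_inf (inf_le_left.trans inf_le_left) (le_inf (inf_le_left.trans inf_le_right)
      ((inf_le_inf_right _ inf_le_right).trans h.cenE)))
      (le_inf (inf_le_inf_left _ inf_le_left) (inf_le_right.trans (inf_le_right.trans (cent_anti le_top))))
  have RV0 : ¬ R ⊓ V ≤ V0 := fun k => hzT (kρ.le ((eρ z).trans ((d.eq_one_iff ⟨z, trivial⟩).2
    fun v hv => k ⟨comm_mem' (h.le hv) hzE, comm_le_left le_normalizer_of_normal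
      (comm_mem' hv (mem_top z))⟩)))
  have VR : V ≤ (R ⊓ V) ⊔ V0 := d.irr' s le_normalizer_of_normal inf_le_right RV0
  have EC : E ⊓ 𝐂⟮E⟯ = R ⊓ V0 := by
    refine le_antisymm (fun c hc0 => ?_) (le_inf (inf_le_left.trans hRE)
      (inf_le_right.trans (inf_le_right.trans (cent_anti le_top))))
    have k1 : V ≤ 𝐂⟮zpowers c⟯ := VR.trans (sup_le (inf_le_left.trans (hRE.trans
      (le_cent_comm (zpowers_le.2 hc0.2)))) (inf_le_right.trans (cent_anti le_top)))
    have k2 : c ∈ T := xd.ker (h.mem_ker trivial fun v hv => by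
      rw [mem_centralizer_iff.1 (k1 hv) c (mem_zpowers c), mul_inv_cancel_right, mul_inv_cancel]
      exact one_mem _)
    have k3 : c ∈ R := h1.le ⟨hc0.1, k2⟩
    refine ⟨k3, ?_⟩
    have k4 := zinv c (hRX k3)
    rw [mem_centralizer_iff.1 hc0.2 z hzE, mul_inv_cancel_right] at k4
    have := mul_mem (cube c (hRX k3)) (inv_mem k4)
    rwa [show c ^ 3 * (c * c)⁻¹ = c by group] at this
  have hcard : Nat.card ↥⁅X, X⁆ ≤ T.relIndex S := by
    obtain ⟨w, hw, hwV⟩ := SetLike.not_le_iff_exists.1 fun k => XSV (x.XS.trans k)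
    have hwX := x.WX hw
    let f : X →* G := MonoidHom.mk' (fun y => ⁅w, (y : G)⁆) fun u v => by
      have := cz _ (TX w (x.XT hwX) v v.2) u
      change ⁅w, (u : G) * v⁆ = _
      calc ⁅w, (u : G) * v⁆ = ⁅w, (u : G)⁆ * (u * (w * v * w⁻¹ * (v : G)⁻¹)) * (u : G)⁻¹ := by
            simp only [commutatorElement_def]; group
        _ = _ := by rw [this]; simp only [commutatorElement_def]; group
    have k1 : W.subgroupOf X ≤ f.ker := fun y hy =>
      commutatorElement_eq_one_iff_mul_comm.2 (mem_centralizer_iff.1 (hW hy) w hw)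
    have k2 : ⁅X, X⁆ ≤ f.range := commutator_le.2 fun u hu y hy => by
      by_cases huV : u ∈ V
      · rw [commutatorElement_eq_one_iff_mul_comm.2 (cV y (x.XT hy) u huV).symm]; exact one_mem _
      obtain ⟨g1, e1⟩ := exists_vec (mt (d'.ker w hwX).1 hwV)
      obtain ⟨g2, e2⟩ := exists_vec (mt (d'.ker u hu).1 huV)
      obtain ⟨g, hg⟩ := s' (g2 * g1⁻¹)
      have c := d'.conj g w hwX
      rw [hg, ← e1, Matrix.mulVec_mulVec, ← Matrix.SpecialLinearGroup.coe_mul,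
        inv_mul_cancel_right, e2] at c
      have m : (g : G) * w * (g : G)⁻¹ ∈ X := Normal.conj_mem ‹_› _ hwX _
      have hv := (d'.eq_iff hu m).1 c.symm
      have my : (g : G)⁻¹ * y * (g : G)⁻¹⁻¹ ∈ X := Normal.conj_mem ‹_› _ hy _
      refine ⟨⟨_, my⟩, ?_⟩
      change ⁅w, (g : G)⁻¹ * y * (g : G)⁻¹⁻¹⁆ = _
      set v := u * ((g : G) * w * (g : G)⁻¹)⁻¹ with hv'
      have c1 := cz _ (TX w (x.XT hwX) _ my) g
      have c2 := cV _ (x.XT (mul_mem (mul_mem m hy) (inv_mem m))) v hv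
      calc ⁅w, (g : G)⁻¹ * y * (g : G)⁻¹⁻¹⁆
          = (w * ((g : G)⁻¹ * y * (g : G)⁻¹⁻¹) * w⁻¹ * ((g : G)⁻¹ * y * (g : G)⁻¹⁻¹)⁻¹ * g) * (g : G)⁻¹ := by
            simp only [commutatorElement_def]; group
        _ = ((g : G) * w * (g : G)⁻¹ * y * ((g : G) * w * (g : G)⁻¹)⁻¹ * v) * v⁻¹ * y⁻¹ := by
            rw [← c1]; group
        _ = ⁅u, y⁆ := by rw [c2, hv']; simp only [commutatorElement_def]; group
    calc Nat.card ↥⁅X, X⁆ ≤ Nat.card f.range := card_le_of_le k2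
      _ = f.ker.index := (index_ker f).symm
      _ ≤ (W.subgroupOf X).index := Nat.le_of_dvd (Nat.pos_of_ne_zero index_ne_zero_of_finite)
          (index_dvd_of_le k1)
      _ ≤ _ := x.idx
  refine ⟨pResOf_pResOf _, c1_comm a, by rw [hc]; exact c1_cc a,
    Or.inl ⟨F, inferInstance, inferInstance, n, hF, c1_iso a ρ sρ kρ, ?_, Or.inr ⟨rfl, ?_⟩⟩⟩
  · rw [hc, hU, e0]
    have d1 := d.sub (R := R ⊓ V) inf_le_right le_normalizer_of_normal le_normalizer_of_normal VR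
    rw [inf_assoc, inf_eq_right.2 (inf_le_left : V0 ≤ V)] at d1
    exact c2b_act d1 ρ eρ (c1_range a ρ sρ kρ.ge)
  rw [hc, hU, e0, EC]
  refine ⟨c2b_act (d'.sub hRX le_normalizer_of_normal le_normalizer_of_normal XRV) ρ' eρ'
    (c1_range a ρ' sρ' kT), RR, le_antisymm ?_ ?_, rfl, ?_, fun b hbS hbU k => ?_⟩
  · exact (PGrp.map_frattini_le_iff (a.pT.to_le hRT)).2
      ⟨RR.le, fun y hy => ⟨pow_mem hy 3, cube y (hRX hy)⟩⟩
  · exact RR.ge.trans (PGrp.commutator_le_map_frattini (a.pT.to_le hRT))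
  · rw [← RR, ← XX, ← eq3]; exact le_antisymm hcard hq
  · have hbT : b ∉ T := fun e => hbU (cent_anti inf_le_right (le_cent_comm h.cen e))
    refine hb b hbS hbT ?_
    have zb : zpowers b ≤ S := zpowers_le.2 hbS
    have cT : T ≤ 𝐂⟮V ⊓ 𝐂⟮S⟯⟯ := (le_cent_comm h.cen).trans (cent_anti inf_le_left)
    have RbT : ⁅R, zpowers b⁆ ≤ T := (comm_le_left le_normalizer_of_normal).trans hRT
    have k1 : ⁅R ⊔ V, zpowers b⁆ ≤ ⁅R, zpowers b⁆ ⊔ (V ⊓ 𝐂⟮S⟯) :=
      commutator_sup_left_le le_sup_left (le_sup_of_le_right (le_inf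
        (comm_le_left le_normalizer_of_normal) ((commutator_mono le_rfl zb).trans h.quad)))
        (le_normalizer_sup (left_le_normalizer_commutator _ _)
          (hRT.trans (cT.trans (centralizer_le_normalizer' _))))
        ((h.cen.trans (cent_anti (sup_le RbT (inf_le_left.trans h.le)))).trans
          (centralizer_le_normalizer' _))
    refine (commutator_mono ((commutator_mono XRV le_rfl).trans k1) le_rfl).trans ?_
    exact commutator_sup_left_le (k.trans (inf_le_right.trans inf_le_right))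
      ((comm_bot_of_le_cent (inf_le_right.trans (cent_anti zb))).le.trans bot_le)
      (le_top.trans (le_normalizer_centralizer le_normalizer))
      (le_top.trans (le_normalizer_centralizer le_normalizer))

end Cfsg.Agent.Spc.Pu
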