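import Cfsg.Agent.Spc.PuDef
import Cfsg.Agent.Spc.GnB
import Cfsg.Agent.Spc.GnP2

/-! The rank one subgroup attached to a pair of transvection groups. -/

namespace Cfsg.Agent.Spc.Pu

open Subgroup Cfsg.Agent.LocalEven Cfsg.Agent.PLocal Cfsg.Agent.Push Cfsg.Agent.BHS
open Cfsg.Agent.Glaub hiding cent_anti
open Cfsg.Agent.Spc.Gn
open scoped commutatorElement MatrixGroups

universe u

variable {G : Type u} [Group G] [Finite G] {p : ℕ} [hp : Fact p.Prime] {T M V : Subgroup G}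

/-- Borel subgroups are the only proper overgroups. -/
def PNr (p : ℕ) : Prop :=
  ∀ (G : Type u) [Group G] [Finite G] (S L M T : Subgroup G), AB p S L M T →
    ∀ (F : Type) [Field F] [Fintype F] [CharP F p] (ρ : L →* SL(2, F)),
      Fintype.card F = T.relIndex S → Function.Surjective ρ → ρ.ker = T.subgroupOf L → M ≤ 𝐍⟮S⟯

theorem r1_gen {P A B R : Subgroup G} {D : Set (Subgroup G)} {q : ℕ} (hD : TvSet p V P D q)
    (st : Star p V P D T M) (hA : A ∈ D) (hAT : A ≤ T) (hB : B ∈ D) (hBM : ¬ B ≤ M)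
    (hc : ¬ A ≤ 𝐂⟮B⟯) (hR : R ≤ A ⊔ B) (hRM : ¬ R ≤ M) (hn : A ≤ 𝐍⟮R⟯) :
    A ⊔ B ≤ R ⊔ A ∧ ⁅V, A⁆ ≤ ⁅V, R⁆ := by
  have hP : A ⊔ B ≤ P := sup_le (hD.le A hA) (hD.le B hB)
  obtain ⟨g, -⟩ := st.good' hD hA (hAT.trans st.le) hB hBM hc
  obtain ⟨r, hr, hrM⟩ := SetLike.not_le_iff_exists.1 hRM
  have hX := hD.conj A hA r (hP (hR hr))
  have hXl : cj r A ≤ A ⊔ B := cj_le_of_mem (hR hr) le_sup_left
  have hne : A ≠ cj r A := fun e => hrM (st.nrm r (hP (hR hr)) fun X hX hXT => by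
    by_cases k : X = A
    · rw [k, ← e]; exact hAT
    · rw [cj_eq_of_mem_normalizer (centralizer_le_normalizer _
        (le_cent_comm (st.le_cent_sup hD hA hAT hB hBM hc hX hXT k) (hR hr)))]
      exact hXT)
  have hXR : cj r A ≤ R ⊔ A := cj_le_of_mem (mem_sup_left hr) le_sup_right
  refine ⟨(g.gen A hA _ hX le_sup_left hXl hne).ge.trans (sup_le le_sup_right hXR), ?_⟩
  obtain ⟨a, ha, ha1⟩ := hD.exists_ne hA
  have n := g.natP hA hX le_sup_left hXl hne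
  have e1 := n.le_sup hD.mod (hD.le A hA) (hD.tv A hA) (hD.tv _ hX) (card_cj _ _).le ha ha1
  have nV : A ≤ 𝐍⟮V⟯ := (hD.le A hA).trans hD.mod.norm
  have nU : R ⊔ A ≤ 𝐍⟮⁅V, R⁆⟯ := sup_le (right_le_normalizer_commutator _ _)
    (le_normalizer_commutator nV hn)
  have c1 : R ≤ centMod (V ⊓ 𝐂⟮cj r A⟯) ⁅V, R⁆ :=
    le_centMod.2 ⟨le_sup_left.trans nU, commutator_mono inf_le_left le_rfl⟩
  have c2 : cj r A ≤ centMod (V ⊓ 𝐂⟮cj r A⟯) ⁅V, R⁆ :=
    le_centMod.2 ⟨hXR.trans nU, (comm_bot_of_le_cent inf_le_right).le.trans bot_le⟩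
  have c3 : A ≤ centMod (V ⊓ 𝐂⟮cj r A⟯) ⁅V, R⁆ := by
    have := cj_le_of_mem (inv_mem (c1 hr)) c2
    rwa [cj_inv_cj] at this
  have e2 : V ≤ (V ⊓ 𝐂⟮cj r A⟯) ⊔ (V ⊓ 𝐂⟮A⟯) := e1.trans (sup_le (le_sup_of_le_right
    (le_inf (comm_le_left ((zpowers_le.2 ha).trans nV)) ((commutator_mono le_rfl
      (zpowers_le.2 ha)).trans (hD.tv A hA).quad))) le_sup_left)
  exact (comm_le_of_le_sup nV hD.mod.comm inf_le_left le_rfl e2).trans (le_centMod.1 c3).2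

theorem v_le_jt [V.Normal] (hV : IsElementaryAbelian p V) (hVT : V ≤ T) {P : Subgroup (Hol V)}
    (m : Mod p (holV V) P) (hT : T.map (holRep V) ≤ P) : V ≤ Jt p T := by
  obtain ⟨X, hX⟩ := Transfer.exists_mem_maxEA p T
  have h1 := m.max _ ((map_mono hX.1).trans hT) (elemAb_map hX.2.1 _)
  rw [← holImg_self, relIndex_cent_hol le_rfl] at h1
  have h2 := card_map_holRep (V := V) X
  have h3 := card_inf_mul_relIndex' 𝐂⟮X⟯ V
  have h4 := Core.card_mul_card_le (le_sup_left : X ⊓ 𝐂⟮V⟯ ≤ (X ⊓ 𝐂⟮V⟯) ⊔ V) le_sup_right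
  have h5 : Nat.card ↥((X ⊓ 𝐂⟮V⟯) ⊓ V) ≤ Nat.card ↥(V ⊓ 𝐂⟮X⟯) := card_le_of_le
    (le_inf inf_le_right (le_cent_comm fun x hx y hy => by
      exact (elemAb_le_centralizer hX.2.1 hx y hy.1.1)))
  refine le_sup_right.trans (Transfer.le_thompsonSubgroupOf (Transfer.mem_maxEA_of_card_le hX
    (sup_le (inf_le_left.trans hX.1) hVT) (elemAb_sup (Transfer.ea_of_le hX.2.1 inf_le_left) hV
      inf_le_right) ?_))
  refine Nat.le_of_mul_le_mul_right ?_ (Nat.card_pos (α := ↥(V ⊓ 𝐂⟮X⟯)))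
  calc Nat.card X * Nat.card ↥(V ⊓ 𝐂⟮X⟯)
      = Nat.card ↥(X ⊓ 𝐂⟮V⟯) * (Nat.card ↥(V ⊓ 𝐂⟮X⟯) * Nat.card (X.map (holRep V))) := by
        rw [← h2]; ring
    _ ≤ Nat.card ↥(X ⊓ 𝐂⟮V⟯) * Nat.card V := by
        rw [← h3]; exact Nat.mul_le_mul_left _ (Nat.mul_le_mul_left _ h1)
    _ ≤ _ := h4.trans (Nat.mul_le_mul_left _ h5)

namespace Set0

variable (h : Set0 p T M)
include h

theorem ne : T ≠ ⊥ := fun e => h.min.not_le_normalizer' (by rw [e]; exact le_normalizer_of_normal)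

theorem jne : Jt p T ≠ ⊥ :=
  Transfer.thompsonSubgroupOf_ne_bot_of_zero_or_eq (Or.inr rfl) h.syl.pgrp h.ne

theorem bne : Bm p T ≠ ⊥ := fun e => h.jne (eq_bot_iff.2 ((jt_le_bm T).trans e.le))

theorem nB : 𝐍⟮Bm p T⟯ ≤ M := by
  have : Nontrivial (Bm p T) := (nontrivial_iff_ne_bot _).2 h.bne
  have := h.nc ⊤ top_ne_bot topCharacteristic
  rwa [p2_top] at this

theorem nJ : 𝐍⟮Jt p T⟯ ≤ M := by
  have e : (Jt p (⊤ : Subgroup (Bm p T))).map (Bm p T).subtype = Jt p T := by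
    rw [map_jt (Bm p T).subtype_injective, p2_top, jt_bm]
  rw [← e]
  refine h.nc _ (fun k => h.jne ?_)
    (char_of_map (fun S => Jt p S) fun e => map_jt e.injective _)
  rw [← e, k, Subgroup.map_bot]

theorem OT : pCore p G ≤ T := pCoreOf_top.ge.trans h.syl.pCoreOf_le

theorem zV : OZ p T ≤ OZ p (pCore p G) := fun x hx => by
  obtain ⟨h1, h2, h3⟩ := mem_omegaOneCenter.1 hx
  exact mem_omegaOneCenter.2 ⟨h.cen (cent_anti h.OT h2), cent_anti h.OT h2, h3⟩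

theorem cV : 𝐂⟮OZ p (pCore p G) ⊓ 𝐂⟮T⟯⟯ ≤ M :=
  (cent_anti (le_inf h.zV (omegaOneCenter_le_centralizer _))).trans h.z

end Set0

theorem r1 (he : PE.{u} p) (hr : RB.{u} p) (hN : PNr.{u} p) (h : Set0 p T M) [V.Normal]
    (hVd : V = OZ p (pCore p G)) {D : Set (Subgroup (Hol V))} {q : ℕ}
    (mp : MinPar p (holV V) ((⊤ : Subgroup G).map (holRep V)) (T.map (holRep V)) (M.map (holRep V)))
    (hD : TvSet p (holV V) ((⊤ : Subgroup G).map (holRep V)) D q)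
    {A B : Subgroup (Hol V)} (hA : A ∈ D) (hAT : A ≤ T.map (holRep V)) (hB : B ∈ D)
    (hBM : ¬ B ≤ M.map (holRep V)) (hAB : ¬ A ≤ 𝐂⟮B⟯) :
    (Bm p T).map (holRep V) ≤ 𝐂⟮A⟯ ∧
      ∃ L, R1 p T M L ∧ (pResOf p L).map (holRep V) ≤ A ⊔ B := by
  have hS := h.syl
  have hV : IsElementaryAbelian p V := hVd ▸ Transfer.ea_omegaOneCenter _
  have hO : pCore p G ≤ 𝐂⟮V⟯ := hVd ▸ Transfer.le_centralizer_omegaOneCenter _
  have hOS := h.OT
  have hVO : V ≤ pCore p G := hVd ▸ omegaOneCenter_le _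
  have hVS : V ≤ T := hVO.trans hOS
  have hcV : 𝐂⟮V⟯ ≤ M := (cent_anti inf_le_left).trans (hVd ▸ h.cV)
  have hJ := h.nJ
  set f := holRep V with hf
  have hk : f.ker ≤ M := ker_holRep.le.trans hcV
  obtain ⟨st, -⟩ := mp.star hD hA
  obtain ⟨d1, d2, d3⟩ := blk_data hD st hA hAT hB hBM hAB
  have sy := syl_comap f hS d1
  have j1 : (Jt p T).map f ≤ wJ D (T.map f) := by
    rw [map_le_iff_le_comap, Transfer.thompsonSubgroupOf_le_iff]
    intro X hX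
    rw [← map_le_iff_le_comap]
    exact (mp.le_wJ hD hA (map_mono le_top) (off_hol hV hVS hX).1 (off_hol hV hVS hX).2).trans
      (sSup_le_sSup fun Z hZ => ⟨hZ.1, hZ.2.trans (map_mono hX.1)⟩)
  have j2 : ⁅holV V, A⁆ ≤ holImg V (V ⊓ 𝐂⟮Jt p T⟯) := by
    rw [← holImg_inf_cent, holImg_self]
    exact ((commutator_mono le_rfl (Push.le_wJ hA hAT)).trans (st.quad_wJ hD)).trans
      (inf_le_inf_left _ (cent_anti j1))
  have j3 : Bm p T ≤ 𝐂⟮V ⊓ 𝐂⟮Jt p T⟯⟯ :=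
    bm_le_cent_of (inf_le_left.trans hVS) (fun y hy => hV.2 y hy.1) inf_le_right
  have j4 : Bm p T ≤ T ⊓ (𝐂⟮A⟯).comap f := fun b hb => ⟨hb.1, by
    refine cent_of_cent_comm hD st hA hAT hB hBM hAB (mem_map_of_mem f hb.1) ?_
    have : holImg V (V ⊓ 𝐂⟮Jt p T⟯) ≤ 𝐂⟮(Bm p T).map f⟯ :=
      (holImg_le_cent inf_le_left).2 (le_cent_comm j3)
    exact le_cent_comm (j2.trans this) (mem_map_of_mem f hb)⟩
  refine ⟨map_le_iff_le_comap.2 (j4.trans inf_le_right), ?_⟩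
  set S₁ := T ⊓ (𝐂⟮A⟯).comap f with hS₁
  set C := T.map f ⊓ 𝐂⟮A ⊔ B⟯ with hC
  set H₀ := ((A ⊔ B) ⊔ C).comap f with hH₀
  have hH₀M : ¬ H₀ ≤ M := fun e => hBM fun y hy => by
    obtain ⟨x, -, rfl⟩ := hD.le B hB hy
    exact mem_map_of_mem f (e (Subgroup.mem_sup_left (Subgroup.mem_sup_right hy)))
  obtain ⟨H, ⟨l1, l2, l3⟩, hm⟩ := exists_minimal_of_wellFoundedLT
    (fun H : Subgroup G => S₁ ≤ H ∧ H ≤ H₀ ∧ ¬ H ≤ M) ⟨H₀, sy.le, le_rfl, hH₀M⟩
  have syH := sy.mono l1 l2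
  have jS : Jt p T ≤ S₁ := (jt_le_bm T).trans j4
  have mi : MinIn S₁ H (H ⊓ M) := minIn_of_sylow syH (fun e => l3 (e.trans (le_trans ?_ hJ)))
    (le_inf l1 (inf_le_left.trans h.min.le))
    (lt_of_le_of_ne inf_le_left fun e => l3 (e.ge.trans inf_le_right))
    fun X x1 x2 => le_inf x2.le (by_contra fun x3 =>
      x2.not_ge (hm ⟨x1, x2.le.trans l2, x3⟩ x2.le))
  swap
  · rw [← jt_eq_of_le jS inf_le_left]
    exact norm_le_norm_jt _
  have hQS : pCore p G ≤ S₁ := le_inf hOS fun x hx => by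
    rw [mem_comap, holRep_eq_one_iff.2 (hO hx)]; exact one_mem _
  have ab : AB p S₁ H (H ⊓ M) (pCoreOf p H) := by
    refine ⟨syH, mi, rfl, ?_⟩
    refine minIn_le_pCoreOf (N := H ⊓ C.comap f) mi syH.pgrp
      (le_normalizer_inf le_normalizer fun g hg => mem_normalizer_of_cj_le ?_)
      (inf_le_inf_left _ ((comap_mono (inf_le_left.trans (map_mono h.min.le))).trans
        (comap_map_eq_self hk).le)) (syH.pgrp.to_le (commutator_le_of_le le_rfl le_rfl))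
      (le_inf ((commutator_le_of_le le_rfl le_rfl).trans l1) ?_)
    · rw [← map_le_iff_le_comap, LocalEven.map_cj]
      exact cj_le_of_mem_normalizer (d3 (l2 hg)) (map_comap_le _ _)
    · rw [← map_le_iff_le_comap, map_commutator]
      have : S₁.map f ≤ T.map f ⊓ 𝐂⟮A⟯ :=
        le_inf (map_mono inf_le_left) (map_le_iff_le_comap.2 inf_le_right)
      exact (commutator_mono this this).trans d2
  have hZ : ¬ S₁ ⊓ 𝐂⟮S₁⟯ ≤ 𝐂⟮H⟯ := fun e => l3 ((le_cent_comm ((le_inf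
    ((h.zV.trans (omegaOneCenter_le _)).trans hQS) ((omegaOneCenter_le_centralizer _).trans
      (cent_anti inf_le_left))).trans e)).trans h.z)
  -- the Baumann argument
  set Q := pCore p G with hQd
  have hC' : 𝐂⟮Q⟯ ≤ Q := h.cen
  have hSH := ab.syl.le
  have pQ : IsPGroup p Q := ab.syl.pgrp.to_le hQS
  have nQ : ∀ {X : Subgroup G}, X ≤ 𝐍⟮Q⟯ := fun {_} => le_normalizer_of_normal
  have hQT : Q ≤ pCoreOf p H := le_pCoreOf (hQS.trans hSH) nQ pQ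
  have hsyl := (he H _ _ _ (p2_sub ab) (by
    rw [centralizer_subgroupOf ab.TL]
    exact subgroupOf_mono _ ((Push.cent_anti hQT).trans (hC'.trans hQT))) (fun e => hZ (by
      have := map_mono (f := H.subtype) e
      rw [map_inf_cent' H.subtype_injective, map_subgroupOf_eq_of_le hSH] at this
      refine this.trans ?_
      rintro _ ⟨x, hx, rfl⟩ y hy
      exact congrArg Subtype.val (hx ⟨y, hy⟩ (mem_top _))))).map H.subtype
  rw [map_cjClos, map_bm H.subtype_injective, map_subgroupOf_eq_of_le hSH, p2_top,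
    bm_eq_of_le j4 inf_le_left] at hsyl
  have hBS : Bm p T ≤ S₁ := j4
  have nB := h.nB
  have nc := h.nc
  have hVB : V ≤ Bm p T := (v_le_jt hV hVS hD.mod (map_mono le_top)).trans (jt_le_bm T)
  generalize hB' : Bm p T = Bb at hsyl hBS nB nc hVB
  set N := cjClos Bb H with hNd
  have hNH : N ≤ H := cjClos_le_self (hBS.trans hSH)
  have nN : H ≤ 𝐍⟮N⟯ := le_normalizer_cjClos _ _
  have hNM : ¬ N ≤ M := fun e => by
    have h1 := minIn_le_pCoreOf ab.min ab.syl.pgrp nN (le_inf hNH e) hsyl.pgrp hsyl.le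
    have h2 := hsyl.eq_of_isPGroup (isPGroup_of_le_pCoreOf (cjClos_le h1 (le_normalizer_pCoreOf H)))
    exact ab.min.lt.not_ge (le_inf le_rfl ((h2 ▸ nN : H ≤ 𝐍⟮Bb⟯).trans nB))
  obtain ⟨L, hLN, hBL, hLM, hmin⟩ := p2_minIn hsyl (inf_le_right.trans nB) hNM
  have hLH := hLN.trans hNH
  have hab : AB p Bb L (L ⊓ M) (pCoreOf p L) := ⟨hsyl.mono hBL hLN, hmin, rfl,
    (le_inf ((commutator_mono hBS hBS).trans ab.ab) ((comm_le_left le_normalizer).trans hBL)).trans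
      (pCoreOf_inf_le hLH)⟩
  have nQN : H ≤ 𝐍⟮Q ⊓ N⟯ := le_normalizer_inf nQ nN
  have pQN : IsPGroup p (Q ⊓ N : Subgroup G) := pQ.to_le inf_le_left
  have hQN : Q ⊓ N ≤ pCoreOf p L := le_pCoreOf
    ((hsyl.le_of_le_normalizer inf_le_right pQN ((hBS.trans hSH).trans nQN)).trans hBL) (hLH.trans nQN) pQN
  have cQ : ∀ {X : Subgroup G}, X ≤ N → ⁅Q, X⁆ ≤ Q ⊓ N := fun hX => le_inf (comm_le_left nQ) (by
    rw [Subgroup.commutator_comm]
    exact (commutator_mono hX le_rfl).trans (comm_le_left ((hQS.trans hSH).trans nN)))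
  have hCR : L ⊓ 𝐂⟮pCoreOf p L⟯ ≤ pCoreOf p L := le_pCoreOf inf_le_left
    (le_normalizer_inf le_normalizer (le_normalizer_centralizer (le_normalizer_pCoreOf L)))
    (isPGroup_of_pResOf_le pQ ((pResOf_le_centralizer_of_section pQN
      ((pResOf_le _).trans (inf_le_right.trans (Push.cent_anti hQN)))
      (cQ ((pResOf_le _).trans (inf_le_left.trans hLN)))).trans hC'))
  obtain ⟨F, _, _, _, ρ, r1, r2, r3⟩ :=
    (hr G _ _ _ _ hab hCR fun W w1 w2 e => hLM (e.trans (nc W w1 w2))).rho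
  subst hB'
  refine ⟨L, ⟨hab, hCR, hN G _ _ _ _ hab F ρ r1 r2 r3, hVd ▸ le_pCoreOf (hVB.trans hBL)
    le_normalizer_of_normal (pQ.to_le hVO)⟩, (map_pResOf_le f L).trans ((pResOf_mono
      (map_le_iff_le_comap.2 (hLH.trans l2))).trans (pResOf_sup_le
        ((hS.pgrp.map f).to_le inf_le_left)
        (inf_le_right.trans (centralizer_le_normalizer _))))⟩

end Cfsg.Agent.Spc.Pu
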