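import Cfsg.Agent.Spc.PuRB
import Cfsg.Agent.Spc.PuN
import Cfsg.Agent.Spc.GnP2

/-! The Baumann reduction: a rank one subgroup with Sylow subgroup `B(T)`. -/

namespace Cfsg.Agent.Spc.Pu

open Subgroup Cfsg.Agent.LocalEven Cfsg.Agent.PLocal Cfsg.Agent.Push Cfsg.Agent.BHS
open Cfsg.Agent.Glaub hiding cent_anti
open scoped commutatorElement MatrixGroups

universe u

variable {G : Type u} [Group G] [Finite G] {p : ℕ} [hp : Fact p.Prime] {S T M H : Subgroup G}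

theorem r1h (hE : PE.{u} p) (hR : RB.{u} p) (h0 : Set0 p T M) (hQS : pCore p G ≤ S)
    (hST : S ≤ T) (hB : Bm p T ≤ S) (hV : OZ p (pCore p G) ≤ Bm p T)
    (h : AB p S H (H ⊓ M) (pCoreOf p H)) :
    ∃ L ≤ cjClos (Bm p T) H, L ≤ H ∧ ¬ L ≤ M ∧ R1 p T M L := by
  have hZ : ¬ S ⊓ 𝐂⟮S⟯ ≤ 𝐂⟮H⟯ := fun e => h.min.lt.not_ge (le_inf le_rfl
    ((le_cent_comm ((le_inf ((le_inf (omegaOneCenter_le T)
      ((omegaOneCenter_le_centralizer T).trans (Push.cent_anti ((omegaOneCenter_le _).trans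
        (jt_le T))))).trans hB) ((omegaOneCenter_le_centralizer T).trans
          (Push.cent_anti hST))).trans e)).trans h0.z))
  have hC := h0.cen
  have nc := h0.nc
  have hVB : OZ p (pCore p G) ≤ pCore p G := omegaOneCenter_le _
  generalize hQe : pCore p G = Q at hC hQS hVB hV
  have hQ : Q.Normal := hQe ▸ inferInstance
  have hSH := h.syl.le
  have pQ : IsPGroup p Q := h.syl.pgrp.to_le hQS
  have nQ : ∀ {X : Subgroup G}, X ≤ 𝐍⟮Q⟯ := fun {_} => le_normalizer_of_normal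
  have hQT : Q ≤ pCoreOf p H := le_pCoreOf (hQS.trans hSH) nQ pQ
  have hsyl := (hE H _ _ _ (Gn.p2_sub h) (by
    rw [centralizer_subgroupOf h.TL]
    exact subgroupOf_mono _ ((Push.cent_anti hQT).trans (hC.trans hQT))) (fun e => hZ (by
      have := map_mono (f := H.subtype) e
      rw [map_inf_cent' H.subtype_injective, map_subgroupOf_eq_of_le hSH] at this
      refine this.trans ?_
      rintro _ ⟨x, hx, rfl⟩ y hy
      exact congrArg Subtype.val (hx ⟨y, hy⟩ (mem_top _))))).map H.subtype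
  rw [map_cjClos, map_bm H.subtype_injective, map_subgroupOf_eq_of_le hSH, Gn.p2_top,
    bm_eq_of_le hB hST] at hsyl
  have hZB : S ⊓ 𝐂⟮S⟯ ≤ Bm p T := by
    rw [← bm_eq_of_le hB hST, bm_eq]
    exact inf_le_inf_left S (Push.cent_anti ((omegaOneCenter_le _).trans (jt_le S)))
  set B := Bm p T with hBd
  set N := cjClos B H with hN
  have hNH : N ≤ H := cjClos_le_self (hB.trans hSH)
  have nN : H ≤ 𝐍⟮N⟯ := le_normalizer_cjClos _ _
  have hB0 : B ≠ ⊥ := fun e => hZ ((hZB.trans e.le).trans bot_le)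
  have nB : 𝐍⟮B⟯ ≤ M := by
    have : Nontrivial B := (nontrivial_iff_ne_bot B).2 hB0
    have := nc ⊤ top_ne_bot topCharacteristic
    rwa [Gn.p2_top] at this
  have hNM : ¬ N ≤ M := fun e => by
    have h1 := minIn_le_pCoreOf h.min h.syl.pgrp nN (le_inf hNH e) hsyl.pgrp hsyl.le
    have h2 := hsyl.eq_of_isPGroup (isPGroup_of_le_pCoreOf (cjClos_le h1 (le_normalizer_pCoreOf H)))
    exact h.min.lt.not_ge (le_inf le_rfl ((h2 ▸ nN : H ≤ 𝐍⟮B⟯).trans nB))
  obtain ⟨L, hLN, hBL, hLM, hmin⟩ := Gn.p2_minIn hsyl (inf_le_right.trans nB) hNM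
  have hLH := hLN.trans hNH
  have hab : AB p B L (L ⊓ M) (pCoreOf p L) := ⟨hsyl.mono hBL hLN, hmin, rfl,
    (le_inf ((commutator_mono hB hB).trans h.ab) ((comm_le_left le_normalizer).trans hBL)).trans
      (pCoreOf_inf_le hLH)⟩
  have nQN : H ≤ 𝐍⟮Q ⊓ N⟯ := le_normalizer_inf nQ nN
  have pQN : IsPGroup p (Q ⊓ N : Subgroup G) := pQ.to_le inf_le_left
  have hQN : Q ⊓ N ≤ pCoreOf p L := le_pCoreOf
    ((hsyl.le_of_le_normalizer inf_le_right pQN ((hB.trans hSH).trans nQN)).trans hBL)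
      (hLH.trans nQN) pQN
  have cQ : ∀ {X : Subgroup G}, X ≤ N → ⁅Q, X⁆ ≤ Q ⊓ N := fun hX => le_inf (comm_le_left nQ) (by
    rw [Subgroup.commutator_comm]
    exact (commutator_mono hX le_rfl).trans (comm_le_left ((hQS.trans hSH).trans nN)))
  have hCR : L ⊓ 𝐂⟮pCoreOf p L⟯ ≤ pCoreOf p L := le_pCoreOf inf_le_left
    (le_normalizer_inf le_normalizer (le_normalizer_centralizer (le_normalizer_pCoreOf L)))
    (isPGroup_of_pResOf_le pQ ((pResOf_le_centralizer_of_section pQN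
      ((pResOf_le _).trans (inf_le_right.trans (Push.cent_anti hQN)))
      (cQ ((pResOf_le _).trans (inf_le_left.trans hLN)))).trans hC))
  obtain ⟨F, _, _, _, ρ, r1, r2, r3⟩ :=
    (hR G B L (L ⊓ M) _ hab hCR fun W w1 w2 e => hLM (e.trans (nc W w1 w2))).rho
  refine ⟨L, hLN, hLH, hLM, hab, hCR, nrm_of hab ρ r1 r2 r3, ?_⟩
  rw [hQe]
  exact le_trans (le_inf hVB (hV.trans hsyl.le)) hQN

end Cfsg.Agent.Spc.Pu
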