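import Cfsg.Agent.Spc.PuDef
import Cfsg.Agent.BHS.Blk

/-! The symmetric block is a good block. -/

namespace Cfsg.Agent.Spc.Pu

open Subgroup Cfsg.Agent.LocalEven Cfsg.Agent.PLocal Cfsg.Agent.Push Cfsg.Agent.BHS
open Cfsg.Agent.Glaub hiding cent_anti
open scoped commutatorElement MatrixGroups

universe u

section
open Equiv

theorem s4_fix {n : ℕ} (hn : 1 ≤ n) (P : Sylow 2 (Perm (Fin (2 ^ n + 1)))) :
    ∃ x0, (∀ g ∈ (P : Subgroup (Perm (Fin (2 ^ n + 1)))), g x0 = x0) ∧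
      ∀ x y, x ≠ x0 → y ≠ x0 → ∃ g ∈ (P : Subgroup (Perm (Fin (2 ^ n + 1)))), g x = y := by
  classical
  have h2 : ¬ 2 ∣ Nat.card (Fin (2 ^ n + 1)) := by
    rw [Nat.card_eq_fintype_card, Fintype.card_fin]
    have : 2 ∣ 2 ^ n := dvd_pow_self 2 (by omega)
    omega
  obtain ⟨x0, hx0⟩ := P.isPGroup'.nonempty_fixed_point_of_prime_not_dvd_card (Fin (2 ^ n + 1)) h2
  have hfix : ∀ g ∈ (P : Subgroup (Perm (Fin (2 ^ n + 1)))), g x0 = x0 := fun g hg =>
    hx0 ⟨g, hg⟩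
  refine ⟨x0, hfix, fun x y hx hy => ?_⟩
  obtain ⟨f, hf, hs⟩ := (Finset.univ.erase x0).exists_cycleOn
  have hc : (Finset.univ.erase x0).card = 2 ^ n := by simp
  have hp : f ^ 2 ^ n = 1 := by
    refine Equiv.ext fun a => ?_
    by_cases ha : a ∈ Finset.univ.erase x0
    · have := hf.pow_card_apply ha
      rw [hc] at this
      exact this
    · have : f a = a := Perm.notMem_support.1 fun h => ha (hs h)
      exact Perm.pow_apply_eq_self_of_apply_eq_self this _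
  have hz : IsPGroup 2 (zpowers f) := by
    rintro ⟨_, k, rfl⟩
    refine ⟨n, Subtype.ext ?_⟩
    change (f ^ k) ^ 2 ^ n = 1
    rw [← zpow_natCast, ← zpow_mul, mul_comm, zpow_mul, zpow_natCast, hp, one_zpow]
  obtain ⟨Q, hQ⟩ := hz.exists_le_sylow
  obtain ⟨g, rfl⟩ := MulAction.exists_smul_eq (Perm (Fin (2 ^ n + 1))) P Q
  have hm : ∀ k : ℤ, g⁻¹ * f ^ k * g ∈ (P : Subgroup (Perm (Fin (2 ^ n + 1)))) := fun k => by
    have := hQ (zpow_mem (mem_zpowers f) k)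
    rw [Sylow.coe_subgroup_smul, mem_pointwise_smul_iff_inv_smul_mem] at this
    simpa using this
  have hg : g x0 = x0 := by
    by_contra hne
    have h1 := hfix _ (hm 1)
    simp only [zpow_one, Perm.mul_apply] at h1
    have h3 : f (g x0) = g x0 := by
      have := congrArg g h1
      simpa using this
    have hnt : ((Finset.univ.erase x0 : Finset _) : Set (Fin (2 ^ n + 1))).Nontrivial := by
      rw [Finset.nontrivial_coe, ← Finset.one_lt_card_iff_nontrivial, hc]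
      exact Nat.one_lt_two_pow (by omega)
    exact hf.apply_ne hnt (by simpa using hne) h3
  have hne : ∀ x, x ≠ x0 → g x ∈ ((Finset.univ.erase x0 : Finset _) : Set (Fin (2 ^ n + 1))) :=
    fun x hx => by
      simp only [Finset.coe_erase, Finset.coe_univ, Set.mem_diff, Set.mem_univ,
        Set.mem_singleton_iff, true_and]
      intro e; exact hx (g.injective (e.trans hg.symm))
  obtain ⟨k, hk⟩ := hf.2 (hne x hx) (hne y hy)
  exact ⟨_, hm k, by simp [hk]⟩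

theorem s4_typ {H : Type*} [Group H] {N m : ℕ} (hN : N = 2 * m + 1) (τ : H →* Perm (Fin N))
    (hr : τ.range = alternatingGroup (Fin N)) (Q : Subgroup H) [Q.Normal] (hk : τ.ker = Q)
    (x0 : Fin N) (D : Subgroup H) (hD : ∀ h, h ∈ D ↔ τ h x0 = x0) :
    Nonempty (H ⧸ Q ≃* alternatingGroup (Fin (2 * m + 1))) ∧
      Nonempty (D.map (QuotientGroup.mk' Q) ≃* alternatingGroup (Fin (2 * m))) := by
  subst hN
  subst hk
  refine ⟨⟨(QuotientGroup.quotientKerEquivRange τ).trans (MulEquiv.subgroupCongr hr)⟩, ?_⟩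
  have hi := QuotientGroup.kerLift_injective τ
  let f := finSuccAboveEquiv x0
  have hj := Perm.extendDomainHom_injective f
  have e : (D.map (QuotientGroup.mk' τ.ker)).map (QuotientGroup.kerLift τ) =
      (alternatingGroup (Fin (2 * m))).map (Perm.extendDomainHom f) := by
    rw [map_map]
    ext g
    constructor
    · rintro ⟨h, hh, rfl⟩
      have h0 := (hD h).1 hh
      have h1 : ∀ x, τ h x ≠ x0 ↔ x ≠ x0 := fun x =>
        not_congr ⟨fun e => (τ h).injective (e.trans h0.symm), fun e => e ▸ h0⟩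
      have h2 : Perm.extendDomainHom f (f.symm.permCongr ((τ h).subtypePerm h1)) = τ h := by
        refine Equiv.ext fun x => ?_
        by_cases hx : x = x0
        · rw [Perm.extendDomainHom_apply, Perm.extendDomain_apply_not_subtype _ _ (by simpa using hx),
            hx, h0]
        · rw [Perm.extendDomainHom_apply, Perm.extendDomain_apply_subtype _ f hx]
          simp
      refine ⟨_, ?_, h2⟩
      have h3 : τ h ∈ alternatingGroup _ := hr ▸ ⟨h, rfl⟩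
      rw [← h2, Perm.mem_alternatingGroup, Perm.extendDomainHom_apply, Perm.sign_extendDomain] at h3
      exact h3
    · rintro ⟨s, hs, rfl⟩
      have h3 : Perm.extendDomainHom f s ∈ τ.range := by
        rw [hr, Perm.mem_alternatingGroup, Perm.extendDomainHom_apply, Perm.sign_extendDomain]
        exact hs
      obtain ⟨h, hh⟩ := h3
      refine ⟨h, (hD h).2 ?_, hh⟩
      rw [hh, Perm.extendDomainHom_apply, Perm.extendDomain_apply_not_subtype _ _ (by simp)]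
  exact ⟨((equivMapOfInjective _ _ hi).trans (MulEquiv.subgroupCongr e)).trans
    (equivMapOfInjective _ _ hj).symm⟩

theorem s4_card {a b : ℕ} (hb : 1 ≤ b)
    (e : alternatingGroup (Fin (2 * a + 1)) ≃* alternatingGroup (Fin (2 * b + 1))) : a = b := by
  have h := Nat.card_congr e.toEquiv
  have hb' : Nontrivial (Fin (2 * b + 1)) := Fin.nontrivial_iff_two_le.2 (by omega)
  have h2 := two_mul_nat_card_alternatingGroup (α := Fin (2 * b + 1))
  rw [Nat.card_perm, Nat.card_eq_fintype_card (α := Fin _), Fintype.card_fin] at h2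
  rcases Nat.eq_zero_or_pos a with rfl | ha
  · have h4 : Nat.card (alternatingGroup (Fin (2 * 0 + 1))) = 1 := by
      have : Subsingleton (Fin (2 * 0 + 1)) := Fin.subsingleton_one
      exact Nat.card_unique
    have : (3 : ℕ).factorial ≤ (2 * b + 1).factorial := Nat.factorial_le (by omega)
    have h6 : (3 : ℕ).factorial = 6 := rfl
    omega
  · have ha' : Nontrivial (Fin (2 * a + 1)) := Fin.nontrivial_iff_two_le.2 (by omega)
    have h3 := two_mul_nat_card_alternatingGroup (α := Fin (2 * a + 1))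
    rw [Nat.card_perm, Nat.card_eq_fintype_card (α := Fin _), Fintype.card_fin] at h3
    have := (Nat.factorial_inj (n := 2 * a + 1) (m := 2 * b + 1) (by omega)).1 (by omega)
    omega


end

variable {G : Type u} [Group G]

/-- The stabilizer in `K` of a point. -/
def s4St {K : Subgroup G} {N : ℕ} (σ : K →* Equiv.Perm (Fin N)) (x0 : Fin N) : Subgroup G :=
  ((MulAction.stabilizer (Equiv.Perm (Fin N)) x0).comap σ).map K.subtype

theorem s4_mem {K : Subgroup G} {N : ℕ} {σ : K →* Equiv.Perm (Fin N)} {x0 : Fin N} (k : K) :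
    (k : G) ∈ s4St σ x0 ↔ σ k x0 = x0 := by
  constructor
  · rintro ⟨k', h, e⟩
    obtain rfl : k' = k := Subtype.ext e
    exact h
  · intro h; exact ⟨k, h, rfl⟩

theorem s4_cent [Finite G] {T M V K : Subgroup G} {n : ℕ} {σ ψ} (h0 : Set0 2 T M)
    (h : SD T M V K n σ ψ) {x0 : Fin (2 ^ n + 1)} (hf : ∀ k : K, (k : G) ∈ T → σ k x0 = x0)
    (ht : ∀ x y, x ≠ x0 → y ≠ x0 → ∃ k : K, (k : G) ∈ T ∧ σ k x = y) :
    s4St σ x0 ≤ 𝐂⟮OZ 2 T⟯ := by
  have hS : IsSylowIn 2 (T ⊓ K) K := sylow_inf_subnormal h0.syl.toSylowTop h.sub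
  have hle : s4St σ x0 ≤ K := map_subtype_le _
  have hS' : IsSylowIn 2 (T ⊓ K) (s4St σ x0) :=
    hS.mono (fun t ht => (s4_mem ⟨t, ht.2⟩).2 (hf _ ht.1)) hle
  have hVn : V.Normal := by
    rw [h.eqV]
    exact normalizer_eq_top_iff.1 (top_le_iff.1 ((normalizer_eq_top_iff.2 inferInstance).ge.trans
      (normalizer_le_normalizer_omegaOneCenter _)))
  have hV : ∀ v ∈ V, v ∈ 𝐂⟮V⟯ ∧ v ^ 2 = 1 := fun v hv => by
    rw [h.eqV] at hv ⊢
    obtain ⟨h1, h2, h3⟩ := mem_omegaOneCenter.1 hv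
    exact ⟨Push.cent_anti (omegaOneCenter_le _) h2, h3⟩
  have hUV : ⁅V, K⁆ ≤ V := commutator_le_left _ _
  refine le_cent_comm fun z hz => ?_
  have hzV : z ∈ V := by rw [h.eqV]; exact oz_le_oz_core h0.cen h0.syl hz
  have hUn : (V ⊓ 𝐂⟮K⟯) ≤ 𝐍⟮⁅V, K⁆⟯ := fun c hc =>
    centralizer_le_normalizer' _ (Push.cent_anti hUV (hV c hc.1).1)
  have hz2 := h.dec hzV
  rw [← SetLike.mem_coe, coe_mul_of_right_le_normalizer_left _ _ hUn] at hz2
  obtain ⟨u, hu, c, hc, rfl⟩ := hz2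
  have hu' : u ∈ ⁅V, K⁆ := hu
  have hc' : c ∈ V ⊓ 𝐂⟮K⟯ := hc
  have huT : u ∈ 𝐂⟮T ⊓ K⟯ := by
    have h1 : u * c ∈ 𝐂⟮T ⊓ K⟯ := Push.cent_anti inf_le_left (mem_omegaOneCenter.1 hz).2.1
    have h2 : c ∈ 𝐂⟮T ⊓ K⟯ := Push.cent_anti inf_le_right hc'.2
    simpa using mul_mem h1 (inv_mem h2)
  have hinv : ∀ x y, x ≠ x0 → y ≠ x0 → ψ u x = ψ u y := fun x y hx hy => by
    obtain ⟨k, hk, e⟩ := ht x y hx hy
    have h1 := h.perm.conj k u hu' y
    have h2 : (k : G) * u * (k : G)⁻¹ = u := by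
      rw [huT k (mem_inf.2 ⟨hk, k.2⟩)]; simp
    rw [h2, ← e] at h1
    rw [← e, h1]; simp
  have hsq : ∀ g ∈ s4St σ x0, g ^ 2 ^ 1 ∈ 𝐂⟮zpowers u⟯ := by
    rintro _ ⟨k, hk, rfl⟩
    have hk' : σ k x0 = x0 := hk
    have hm : (k : G) * u * (k : G)⁻¹ ∈ ⁅V, K⁆ := conj_mem_of_mem_normalizer (h.perm.norm k.2) hu'
    have e1 : ψ (k * u * (k : G)⁻¹) = ψ u := by
      funext i
      rw [h.perm.conj k u hu' i]
      by_cases hi : i = x0
      · rw [hi, Equiv.Perm.inv_eq_iff_eq.2 hk'.symm]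
      · refine hinv _ _ (fun e => hi ?_) hi
        rw [Equiv.Perm.inv_eq_iff_eq] at e
        rw [e, hk']
    have hw : (k : G) * u * (k : G)⁻¹ * u ∈ ⁅V, K⁆ ⊓ 𝐂⟮K⟯ := by
      refine (h.perm.ker _ (mul_mem hm hu')).1 ?_
      rw [h.perm.mul _ hm _ hu', e1]
      funext i
      exact CharTwo.add_self_eq_zero _
    set w := (k : G) * u * (k : G)⁻¹ * u with hwd
    have hu2 : u * u = 1 := by rw [← pow_two]; exact (hV u (hUV hu')).2
    have hw2 : w * w = 1 := by rw [← pow_two]; exact (hV w (hUV hw.1)).2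
    have hkw : (k : G) * w = w * k := hw.2 k k.2
    have e2 : (k : G) * u = w * u * k := by
      rw [hwd, mul_assoc _ u u, hu2]; group
    rw [centralizer_zpowers, mem_centralizer_singleton]
    change u * (k : G) ^ 2 ^ 1 = (k : G) ^ 2 ^ 1 * u
    rw [pow_one, pow_two]
    calc u * ((k : G) * k) = (w * w) * u * k * k := by rw [hw2]; group
      _ = w * (w * u * k) * k := by group
      _ = w * (k * u) * k := by rw [← e2]
      _ = (w * k) * u * k := by group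
      _ = k * (w * u * k) := by rw [← hkw]; group
      _ = k * k * u := by rw [← e2]; group
  have h1 : s4St σ x0 ≤ 𝐂⟮zpowers u⟯ := by
    rw [← hS'.pResOf_sup]
    exact sup_le (pResOf_le_of_pow_mem fun x hx => ⟨1, hsq x hx⟩)
      (le_cent_comm (zpowers_le.2 huT))
  exact mul_mem (le_cent_comm h1 (mem_zpowers u)) (Push.cent_anti hle hc'.2)

theorem ps4 : PS4.{u} := by
  intro G _ _ T M V K E n σ ψ h0 h b hbd hQ
  have hS : IsSylowIn 2 (T ⊓ K) K := sylow_inf_subnormal h0.syl.toSylowTop h.sub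
  obtain ⟨x0, hf0, ht0⟩ := s4_fix h.pos (hS.toSylow.mapSurjective h.surj)
  have hf : ∀ k : K, (k : G) ∈ T → σ k x0 = x0 := fun k hk =>
    hf0 _ ⟨k, mem_subgroupOf.2 (mem_inf.2 ⟨hk, k.2⟩), rfl⟩
  have ht : ∀ x y, x ≠ x0 → y ≠ x0 → ∃ k : K, (k : G) ∈ T ∧ σ k x = y := fun x y hx hy => by
    obtain ⟨_, ⟨k, hk, rfl⟩, e⟩ := ht0 x y hx hy
    exact ⟨k, (mem_inf.1 (mem_subgroupOf.1 hk)).1, e⟩
  have hC := s4_cent h0 h hf ht
  have hM : ∀ k : K, (k : G) ∈ M ↔ σ k x0 = x0 := fun k => by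
    refine ⟨fun hk => ?_, fun hk => h0.z (hC ((s4_mem k).2 hk))⟩
    by_contra hne
    refine h.nle fun g hg => ?_
    by_cases hg0 : σ ⟨g, hg⟩ x0 = x0
    · exact h0.z (hC ((s4_mem ⟨g, hg⟩).2 hg0))
    · obtain ⟨t, ht1, ht2⟩ := ht _ _ hne hg0
      have h1 : (((t * k)⁻¹ * ⟨g, hg⟩ : K) : G) ∈ M := h0.z (hC ((s4_mem _).2 (by
        rw [map_mul, map_inv, Equiv.Perm.mul_apply, Equiv.Perm.inv_eq_iff_eq, map_mul,
          Equiv.Perm.mul_apply, ht2])))
      have h2 : ((t * k : K) : G) ∈ M := mul_mem (h0.min.le ht1) hk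
      simpa [mul_assoc] using mul_mem h2 h1
  obtain ⟨a, haT, i, j, hij, ha⟩ := h.ex
  have hi0 : i ≠ x0 := fun e => by
    have := hf a haT
    rw [ha, ← e, Equiv.swap_apply_left] at this
    exact hij this.symm
  have hN : ∃ m, 1 ≤ m ∧ 2 ^ n + 1 = 2 * m + 1 := by
    obtain ⟨k, hk⟩ := Nat.exists_eq_add_of_le h.pos
    exact ⟨2 ^ k, Nat.one_le_two_pow, by rw [hk, pow_add, pow_one]⟩
  have hnle : ¬ E ≤ M := fun hE => by
    have h3 : 3 ≤ Nat.card (Fin (2 ^ n + 1)) := by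
      obtain ⟨m, h1, h2⟩ := hN
      rw [Nat.card_eq_fintype_card, Fintype.card_fin]; omega
    have := alternatingGroup.isPretransitive_of_three_le_card (Fin (2 ^ n + 1)) h3
    obtain ⟨⟨s, hs⟩, e⟩ := this.exists_smul_eq x0 i
    rw [← b.img] at hs
    obtain ⟨k, hk, rfl⟩ := hs
    exact hi0 (e.symm.trans ((hM k).1 (hE (mem_subgroupOf.1 hk))))
  refine ⟨isBlock_iff.2 ⟨hbd, fun e => hnle ((commutator_eq_bot_iff.1 e).trans h0.z)⟩,
    IsSubnormal.step E K b.le h.sub ((normal_subgroupOf_iff_le_normalizer b.le).2 b.nK), hnle,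
    fun g hg => le_sup_left (a := 𝐂⟮OZ 2 T⟯)
      (hC ((s4_mem ⟨g, b.le hg.2⟩).2 ((hM ⟨g, b.le hg.2⟩).1 hg.1))),
    ⟨Bm 2 T ⊓ centMod V E, inf_le_left, ?_, fun e he hY => ?_⟩, ?_⟩
  · rw [← h.eqV]; exact (le_centMod.1 inf_le_right).2
  · refine (hM ⟨e, b.le he⟩).2 ?_
    by_contra hne
    set k : K := ⟨e, b.le he⟩ with hk
    have hx1 : (σ k)⁻¹ x0 ≠ x0 := fun e => hne (Equiv.Perm.inv_eq_iff_eq.1 e).symm
    obtain ⟨t, ht1, ht2⟩ := ht _ _ hi0 hx1
    have hs : σ (t * a * t⁻¹) = Equiv.swap (σ t i) (σ t j) := by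
      rw [map_mul, map_mul, map_inv, ha, Equiv.swap_apply_apply]
    obtain ⟨y, hy1, hy2, -, hy3, -⟩ := b.lift (t * a * t⁻¹)
      (mul_mem (mul_mem ht1 haT) (inv_mem ht1)) ⟨_, _, (σ t).injective.ne hij, hs⟩
    have hyY : (y : G) ∈ Bm 2 T ⊓ centMod V E := mem_inf.2 ⟨hy1,
      (le_centMod.2 ⟨(zpowers_le.2 y.2).trans b.nK, hy3.trans b.VE⟩) (mem_zpowers _)⟩
    have h1 : ((k * y * k⁻¹ : K) : G) ∈ M := hY ⟨y, hyY, rfl⟩
    have h2 := (hM _).1 h1
    rw [map_mul, map_mul, map_inv, Equiv.Perm.mul_apply, Equiv.Perm.mul_apply, hy2, hs, ← ht2,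
      Equiv.swap_apply_left, ← Equiv.Perm.eq_inv_iff_eq, ← ht2] at h2
    exact hij ((σ t).injective h2).symm
  · obtain ⟨m, hm1, hm⟩ := hN
    have hr : (σ.comp (inclusion b.le)).range = alternatingGroup _ := by
      rw [← b.img, MonoidHom.range_comp, inclusion_range]
    have hk : (σ.comp (inclusion b.le)).ker = pCore 2 E := by
      ext g
      have h1 : g ∈ pCore 2 E ↔ (g : G) ∈ pCoreOf 2 E :=
        ⟨fun hg => ⟨g, hg, rfl⟩, fun ⟨g', hg, e⟩ => (Subtype.ext e : g' = g) ▸ hg⟩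
      rw [h1, hQ, MonoidHom.mem_ker, MonoidHom.comp_apply, ← MonoidHom.mem_ker, h.ker,
        mem_subgroupOf, mem_inf]
      exact ⟨fun hg => ⟨g.2, hg⟩, fun hg => hg.2⟩
    obtain ⟨e1, e2⟩ := s4_typ hm _ hr (pCore 2 E) hk x0 ((M ⊓ E).subgroupOf E) fun g => by
      rw [mem_subgroupOf, mem_inf]
      exact ⟨fun hg => (hM (inclusion b.le g)).1 hg.1, fun hg => ⟨(hM (inclusion b.le g)).2 hg, g.2⟩⟩
    refine ⟨Or.inr (Or.inl ⟨rfl, m, e1, e2⟩), fun m' ⟨e3⟩ => ⟨n, ?_⟩⟩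
    obtain ⟨e1⟩ := e1
    rw [hm, s4_card hm1 (e3.symm.trans e1)]

end Cfsg.Agent.Spc.Pu
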