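import Mathlib

/-! Permutation group facts on `2 ^ n + 1` points. -/

set_option autoImplicit false

namespace Cfsg.Agent.Spc.Pu

open Subgroup Equiv

theorem s4c_cyc {K : Type*} [Group K] [Finite K] {n : ℕ} (hn : 1 ≤ n)
    (σ : K →* Perm (Fin (2 ^ n + 1))) (hσ : Function.Surjective σ) (T : Sylow 2 K) :
    ∃ x₀, ∃ c ∈ (T : Subgroup K), (∀ t ∈ (T : Subgroup K), σ t x₀ = x₀) ∧
      ∀ x y, x ≠ x₀ → y ≠ x₀ → ∃ k : ℤ, σ (c ^ k) x = y := by
  have : Fact (Nat.Prime 2) := ⟨Nat.prime_two⟩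
  have h2 : 2 ≤ 2 ^ n := by simpa using Nat.pow_le_pow_right (by norm_num : 0 < 2) hn
  obtain ⟨g, hg⟩ := (Perm.exists_with_cycleType_iff (Fin (2 ^ n + 1)) (m := {2 ^ n})).2
    ⟨by simp, by simpa using h2⟩
  have hp : IsPGroup 2 (zpowers g) := IsPGroup.of_card (n := n) (by
    rw [Nat.card_zpowers, ← Perm.lcm_cycleType, hg]; simp)
  obtain ⟨Q, hQ⟩ := hp.exists_le_sylow
  obtain ⟨u, hu⟩ := MulAction.exists_smul_eq (Perm (Fin (2 ^ n + 1))) Q (T.mapSurjective hσ)
  obtain ⟨c, hc, e⟩ : u * g * u⁻¹ ∈ (T : Subgroup K).map σ := by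
    rw [← Sylow.coe_mapSurjective hσ, ← hu]
    exact ⟨g, hQ (mem_zpowers g), rfl⟩
  have ht : (σ c).cycleType = {2 ^ n} := by rw [e, Perm.cycleType_conj, hg]
  have hcy : (σ c).IsCycle := Perm.card_cycleType_eq_one.1 (by rw [ht]; simp)
  have hs : (σ c).supportᶜ.card = 1 := by
    rw [Finset.card_compl, ← Perm.sum_cycleType, ht]; simp
  obtain ⟨x₀, h0⟩ := Finset.card_eq_one.1 hs
  have h1 : ∀ x, σ c x = x ↔ x = x₀ := fun x => by
    rw [← Finset.mem_singleton (a := x₀), ← h0, Finset.mem_compl, Perm.notMem_support]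
  obtain ⟨z, hz⟩ := (T.2.map σ).nonempty_fixed_point_of_prime_not_dvd_card (Fin (2 ^ n + 1)) (by
    rw [Nat.card_eq_fintype_card, Fintype.card_fin, Nat.dvd_add_right (dvd_pow_self 2 (by omega))]
    norm_num)
  obtain rfl : z = x₀ := (h1 z).1 (hz ⟨_, c, hc, rfl⟩)
  refine ⟨z, c, hc, fun t ht => hz ⟨_, t, ht, rfl⟩, fun x y hx hy => ?_⟩
  obtain ⟨k, hk⟩ := hcy.exists_zpow_eq (mt (h1 x).1 hx) (mt (h1 y).1 hy)
  exact ⟨k, by rw [map_zpow, hk]⟩

theorem s4c_top {α : Type*} [Fintype α] [DecidableEq α] (H : Subgroup (Perm α)) {x₀ : α}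
    (h : ∀ x y, x ≠ x₀ → y ≠ x₀ → ∃ g ∈ H, g x₀ = x₀ ∧ g x = y) {a m : Perm α} (ha : a ∈ H)
    (hs : a.IsSwap) (hm : m ∈ H) (h0 : m x₀ ≠ x₀) : H = ⊤ := by
  have tr : ∀ x, ∃ g ∈ H, g x = x₀ := fun x => by
    by_cases e : x = x₀
    · exact ⟨1, one_mem _, e⟩
    · obtain ⟨g, hg, -, e'⟩ := h x _ e h0
      exact ⟨m⁻¹ * g, mul_mem (inv_mem hm) hg, by simp [e']⟩
  refine Perm.subgroup_eq_top_of_isPreprimitive_of_isSwap_mem
    (MulAction.isPreprimitive_of_is_two_pretransitive (MulAction.is_two_pretransitive_iff.2 ?_)) a hs ha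
  intro a b c d h1 h2
  obtain ⟨g, hg, e1⟩ := tr a
  obtain ⟨f, hf, e2⟩ := tr c
  obtain ⟨k, hk, e3, e4⟩ := h (g b) (f d) (fun e => h1 (g.injective (e1.trans e.symm)))
    (fun e => h2 (f.injective (e2.trans e.symm)))
  refine ⟨⟨f⁻¹ * k * g, mul_mem (mul_mem (inv_mem hf) hk) hg⟩, ?_, ?_⟩
  · show f⁻¹ (k (g a)) = c
    rw [e1, e3, ← e2]; simp
  · show f⁻¹ (k (g b)) = d
    rw [e4]; simp

theorem s4c_sub {α : Type*} [Fintype α] [DecidableEq α] {x₀ : α} {g : Perm α} (h : g x₀ = x₀) :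
    ∃ f : Perm {x // x ≠ x₀}, Perm.ofSubtype f = g :=
  Perm.mem_range_ofSubtype_iff.2 fun x hx e => Perm.mem_support.1 hx (by rw [e, h])

/-- an even permutation fixing `x₀` lies in every subgroup containing the squares fixing `x₀` -/
theorem s4c_sq {α : Type*} [Fintype α] [DecidableEq α] {x₀ : α} (R : Subgroup (Perm α))
    (hR : ∀ g : Perm α, g x₀ = x₀ → g * g ∈ R) {g : Perm α} (h : g x₀ = x₀)
    (hg : g ∈ alternatingGroup α) : g ∈ R := by
  obtain ⟨f, rfl⟩ := s4c_sub h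
  have hf : f ∈ alternatingGroup {x // x ≠ x₀} := by
    rwa [Perm.mem_alternatingGroup, Perm.sign_ofSubtype, ← Perm.mem_alternatingGroup] at hg
  rw [← Perm.closure_three_cycles_eq_alternating] at hf
  refine (closure_le (R.comap Perm.ofSubtype)).2 (fun τ hτ => ?_) hf
  have h3 : τ ^ 3 = 1 := by rw [← Perm.IsThreeCycle.orderOf hτ, pow_orderOf_eq_one]
  have : τ = τ ^ 2 * τ ^ 2 := by rw [← pow_add, show 2 + 2 = 3 + 1 from rfl, pow_succ, h3, one_mul]
  show Perm.ofSubtype τ ∈ R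
  rw [this, map_mul]
  exact hR _ (Perm.ofSubtype_apply_of_not_mem _ (by simp))

/-- alternating groups of equivalent types -/
def s4cAlt {α β : Type*} [Fintype α] [DecidableEq α] [Fintype β] [DecidableEq β] (e : α ≃ β) :
    alternatingGroup α ≃* alternatingGroup β where
  toFun g := ⟨e.permCongr g.1, by
    rw [Perm.mem_alternatingGroup, Perm.sign_permCongr]; exact g.2⟩
  invFun g := ⟨e.symm.permCongr g.1, by
    rw [Perm.mem_alternatingGroup, Perm.sign_permCongr]; exact g.2⟩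
  left_inv g := by ext; simp
  right_inv g := by ext; simp
  map_mul' g h := by ext; simp

theorem s4c_stab {α : Type*} [Fintype α] [DecidableEq α] {x₀ : α} {m : ℕ}
    (hc : Fintype.card α = m + 1) (S : Subgroup (alternatingGroup α))
    (hS : ∀ g, g ∈ S ↔ g.1 x₀ = x₀) : Nonempty (S ≃* alternatingGroup (Fin m)) := by
  let θ : alternatingGroup {x // x ≠ x₀} →* alternatingGroup α :=
    (Perm.ofSubtype.comp (alternatingGroup {x // x ≠ x₀}).subtype).codRestrict _ fun g => by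
      rw [Perm.mem_alternatingGroup]
      exact (Perm.sign_ofSubtype g.1).trans g.2
  have hθ : Function.Injective θ := fun a b e =>
    Subtype.ext (Perm.ofSubtype_injective (congrArg Subtype.val e))
  have hr : θ.range = S := by
    ext g
    rw [hS]
    refine ⟨?_, fun h => ?_⟩
    · rintro ⟨f, rfl⟩
      exact Perm.ofSubtype_apply_of_not_mem _ (by simp)
    · obtain ⟨f, hf⟩ := s4c_sub h
      exact ⟨⟨f, by rw [Perm.mem_alternatingGroup, ← Perm.sign_ofSubtype, hf]; exact g.2⟩,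
        Subtype.ext hf⟩
  exact ⟨((MulEquiv.subgroupCongr hr).symm.trans (MonoidHom.ofInjective hθ).symm).trans
    (s4cAlt (Fintype.equivFinOfCardEq (by simp [hc])))⟩

theorem s4c_deg {a b : ℕ} (hb : 3 ≤ b) (ha : 1 ≤ a)
    (e : alternatingGroup (Fin a) ≃* alternatingGroup (Fin b)) : a = b := by
  have h := Nat.card_congr e.toEquiv
  have : Nontrivial (Fin b) := Fin.nontrivial_iff_two_le.2 (by omega)
  have h2 := two_mul_nat_card_alternatingGroup (α := Fin b)
  rw [Nat.card_perm, Nat.card_eq_fintype_card (α := Fin b), Fintype.card_fin, ← h] at h2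
  have h6 : 3 * 2 * 1 ≤ b.factorial := Nat.factorial_le hb
  rcases Nat.lt_or_ge a 2 with h1 | h1
  · obtain rfl : a = 1 := by omega
    rw [Nat.card_unique] at h2
    omega
  · have : Nontrivial (Fin a) := Fin.nontrivial_iff_two_le.2 h1
    rw [two_mul_nat_card_alternatingGroup, Nat.card_perm, Nat.card_eq_fintype_card,
      Fintype.card_fin] at h2
    exact (Nat.factorial_inj h1).1 h2

end Cfsg.Agent.Spc.Pu
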