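import Mathlib
import Cfsg.Agent.AltS.F35

set_option autoImplicit false

namespace Cfsg.Agent.Spc.PuTa

open scoped MatrixGroups commutatorElement

theorem sq_central {F : Type*} [Field F] (x : SL(2, F)) (h : x ^ 4 = 1) (g : SL(2, F)) :
    x ^ 2 * g = g * x ^ 2 := by
  have hd := x.det_coe
  rw [Matrix.det_fin_two] at hd
  set M : Matrix (Fin 2) (Fin 2) F := x.1 with hM
  set s := M 0 0 + M 1 1 with hs
  have ch : M * M = s • M - 1 := by
    ext i j
    fin_cases i <;> fin_cases j <;> simp [Matrix.mul_apply, Fin.sum_univ_two, hs] <;>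
      first | ring1 | linear_combination hd | linear_combination -hd
  have h4 : (s ^ 3 - 2 * s) • M = (s ^ 2) • (1 : Matrix (Fin 2) (Fin 2) F) := by
    have e : M * M * (M * M) = 1 := by
      have := congrArg Subtype.val h
      simpa [pow_succ, mul_assoc] using this
    rw [ch, sub_mul, mul_sub, mul_sub, smul_mul_smul_comm, ch] at e
    simp only [mul_one, one_mul] at e
    linear_combination (norm := module) e
  have sc : ∃ t : F, M * M = t • (1 : Matrix (Fin 2) (Fin 2) F) := by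
    by_cases h0 : s = 0
    · exact ⟨-1, by rw [ch, h0]; simp⟩
    by_cases h1 : s ^ 3 - 2 * s = 0
    · rw [h1, zero_smul] at h4
      have := congrFun (congrFun h4 0) 0
      simp at this
      exact absurd this.symm (pow_ne_zero 2 h0)
    · have : M = ((s ^ 3 - 2 * s)⁻¹ * s ^ 2) • (1 : Matrix (Fin 2) (Fin 2) F) := by
        rw [mul_smul, ← h4, smul_smul, inv_mul_cancel₀ h1, one_smul]
      exact ⟨_, by rw [this, smul_mul_smul_comm, mul_one]⟩
  obtain ⟨t, ht⟩ := sc
  apply Subtype.ext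
  have e2 : (x ^ 2).1 = t • (1 : Matrix (Fin 2) (Fin 2) F) := by
    rw [← ht]; simp [pow_two, hM]
  change (x ^ 2).1 * g.1 = g.1 * (x ^ 2).1
  rw [e2]; simp

def ta : Equiv.Perm (Fin 6) := ⟨![1, 2, 3, 0, 5, 4], ![3, 0, 1, 2, 5, 4], by decide, by decide⟩
def tb : Equiv.Perm (Fin 6) := ⟨![1, 2, 0, 3, 4, 5], ![2, 0, 1, 3, 4, 5], by decide, by decide⟩

theorem tsp : Equiv.Perm.sign ta = 1 ∧ Equiv.Perm.sign tb = 1 ∧ ta ^ 4 = 1 ∧
    ta ^ 2 * tb ≠ tb * ta ^ 2 := by decide +kernel

/-- `A_r` with `r ≥ 6` does not embed in `SL₂(F)`. -/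
theorem alt_le_five {F : Type*} [Field F] {r : ℕ} (j : alternatingGroup (Fin r) →* SL(2, F))
    (hj : Function.Injective j) : r ≤ 5 := by
  by_contra hr
  obtain ⟨ι, hι⟩ := AltS.f35_emb (n := 6) (r := r) (by omega)
  obtain ⟨s1, s2, h1, h2⟩ := tsp
  have := sq_central (j (ι ⟨ta, s1⟩)) (by
    rw [← map_pow, ← map_pow, show (⟨ta, s1⟩ : alternatingGroup (Fin 6)) ^ 4 = 1 from
      Subtype.ext h1, map_one, map_one]) (j (ι ⟨tb, s2⟩))
  rw [← map_pow, ← map_pow, ← map_mul, ← map_mul, ← map_mul, ← map_mul] at this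
  exact h2 (congrArg Subtype.val (hι (hj this)))

theorem comm_nontriv (F : Type*) [Field F] : commutator SL(2, F) ≠ ⊥ := by
  intro h
  let u : SL(2, F) := ⟨!![1, 1; 0, 1], by simp [Matrix.det_fin_two]⟩
  let v : SL(2, F) := ⟨!![1, 0; 1, 1], by simp [Matrix.det_fin_two]⟩
  have h1 : ⁅u, v⁆ ∈ commutator SL(2, F) :=
    Subgroup.commutator_mem_commutator (Subgroup.mem_top u) (Subgroup.mem_top v)
  rw [h, Subgroup.mem_bot, commutatorElement_eq_one_iff_mul_comm] at h1
  have h2 : u.1 * v.1 = v.1 * u.1 := congrArg Subtype.val h1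
  have := congrFun (congrFun h2 0) 0
  simp [u, v, Matrix.mul_apply, Fin.sum_univ_two] at this

/-- The last clause of `Typ` in the linear case. -/
theorem alt_sl2 {F : Type*} [Field F] {X : Type*} [Group X] (e : X ≃* commutator SL(2, F)) (m : ℕ)
    (h : Nonempty (X ≃* alternatingGroup (Fin (2 * m + 1)))) : ∃ n : ℕ, 2 * m + 1 = 2 ^ n + 1 := by
  obtain ⟨f⟩ := h
  have h5 := alt_le_five ((commutator SL(2, F)).subtype.comp (f.symm.trans e).toMonoidHom)
    (Subtype.val_injective.comp (f.symm.trans e).injective)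
  have h0 : m ≠ 0 := by
    rintro rfl
    apply comm_nontriv F
    haveI : Subsingleton (Fin (2 * 0 + 1)) := inferInstanceAs (Subsingleton (Fin 1))
    haveI : Subsingleton (commutator SL(2, F)) := (e.symm.trans f).injective.subsingleton
    exact Subgroup.eq_bot_of_subsingleton _
  obtain rfl | rfl : m = 1 ∨ m = 2 := by omega
  · exact ⟨1, rfl⟩
  · exact ⟨2, rfl⟩

end Cfsg.Agent.Spc.PuTa
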