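import Cfsg.Agent.Spc.PuDef

/-! Transport of blocks along injective homomorphisms. -/

namespace Cfsg.Agent.Spc.Pu

open Subgroup Cfsg.Agent.LocalEven Cfsg.Agent.PLocal Cfsg.Agent.Push Cfsg.Agent.BHS
open Cfsg.Agent.Glaub hiding cent_anti
open scoped commutatorElement MatrixGroups

universe u v

variable {G : Type u} [Group G] {G2 : Type v} [Group G2] {p : ℕ} {f : G →* G2}

theorem tr_core {A B : Type*} [Group A] [Group B] (e : A ≃* B) :
    (pCore p A).map (e : A →* B) = pCore p B := by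
  have h := map_pCoreOf_of_injective (p := p) (e : A →* B) e.injective ⊤
  rwa [pCoreOf_top, map_top_of_surjective _ e.surjective, pCoreOf_top] at h

/-- transport of the quotient by the core -/
noncomputable def trQ {A B : Type*} [Group A] [Group B] (e : A ≃* B) : A ⧸ pCore p A ≃* B ⧸ pCore p B :=
  QuotientGroup.congr _ _ e (tr_core e)

theorem tr_sl (hf : Function.Injective f) {F : Type*} [Field F] {R : Subgroup SL(2, F)} {E U U₀ : Subgroup G}
    (h : ActsAsSL2OnSection F R E U U₀) : ActsAsSL2OnSection F R (E.map f) (U.map f) (U₀.map f) := by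
  obtain ⟨h1, h2, ρ, ψ, h3, h4, h5, h6⟩ := h
  let a := E.equivMapOfInjective f hf
  let b := U.equivMapOfInjective f hf
  refine ⟨(map_le_norm hf).2 h1, map_mono h2, ρ.comp a.symm, ψ.comp b.symm, ?_,
    h4.comp b.symm.surjective, fun u => ?_, fun e u => ?_⟩
  · rw [MonoidHom.range_comp, MonoidHom.range_eq_top.2 a.symm.surjective, ← MonoidHom.range_eq_map, h3]
  · obtain ⟨u, rfl⟩ := b.surjective u
    simp only [MonoidHom.comp_apply, MonoidHom.coe_coe, MulEquiv.symm_apply_apply, h5]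
    exact (mem_map_iff_mem hf).symm
  · obtain ⟨u, rfl⟩ := b.surjective u
    obtain ⟨e, rfl⟩ := a.surjective e
    obtain ⟨w, k1, k2⟩ := h6 e u
    refine ⟨b w, ?_, by simpa using k2⟩
    show f w = f e * f u * (f e)⁻¹
    rw [k1]; simp

theorem tr_pm (hf : Function.Injective f) {n : ℕ} {R : Subgroup (Equiv.Perm (Fin n))} {E U U₀ : Subgroup G}
    (h : ActsAsOddPermModuleOnSection n R E U U₀) :
    ActsAsOddPermModuleOnSection n R (E.map f) (U.map f) (U₀.map f) := by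
  obtain ⟨h1, h2, ρ, ψ, h3, h4, h4', h5, h6⟩ := h
  let a := E.equivMapOfInjective f hf
  let b := U.equivMapOfInjective f hf
  refine ⟨(map_le_norm hf).2 h1, map_mono h2, ρ.comp a.symm, ψ.comp b.symm, ?_,
    fun u => h4 _, fun v hv => ?_, fun u => ?_, fun e u => ?_⟩
  · rw [MonoidHom.range_comp, MonoidHom.range_eq_top.2 a.symm.surjective, ← MonoidHom.range_eq_map, h3]
  · obtain ⟨u, hu⟩ := h4' v hv
    exact ⟨b u, by simpa using hu⟩
  · obtain ⟨u, rfl⟩ := b.surjective u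
    simp only [MonoidHom.comp_apply, MonoidHom.coe_coe, MulEquiv.symm_apply_apply, h5]
    exact (mem_map_iff_mem hf).symm
  · obtain ⟨u, rfl⟩ := b.surjective u
    obtain ⟨e, rfl⟩ := a.surjective e
    obtain ⟨w, k1, k2⟩ := h6 e u
    refine ⟨b w, ?_, by simpa using k2⟩
    show f w = f e * f u * (f e)⁻¹
    rw [k1]; simp

theorem bd_map (f : G →* G2) (hf : Function.Injective f) {B E : Subgroup G} (h : BD p B E) :
    BD p (B.map f) (E.map f) := by
  obtain ⟨h1, h2, h3, h4⟩ := h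
  have c1 := (map_pCoreOf_of_injective (p := p) f hf E).symm
  have c2 := (map_omegaOneCenter_of_injective (p := p) f hf (pCoreOf p E)).symm
  have c3 := fun X => (BHS.map_inf_cent hf X E).symm
  have q := trQ (p := p) (E.equivMapOfInjective f hf)
  refine ⟨by rw [← map_pResOf_of_injective f hf, h1], by rw [← map_commutator, h2],
    by rw [c1, ← map_commutator, h3], ?_⟩
  unfold Kind
  rw [c1, c2, c3, c3]
  rcases h4 with ⟨F, _, _, n, a1, ⟨a2⟩, a3, a4⟩ | ⟨a1, m, ⟨a2⟩, a3, a4⟩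
  · refine Or.inl ⟨F, _, _, n, a1, ⟨q.symm.trans a2⟩, tr_sl hf a3, ?_⟩
    rcases a4 with a4 | ⟨b1, b2, b3, b4, b5, b6, b7⟩
    · exact Or.inl (congrArg _ a4)
    · refine Or.inr ⟨b1, tr_sl hf b2, by rw [← map_commutator, b3], ?_, congrArg _ b5, ?_, ?_⟩
      · exact (map_phi' hf _).trans (congrArg _ b4)
      · rw [← b6]; exact (Nat.card_congr (equivMapOfInjective _ f hf).toEquiv).symm
      · rintro _ ⟨b, hb, rfl⟩ k1 k2
        refine b7 b hb (fun k => k1 ((BHS.map_mem_cent hf).2 k)) ?_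
        rwa [← MonoidHom.map_zpowers, ← map_commutator, ← map_commutator, map_le_map_iff_of_injective hf] at k2
  · exact Or.inr ⟨a1, m, ⟨q.symm.trans a2⟩, tr_pm hf a3, congrArg _ a4⟩

theorem blk_cj {T E : Subgroup G} (g : G) (h : IsBaumannBlock p T E) :
    IsBaumannBlock p (cj g T) (cj g E) := by
  obtain ⟨h1, h2⟩ := isBlock_iff.1 h
  refine isBlock_iff.2 ⟨?_, ?_⟩
  · rw [← cj_bm]; exact bd_map _ (MulAut.conj g).injective h1
  · rw [← cj_omegaOneCenter, ← cj_commutator]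
    exact fun k => h2 (cj_eq_bot.1 k)

theorem tr_sub {A B : Type*} [Group A] [Group B] (e : A ≃* B) (X : Subgroup A) :
    (X.map (QuotientGroup.mk' (pCore p A))).map (trQ (p := p) e : _ →* _) =
      (X.map (e : A →* B)).map (QuotientGroup.mk' (pCore p B)) := by
  rw [map_map, map_map]; rfl

theorem typ_cj {T M E : Subgroup G} (g : G) (h : Typ p T M E) :
    Typ p (cj g T) (cj g M) (cj g E) := by
  have q := trQ (p := p) (cjEquiv g E)
  have s : ((M ⊓ E).subgroupOf E).map (cjEquiv g E : E →* cj g E) = (cj g M ⊓ cj g E).subgroupOf (cj g E) := by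
    ext x
    obtain ⟨x, rfl⟩ := (cjEquiv g E).surjective x
    rw [← cj_inf]
    exact (mem_map_iff_mem (cjEquiv g E).injective).trans (conj_mem_cj_iff (g := g) (x := x) (H := M ⊓ E)).symm
  obtain ⟨h1, h2⟩ := h
  refine ⟨?_, fun m ⟨e⟩ => h2 m ⟨q.trans e⟩⟩
  rcases h1 with ⟨F, _, _, m, a1, a2, ⟨a3⟩, a4⟩ | ⟨a1, m, ⟨a2⟩, ⟨a3⟩⟩ | ⟨a1, ⟨a2⟩, a3⟩
  · exact Or.inl ⟨F, _, _, m, a1, a2, ⟨q.symm.trans a3⟩, by
      rw [← cj_inf, a4, ← cj_inf, ← cj_normalizer, ← cj_inf]⟩
  · refine Or.inr (Or.inl ⟨a1, m, ⟨q.symm.trans a2⟩, ?_⟩)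
    rw [← s, ← tr_sub]
    exact ⟨(equivMapOfInjective _ _ (trQ (p := p) (cjEquiv g E)).injective).symm.trans a3⟩
  · refine Or.inr (Or.inr ⟨a1, ⟨q.symm.trans a2⟩, ?_⟩)
    rw [← s, ← tr_sub, a3]
    ext x
    obtain ⟨x, rfl⟩ := (trQ (p := p) (cjEquiv g E)).surjective x
    refine (mem_map_iff_mem (trQ (p := p) (cjEquiv g E)).injective).trans ?_
    exact (MulEquivClass.apply_mem_center_iff _).symm

end Cfsg.Agent.Spc.Pu
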