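import Cfsg.Agent.Spc.PuDef
import Cfsg.Agent.LocalEven.Amalgam

/-! Splitting of extensions of symmetric groups. -/

namespace Cfsg.Agent.Spc.Pu

open Subgroup Cfsg.Agent.LocalEven Equiv
open scoped commutatorElement

universe u

section
variable {α : Type*} [DecidableEq α] {u v x y i j z : α}

theorem zb_g1 (h : u ≠ v) (c1 : swap x y u = u ∨ swap u v u = u) (c2 : swap x y v = v ∨ swap u v v = v)
    (h' : x ≠ y) : u ≠ x ∧ u ≠ y ∧ v ≠ x ∧ v ≠ y := by grind [swap_apply_def]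

theorem zb_g2 (h : u ≠ v) (c : u ≠ x ∧ u ≠ y ∧ v ≠ x ∧ v ≠ y) (a1 : i ≠ j) (a2 : i ≠ x) (a3 : i ≠ y)
    (a4 : j ≠ x) (a5 : j ≠ y) {f : Perm α} (e : f = swap (swap u i v) j * swap u i) :
    f x = x ∧ f y = y ∧ f u = i ∧ f v = j := by
  simp only [e, Perm.mul_apply]
  grind [swap_apply_def]

theorem zb_g3 (h : x ≠ y) (e : swap u v = swap x y) : (u = x ∧ v = y) ∨ (u = y ∧ v = x) := by
  have h5 := Equiv.congr_fun e x
  have h6 := Equiv.congr_fun e y
  grind [swap_apply_def]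

theorem zb_g4 (h : swap u v x ≠ x) : swap u v = swap x (swap u v x) := by
  ext z
  grind [swap_apply_def]

theorem zb_g5 (a1 : z ≠ i) (a2 : z ≠ j) (a3 : j ≠ x) (a4 : j ≠ i) :
    swap (swap x i x) (swap x i j) z = z := by grind [swap_apply_def]
end

section
variable {H : Type u} [Group H] {m : ℕ} {σ : H →* Perm (Fin m)} {a : H}

theorem zb_cen (hs : Function.Surjective σ) (hz : ∀ z, σ z = 1 → ∀ h, h * z = z * h)
    (sw : (σ a).IsSwap)
    (hd : 4 ≤ m → ∃ k : H, (σ a).Disjoint (σ (k * a * k⁻¹)) ∧ Commute a (k * a * k⁻¹))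
    {h : H} (hh : σ h * σ a = σ a * σ h) : h * a = a * h := by
  obtain ⟨x, y, hxy, e⟩ := sw
  have hk : σ.ker ≤ centralizer {a} := fun z h => mem_centralizer_singleton_iff.2 (hz z h a).symm
  have h1 : ∀ g, σ g x = x → σ g y = y → σ (g * a * g⁻¹ * a⁻¹) = 1 := fun g a1 a2 => by
    rw [map_mul, map_mul, map_mul, map_inv, map_inv, e, ← swap_apply_apply, a1, a2, mul_inv_cancel]
  have h2 : ∀ i j, i ≠ j → i ≠ x → i ≠ y → j ≠ x → j ≠ y → swap i j ∈ (centralizer {a}).map σ := by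
    intro i j a1 a2 a3 a4 a5
    obtain ⟨k, b1, b2⟩ := hd (by
      have := Finset.card_le_univ ({i, j, x, y} : Finset (Fin m))
      rwa [Finset.card_insert_of_notMem (by simp [*]), Finset.card_insert_of_notMem (by simp [*]),
        Finset.card_pair hxy, Fintype.card_fin] at this)
    have b3 : σ (k * a * k⁻¹) = swap (σ k x) (σ k y) := by
      rw [map_mul, map_mul, map_inv, e, swap_apply_apply]
    have b4 : σ k x ≠ σ k y := (σ k).injective.ne hxy
    rw [b3, e] at b1
    generalize σ k x = u, σ k y = v, k * a * k⁻¹ = b at *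
    have c1 := b1 u
    have c2 := b1 v
    obtain ⟨c, hc⟩ := hs (swap (swap u i v) j * swap u i)
    obtain ⟨d1, d2, d3, d4⟩ := zb_g2 b4 (zb_g1 b4 c1 c2 hxy) a1 a2 a3 a4 a5 hc
    have c4 := hz _ (h1 c d1 d2)
    refine ⟨c * b * c⁻¹, mem_centralizer_singleton_iff.2 ?_, ?_⟩
    · have c5 : c * b * c⁻¹ * (c * a * c⁻¹) = c * a * c⁻¹ * (c * b * c⁻¹) := by
        rw [conj_mul, conj_mul, b2.eq]
      have c6 : c * a * c⁻¹ = c * a * c⁻¹ * a⁻¹ * a := by group
      generalize c * a * c⁻¹ * a⁻¹ = z at *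
      rwa [c6, ← mul_assoc, c4, mul_assoc, mul_assoc z, mul_left_cancel_iff] at c5
    · rw [map_mul, map_mul, map_inv, b3, ← swap_apply_apply, d3, d4]
  have h3 : ∀ g, σ g x = x → σ g y = y → g ∈ centralizer {a} := fun g a1 a2 => by
    rw [← comap_map_eq_self hk, mem_comap]
    refine (closure_le ((centralizer {a}).map σ)).2 (fun f hf => ?_) ((mem_closure_isSwap (f := σ g)
      (S := {f | ∃ i j, i ≠ j ∧ i ≠ x ∧ i ≠ y ∧ j ≠ x ∧ j ≠ y ∧ f = swap i j})
      (by rintro _ ⟨i, j, h, -, -, -, -, rfl⟩; exact ⟨i, j, h, rfl⟩)).2 ⟨Set.toFinite _, fun z => ?_⟩)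
    · obtain ⟨i, j, b1, b2, b3, b4, b5, rfl⟩ := hf
      exact h2 i j b1 b2 b3 b4 b5
    · by_cases hz : σ g z = z
      · rw [hz]; exact MulAction.mem_orbit_self z
      · refine ⟨⟨swap z (σ g z), subset_closure ⟨z, _, Ne.symm hz, ?_, ?_, ?_, ?_, rfl⟩⟩, swap_apply_left _ _⟩
        · rintro rfl; exact hz a1
        · rintro rfl; exact hz a2
        · exact fun h => hz (h.trans ((σ g).injective (h.trans a1.symm)).symm)
        · exact fun h => hz (h.trans ((σ g).injective (h.trans a2.symm)).symm)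
  have h4 : swap (σ h x) (σ h y) = swap x y := by
    rw [swap_apply_apply, ← e, hh, mul_inv_cancel_right]
  refine mem_centralizer_singleton_iff.1 ?_
  rcases zb_g3 hxy h4 with h8 | h8
  · exact h3 h h8.1 h8.2
  · refine (mul_mem_cancel_left (mem_centralizer_singleton_iff.2 rfl : a ∈ _)).1 (h3 _ ?_ ?_)
    · rw [map_mul, e, Perm.mul_apply, h8.1, swap_apply_right]
    · rw [map_mul, e, Perm.mul_apply, h8.2, swap_apply_left]

theorem zb_ind (ha : a * a = 1) (sw : (σ a).IsSwap)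
    (hu : ∀ d d', IsConj a d → IsConj a d' → σ d = σ d' → d = d') (S : Finset (Fin m)) :
    ∀ c ∈ closure {d | IsConj a d ∧ ∀ z ∉ S, σ d z = z}, σ c = 1 → c = 1 := by
  have h0 : ∀ d, IsConj a d → d * d = 1 ∧ (σ d).IsSwap := fun d hd => by
    obtain ⟨g, rfl⟩ := isConj_iff.1 hd
    obtain ⟨x, y, h, e⟩ := sw
    exact ⟨by rw [conj_mul, ha, mul_one, mul_inv_cancel], σ g x, σ g y, (σ g).injective.ne h, by
      rw [map_mul, map_mul, map_inv, e, swap_apply_apply]⟩
  have hc : ∀ d g, IsConj a d → IsConj a (g * d * g⁻¹) := fun d g h => h.trans (isConj_iff.2 ⟨g, rfl⟩)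
  induction S using Finset.induction_on with
  | empty =>
    intro c h _
    refine (closure_le (K := ⊥)).2 (fun d hd => ?_) h
    obtain ⟨x, y, h, e⟩ := (h0 d hd.1).2
    exact (h ((hd.2 x (by simp)).symm.trans (by rw [e, swap_apply_left]))).elim
  | insert x S hx ih =>
    set C := closure {d | IsConj a d ∧ ∀ z ∉ S, σ d z = z}
    have step : ∀ e c, IsConj a e → (∀ z ∉ insert x S, σ e z = z) →
        (c ∈ C ∨ ∃ d, IsConj a d ∧ ∃ i ∈ S, σ d = swap x i ∧ d * c ∈ C) →
        (e * c ∈ C ∨ ∃ d, IsConj a d ∧ ∃ i ∈ S, σ d = swap x i ∧ d * (e * c) ∈ C) := by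
      intro e c he hf h
      by_cases h1 : σ e x = x
      · have h2 : ∀ z ∉ S, σ e z = z := fun z hz => by
          by_cases h : z = x
          · rw [h, h1]
          · exact hf z (by simp [*])
        have h3 : e ∈ C := subset_closure ⟨he, h2⟩
        rcases h with h | ⟨d, b1, i, b2, b3, b4⟩
        · exact .inl (mul_mem h3 h)
        · refine .inr ⟨_, hc d e b1, σ e i, ?_, ?_, ?_⟩
          · by_contra h
            exact h (((σ e).injective (h2 _ h)).symm ▸ b2)
          · rw [map_mul, map_mul, map_inv, b3, ← swap_apply_apply, h1]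
          · convert mul_mem h3 b4 using 1
            group
      · obtain ⟨p, q, h2, h3⟩ := (h0 e he).2
        have h4 : σ e = swap x (σ e x) := by
          rw [h3] at h1 ⊢
          exact zb_g4 h1
        have h5 : σ e x ∈ S := by
          by_contra h
          exact h1 ((σ e).injective (hf _ (by simp [h1, h])))
        generalize σ e x = j at h1 h4 h5
        rcases h with h | ⟨d, b1, i, b2, b3, b4⟩
        · exact .inr ⟨e, he, j, h5, h4, by rwa [← mul_assoc, (h0 e he).1, one_mul]⟩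
        · by_cases h6 : j = i
          · exact .inl (hu d e b1 he (by rw [b3, h4, h6]) ▸ b4)
          · refine .inr ⟨d, b1, i, b2, b3, ?_⟩
            convert mul_mem (show d * e * d⁻¹ ∈ C from subset_closure ⟨hc e d he, fun z hz => ?_⟩) b4 using 1
            · group
            · rw [map_mul, map_mul, map_inv, h4, ← swap_apply_apply, b3]
              exact zb_g5 (fun h => hz (h ▸ b2)) (fun h => hz (h ▸ h5)) h1 h6
    intro c h h1
    have h2 : c ∈ C ∨ ∃ d, IsConj a d ∧ ∃ i ∈ S, σ d = swap x i ∧ d * c ∈ C := by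
      clear h1
      induction h using closure_induction_left with
      | one => exact .inl (one_mem _)
      | mul_left e he c _ ih => exact step e c he.1 he.2 ih
      | inv_mul_cancel e he c _ ih =>
        rw [inv_eq_of_mul_eq_one_right (h0 e he.1).1]
        exact step e c he.1 he.2 ih
    rcases h2 with h2 | ⟨d, -, i, b2, b3, b4⟩
    · exact ih c h2 h1
    · have h3 : C ≤ (MulAction.stabilizer _ x).comap σ := (closure_le _).2 fun d hd => hd.2 x hx
      have h4 : σ (d * c) x = x := h3 b4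
      rw [map_mul, h1, mul_one, b3, swap_apply_left] at h4
      exact (hx (h4 ▸ b2)).elim

theorem zb_core (hs : Function.Surjective σ) (hz : ∀ z, σ z = 1 → ∀ h, h * z = z * h)
    (h2 : ∀ z, σ z = 1 → ∃ k, z ^ 2 ^ k = 1) (ha : a * a = 1) (sw : (σ a).IsSwap)
    (hd : 4 ≤ m → ∃ k : H, (σ a).Disjoint (σ (k * a * k⁻¹)) ∧ Commute a (k * a * k⁻¹))
    {z : H} (h3 : z ∈ pResOf 2 (⊤ : Subgroup H)) (h4 : σ z = 1) : z = 1 := by
  refine zb_ind ha sw (fun d d' b1 b2 e => ?_) Finset.univ z (pResOf_le_of_pow_mem (fun x _ => ?_) h3) h4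
  · obtain ⟨g, rfl⟩ := isConj_iff.1 b1
    obtain ⟨g', rfl⟩ := isConj_iff.1 b2
    have := zb_cen hs hz sw hd (h := g'⁻¹ * g) (by
      simp only [map_mul, map_inv] at e ⊢
      calc _ = (σ g')⁻¹ * (σ g * σ a * (σ g)⁻¹) * σ g := by group
        _ = _ := by rw [e]; group)
    calc _ = g' * (g'⁻¹ * g * a) * g⁻¹ := by group
      _ = _ := by rw [this]; group
  · obtain ⟨c, b1, b2⟩ : σ x ∈ (closure {d | IsConj a d ∧ ∀ z ∉ Finset.univ, σ d z = z}).map σ := by
      refine (closure_le _).2 (fun f hf => ?_) (Perm.closure_isSwap.ge (mem_top (σ x)))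
      obtain ⟨g, rfl⟩ := isConj_iff.1 (Perm.isConj_iff_cycleType_eq.2
        ((Perm.isSwap_iff_cycleType.1 sw).trans (Perm.isSwap_iff_cycleType.1 hf).symm))
      obtain ⟨g, rfl⟩ := hs g
      exact ⟨g * a * g⁻¹, subset_closure ⟨isConj_iff.2 ⟨g, rfl⟩, by simp⟩, by simp⟩
    have b3 : σ (c⁻¹ * x) = 1 := by rw [map_mul, map_inv, b2, inv_mul_cancel]
    obtain ⟨k, hk⟩ := h2 _ b3
    refine ⟨k, ?_⟩
    rw [← mul_inv_cancel_left c x, Commute.mul_pow (hz _ b3 c), hk, mul_one]
    exact pow_mem b1 _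

end

theorem pzb : PZ.{u} := by
  intro H _ _ m σ W a hs hW hk h2 ha sw he hc hd
  have := pResOf_normal (p := 2) (⊤ : Subgroup H)
  set E := pResOf 2 (⊤ : Subgroup H) with hE
  have hdec : ∀ g : H, ∃ e ∈ E, ∃ b ∈ zpowers a, e * b = g := fun g =>
    mem_sup_of_normal_left.1 (he.ge (mem_top g))
  have hsg : E ≤ (Perm.sign.comp σ).ker := pResOf_le_of_pow_mem fun x _ => ⟨1, by
    rw [MonoidHom.mem_ker, map_pow, pow_one, Int.units_sq]⟩
  set N := W ⊔ ⁅σ.ker ⊓ E, (⊤ : Subgroup H)⁆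
  have hN : N ≤ σ.ker := sup_le hk ((commutator_le_left _ _).trans inf_le_left)
  have h1 : σ.ker ⊓ E ≤ N := fun z hz => (QuotientGroup.eq_one_iff z).1 (zb_core
    (σ := QuotientGroup.lift N σ hN) (a := (a : H ⧸ N)) (fun f => (hs f).elim fun g h => ⟨g, h⟩)
    (fun z hz h => by
      obtain ⟨z, rfl⟩ := QuotientGroup.mk_surjective z
      obtain ⟨h, rfl⟩ := QuotientGroup.mk_surjective h
      obtain ⟨e, b1, _, ⟨i, rfl⟩, rfl⟩ := hdec z
      have b2 : σ e * σ (a ^ i) = 1 := (map_mul σ _ _).symm.trans hz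
      have b3 := congrArg Perm.sign b2
      rw [map_mul, show Perm.sign (σ e) = 1 from hsg b1, map_zpow, map_zpow, sw.sign_eq, one_mul,
        map_one] at b3
      obtain ⟨j, rfl⟩ := (Int.even_or_odd i).resolve_right fun h => by
        rw [h.neg_one_zpow] at b3
        exact absurd b3 (by decide)
      have b4 : a ^ (j + j) ∈ W := by
        rw [← two_mul, zpow_mul, zpow_two, ← sq]
        exact zpow_mem ha j
      rw [show σ (a ^ (j + j)) = 1 from hk b4, mul_one] at b2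
      have b5 := (QuotientGroup.eq_one_iff (N := N) _).2
        (mem_sup_right (commutator_mem_commutator (mem_inf.2 ⟨b2, b1⟩) (mem_top h)))
      rw [QuotientGroup.mk_mul, (QuotientGroup.eq_one_iff (N := N) _).2 (mem_sup_left b4), mul_one]
      exact (commutatorElement_eq_one_iff_mul_comm.1 b5).symm)
    (fun z hz => by
      obtain ⟨z, rfl⟩ := QuotientGroup.mk_surjective z
      obtain ⟨k, h⟩ := h2 ⟨z, hz⟩
      exact ⟨k, congrArg (fun y : σ.ker => ((y : H) : H ⧸ N)) h⟩)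
    ((QuotientGroup.eq_one_iff (N := N) (a * a)).2 (mem_sup_left (sq a ▸ ha))) sw
    (fun h => (hd h).elim fun k h => ⟨k, h.1, commutatorElement_eq_one_iff_commute.1
      ((QuotientGroup.eq_one_iff (N := N) _).2 (mem_sup_left h.2))⟩)
    (pResOf_mono le_top (map_pResOf_le (QuotientGroup.mk' N) ⊤ ⟨z, hz.2, rfl⟩)) hz.1)
  have h3 : IsPGroup 2 (zpowers a) := by
    obtain ⟨k, h⟩ := h2 ⟨a ^ 2, hk ha⟩
    rintro ⟨_, i, rfl⟩
    refine ⟨k + 1, Subtype.ext ?_⟩
    have h' : (a ^ 2) ^ 2 ^ k = 1 := congrArg Subtype.val h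
    change (a ^ i) ^ 2 ^ (k + 1) = 1
    rw [← zpow_natCast, ← zpow_mul, mul_comm, zpow_mul, zpow_natCast, pow_succ', pow_mul, h', one_zpow]
  have := Fact.mk Nat.prime_two
  refine le_of_le_sup_commutator (P := σ.ker ⊔ zpowers a) (Q := zpowers a)
    (h2.to_sup_of_normal_left h3) (inf_le_left.trans le_sup_left) le_sup_right (hk.trans le_sup_left)
    le_normalizer_of_normal (h1.trans (sup_le le_sup_left (commutator_le.2 fun z hz g _ => ?_)))
  obtain ⟨e, b1, b, b2, rfl⟩ := hdec g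
  have b3 : ⁅z, e * b⁆ = ⁅z, e⁆ * ⁅⁅z, b⁆, e⁆⁻¹ * ⁅z, b⁆ := by
    simp only [commutatorElement_def]; group
  rw [b3]
  exact mul_mem (mem_sup_left (mul_mem (hc (commutator_mem_commutator hz b1)) (inv_mem (hc
    (commutator_mem_commutator (commutator_le_left _ ⊤ (commutator_mem_commutator hz (mem_top b))) b1)))))
    (mem_sup_right (commutator_mem_commutator hz b2))

end Cfsg.Agent.Spc.Pu
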