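import Cfsg.Agent.Spc.PuDef

/-! Interface for the general local `C*(G,T)`-theorem. -/

namespace Cfsg.Agent.Spc.Pu

open Subgroup Cfsg.Agent.LocalEven Cfsg.Agent.PLocal Cfsg.Agent.Push Cfsg.Agent.BHS
open Cfsg.Agent.Glaub hiding cent_anti
open scoped commutatorElement MatrixGroups

universe u

variable {G : Type u} [Group G]

/-- A proper subgroup `M` containing `C*(G,T)`. -/
structure Set1 (p : ℕ) (T M : Subgroup G) : Prop where
  syl : IsSylowIn p T ⊤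
  le : T ≤ M
  ne : M ≠ ⊤
  cen : 𝐂⟮pCore p G⟯ ≤ pCore p G
  nc : Gn.NC (Bm p T) M
  z : 𝐂⟮OZ p T⟯ ≤ M

/-- The isomorphism type of a block and of its intersection with `M`. -/
def Typ1 (p : ℕ) (T M E : Subgroup G) : Prop :=
  (∃ (F : Type) (_ : Field F) (_ : Fintype F) (m : ℕ), 3 < p ^ m ∧ Fintype.card F = p ^ m ∧
      Nonempty (↥E ⧸ pCore p ↥E ≃* SL(2, F)) ∧ M ⊓ E = E ⊓ 𝐍⟮T ⊓ E⟯) ∨
    (p = 2 ∧ ∃ m : ℕ, Nonempty (↥E ⧸ pCore p ↥E ≃* ↥(alternatingGroup (Fin (2 * m + 1)))) ∧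
      Nonempty (↥(((M ⊓ E).subgroupOf E).map (QuotientGroup.mk' (pCore p ↥E))) ≃*
        ↥(alternatingGroup (Fin (2 * m))))) ∨
    (p = 3 ∧ Nonempty (↥E ⧸ pCore p ↥E ≃* ↥(commutator SL(2, ZMod 3))) ∧
      ((M ⊓ E).subgroupOf E).map (QuotientGroup.mk' (pCore p ↥E)) =
        center (↥E ⧸ pCore p ↥E))

/-- A subnormal block outside `M`. -/
structure GB1 (p : ℕ) (T M E : Subgroup G) : Prop where
  blk : IsBaumannBlock p T E
  sub : E.IsSubnormal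
  nle : ¬ E ≤ M
  star : M ⊓ E ≤ cStarOf p T
  sep : ∃ Y ≤ baumannSubgroup p G ⊓ cStarOf p T, ⁅OZ p (pCore p G), Y⁆ ≤ E ∧ ∀ e ∈ E, cj e Y ≤ M → e ∈ M
  typ : Typ1 p T M E

/-- The key existence statement. -/
def KEY (p : ℕ) : Prop :=
  ∀ (G : Type u) [Group G] [Finite G] (T M : Subgroup G), Set1 p T M → ∃ E, GB1 p T M E

end Cfsg.Agent.Spc.Pu
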