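import Mathlib
import Cfsg.Agent.Spc.S4

/-!
Splitting off the unipotent part, Eichler extensions, and `Sp₈(q)` for even `q`.
-/

set_option autoImplicit false
set_option backward.isDefEq.respectTransparency false

namespace Cfsg.Agent.Spc

open Module Polynomial Matrix Conj Spec Orth
open scoped _root_.Classical MatrixGroups

variable {F : Type*} [Field F] {V W : Type*} [AddCommGroup V] [Module F V] [AddCommGroup W] [Module F W]

theorem sim_sumHom {V₁ V₂ : Type*} [AddCommGroup V₁] [Module F V₁] [AddCommGroup V₂] [Module F V₂]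
    {Q₁ : QuadraticForm F V₁} {Q₂ : QuadraticForm F V₂} {Q : QuadraticForm F V} (e : (Q₁.prod Q₂).IsometryEquiv Q)
    (a : OG Q₁) (b : OG Q₂) :
    Sim ((subRep _ a).prodMap (subRep _ b) : End F (V₁ × V₂)) (subRep _ (sumHom e (a, b))) :=
  ⟨e.toLinearEquiv, fun v => (sumHom_apply e (a, b) v.1 v.2).symm⟩

theorem _root_.Cfsg.Agent.Conj.Sim.ap {f : End F V} {g : End F W} (h : Sim f g) {m : ℕ} (hf : ∀ v, AP f v m)
    (w : W) : AP g w m := by
  obtain ⟨e, he⟩ := h
  obtain ⟨v, rfl⟩ := e.surjective w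
  exact (ap_congr e he v m).2 (hf v)

theorem IsOT.sim {ε : Prop} {f : End F V} {g : End F W} (hf : IsOT ε f) (h : Sim f g) : IsOT ε g := by
  obtain ⟨Q, h1, h2, h3⟩ := hf
  obtain ⟨e, he⟩ := h
  let φ := QuadraticMap.isometryEquivOfCompLinearEquiv Q e.symm
  refine ⟨_, h1.of_iso φ, (isPlus_iff_of_iso φ).symm.trans h2, fun x => ?_⟩
  obtain ⟨x, rfl⟩ := e.surjective x
  simp [← he, h3]

theorem IsO.isSp (h2 : (2 : F) = 0) {f : End F V} (hf : IsO f) : IsSp f := by
  obtain ⟨Q, h1, h3⟩ := hf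
  exact ⟨Q.polarBilin, h1.nondeg, polarBilin_isAlt h2 Q, polar_inv h3⟩

variable [FiniteDimensional F V] [FiniteDimensional F W]

theorem exists_fin (f : End F V) {n : ℕ} (h : finrank F V = n) : ∃ g : End F (Fin n → F), Sim f g :=
  let e := LinearEquiv.ofFinrankEq (R := F) V (Fin n → F) (by simp [h])
  ⟨e.conj f, e, fun v => by simp⟩

theorem exists_split_one [Finite F] (p : ℕ) [hp : Fact p.Prime] [CharP F p] {Q : QuadraticForm F V} (hQ : ND Q)
    (g : OG Q) : ∃ (U : Submodule F V) (hU : U ⊓ perp Q U = ⊥) (a : OG (Q.restrict U))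
      (b : OG (Q.restrict (perp Q U))), sumHom (splitIso (hQ.isCompl_perp hU)) (a, b) = g ∧
        (∀ x, a.1 x = x → x = 0) ∧ IsNilpotent (subRep _ b - 1) := by
  haveI := Fintype.ofFinite F
  obtain ⟨N, hN, h0⟩ := exists_exp_ev (AlgebraicClosure F) (isO_og hQ g).isUnit
  have h1 := pow_eq_one_of_ev _ p _ (j := finrank F V) (by rintro rfl; simp at hN) h0 fun z =>
    (Multiset.count_le_card _ _).trans (by rw [card_ev]; exact (Nat.lt_pow_self hp.out.one_lt).le)
  rw [mul_comm, pow_mul, ← map_pow] at h1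
  set t := g ^ p ^ finrank F V with ht
  have h3 : ∀ x ∈ perp Q (mov t), t.1 x = x := fun x hx => mem_fix.1 (hQ.perp_mov t ▸ hx)
  have h4 : ∀ x ∈ mov t, t.1 x = x → x = 0 := fun x hx h =>
    eq_zero_of_mem_Mv (g := subRep _ t) (a := 1) (X_pow_sub_one_separable_iff.2 hN).squarefree (aeval_of_pow h1)
      (mem_Mv.2 (by simp only [one_smul]; exact mem_mov.1 hx)) (by rw [one_smul]; exact h)
  have hU : mov t ⊓ perp Q (mov t) = ⊥ := eq_bot_iff.2 fun x hx => h4 x hx.1 (h3 x hx.2)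
  have hst : g ∈ stab Q (mov t) := mem_stab_of_le (by
    rintro _ ⟨y, rfl⟩
    refine ⟨g.1 y, ?_⟩
    simp only [LinearMap.sub_apply, LinearEquiv.coe_coe, LinearMap.id_apply, map_sub]
    rw [← OG.mul_apply, ← OG.mul_apply, ht, (Commute.self_pow g _).eq])
  rw [← hQ.range_sumHom_splitIso hU] at hst
  obtain ⟨⟨a, b⟩, hab⟩ := hst
  have h5 : ∀ x y, t.1 (x.1 + y.1) = ((a ^ p ^ finrank F V).1 x).1 + ((b ^ p ^ finrank F V).1 y).1 := fun x y => by
    have := sumHom_apply (splitIso (hQ.isCompl_perp hU)) ((a, b) ^ p ^ finrank F V) x y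
    rwa [map_pow, hab, splitIso_apply, splitIso_apply] at this
  refine ⟨_, hU, a, b, hab, fun x hx => Subtype.ext (h4 x x.2 ?_), nil_of_pow p (j := finrank F V) ?_⟩
  · have h6 : (a ^ p ^ finrank F V).1 x = x := by
      change subRep _ (a ^ p ^ finrank F V) x = x
      rw [map_pow, Module.End.pow_apply]; exact Function.iterate_fixed hx _
    have := h5 x 0
    rwa [h6, map_zero, ZeroMemClass.coe_zero, add_zero] at this
  · rw [← map_pow]
    ext y
    have := h5 0 y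
    simp only [ZeroMemClass.coe_zero, zero_add, map_zero] at this
    exact this.symm.trans (h3 y y.2)

theorem rank_lt_of_nil [Nontrivial V] {N : End F V} (h : IsNilpotent N) :
    finrank F (LinearMap.range N) < finrank F V := by
  refine Submodule.finrank_lt fun h' => ?_
  exact h.not_isUnit ((LinearMap.isUnit_iff_range_eq_top N).2 h')

theorem nil_pow_of_parity [Nontrivial V] {N : End F V} (h : IsNilpotent N)
    (he : Even (finrank F (LinearMap.range N)) ↔ Even (finrank F V)) : N ^ (finrank F V - 1) = 0 := by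
  have h1 := rank_lt_of_nil h
  refine pow_eq_zero_of_le ?_ (nil_pow_rank h)
  rw [Nat.even_iff, Nat.even_iff] at he
  omega

omit [FiniteDimensional F V] in
theorem isPlus_hypQ : IsPlus (hypQ F) := (isPlus_plusQ 1).of_iso (plusOne F).symm

/-- Eichler extension of an affine map -/
noncomputable def eichExt {Q : QuadraticForm F V} (g : OG Q) (v : V) : OG ((hypQ F).prod Q) :=
  eich _ ((1, 0), 0) (0, v) * sumHom (QuadraticMap.IsometryEquiv.refl _) (1, g)

omit [FiniteDimensional F V] in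
theorem eichExt_apply {Q : QuadraticForm F V} (g : OG Q) (v : V) (x : (F × F) × V) :
    (eichExt g v).1 x = ((x.1.1 + (QuadraticMap.polar Q v (g.1 x.2) - Q v * x.1.2), x.1.2), g.1 x.2 - x.1.2 • v) := by
  have h : (sumHom (QuadraticMap.IsometryEquiv.refl ((hypQ F).prod Q)) (1, g)).1 x = (x.1, g.1 x.2) :=
    sumHom_apply' (QuadraticMap.IsometryEquiv.refl ((hypQ F).prod Q)) (1, g) x
  rw [eichExt, OG.mul_apply, h, eich_apply (by simp) (by simp [polar_hypQ])]
  ext <;> simp [polar_hypQ]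

omit [FiniteDimensional F V] in
theorem ap_of_eichExt {Q : QuadraticForm F V} (g : OG Q) (v : V) {m : ℕ} (h : subRep _ (eichExt g v) ^ m = 1) :
    AP (subRep _ g) v m := by
  have key : ∀ k (x : (F × F) × V), ((subRep _ (eichExt g v) ^ k) x).1.2 = x.1.2 ∧
      ((subRep _ (eichExt g v) ^ k) x).2 = (subRep _ g ^ k) x.2 - x.1.2 • gs (subRep _ g) k v := fun k => by
    induction k with
    | zero => simp [gs]
    | succ k ih =>
      intro x
      rw [pow_succ, Module.End.mul_apply, (ih _).1, (ih _).2, gs_succ, pow_succ]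
      change ((eichExt g v).1 x).1.2 = _ ∧ (subRep _ g ^ k) ((eichExt g v).1 x).2 - ((eichExt g v).1 x).1.2 • _ = _
      rw [eichExt_apply]
      refine ⟨rfl, ?_⟩
      simp only [map_sub, map_smul, LinearMap.add_apply, smul_add, Module.End.mul_apply]
      change _ - _ - _ = (subRep _ g ^ k) (g.1 x.2) - _
      abel
  refine ⟨LinearMap.ext fun x => ?_, ?_⟩
  · simpa [h] using (key m (0, x)).2.symm
  · simpa [h] using (key m ((0, 1), 0)).2

theorem IsOT.exists_eich [Finite F] {ε : Prop} {f : End F V} (hf : IsOT ε f) (he : Even (finrank F V)) {N : ℕ}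
    (h : AO f N) : ∃ x : End F ((F × F) × V), IsOT ε x ∧ ∀ m, x ^ m = 1 → N ∣ m := by
  obtain ⟨Q, h1, h2, h3⟩ := hf
  obtain ⟨g, rfl⟩ := Spc.exists_og h1 h3
  obtain ⟨v, hv⟩ := h
  exact ⟨subRep _ (eichExt g v), (isOT_og (nd_prod nd_hypQ h1) _).congr (by
    rw [Asch.isPlus_prod_iff nd_hypQ h1 (by simp) he, iff_true_intro isPlus_hypQ, true_iff, h2]),
    fun m hm => hv m (ap_of_eichExt g v hm)⟩

theorem exists_plane [Finite F] (ε : Prop) : ∃ b : F, ND (binQ 1 b) ∧ (IsPlus (binQ 1 b) ↔ ε) := by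
  by_cases h : ε
  · exact ⟨0, nd_binQ (by simp), iff_of_true (isPlus_binQ (r := 0) (by simp)) h⟩
  · obtain ⟨b, hb⟩ := exists_aniso (F := F)
    exact ⟨b, hb.nd, iff_of_false (fun h' => not_isPlus_minusQ 0 hb (h'.of_iso (minusZero 1 b))) h⟩

theorem isOT_one [Finite F] (ε : Prop) : IsOT ε (1 : End F (Fin 2 → F)) := by
  obtain ⟨b, h1, h2⟩ := exists_plane (F := F) ε
  exact ⟨_, h1, h2, fun _ => rfl⟩

section two
variable [Fintype F] [CharP F 2]

theorem exists_r (ε : Prop) : ∃ r : End F (Fin 2 → F), IsOT ε r ∧ AO r 4 ∧ (∀ m, r ^ m = 1 → 2 ∣ m) ∧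
    ¬ Even (finrank F (LinearMap.range (r - 1))) := by
  obtain ⟨b, h1, h2⟩ := exists_plane (F := F) ε
  have h3 : binQ 1 b ![1, 0] ≠ 0 := by simp [binQ_apply]
  have h4 : ¬ Even (rk (refl (binQ 1 b) ![1, 0])) := by simpa using h1.even_rk_refl_mul h3 1
  have h5 : subRep _ (refl (binQ 1 b) ![1, 0]) ^ 2 = 1 := by rw [← map_pow, sq, refl_mul_self, map_one]
  have h6 : subRep _ (refl (binQ 1 b) ![1, 0]) ≠ 1 := fun h => h4 (by
    rw [(map_eq_one_iff _ (subRep_injective _)).1 h, rk_one]; exact Even.zero)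
  refine ⟨_, (isOT_og h1 _).congr h2, ao_unip 2 (nil_of_pow 2 (j := 1) h5) (k := 1) (by simpa [sub_eq_zero]),
    fun m hm => ?_, h4⟩
  rw [← orderOf_eq_prime h5 h6]; exact orderOf_dvd_of_pow_eq_one hm

theorem exists_J4 (ε : Prop) : ∃ u : End F ((F × F) × (Fin 2 → F)), IsOT ε u ∧ AO u 8 := by
  obtain ⟨b, h1, h2⟩ := exists_plane (F := F) ε
  have h0 : (2 : F) = 0 := two_eq_zero_of_charP
  have key : ∀ x, (subRep _ (eichExt (refl (binQ 1 b) ![1, 0]) ![0, 1]) - 1 : End F _) x =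
      ((x.2 0 + x.2 1 + b * x.1.2, 0), ![x.2 1, x.1.2]) := fun x => by
    change (eichExt _ _).1 x - x = _
    rw [eichExt_apply, refl_apply]
    ext i
    · simp [binQ_apply, polar_binQ, h0, CharTwo.sub_eq_add, vecHead]; linear_combination x.1.1 * h0
    · simp
    · fin_cases i <;> simp [binQ_apply, polar_binQ, h0, CharTwo.sub_eq_add, CharTwo.neg_eq, vecHead, vecTail]
      · linear_combination x.2 0 * h0
      · linear_combination x.2 1 * h0
  refine ⟨_, (isOT_og (nd_prod nd_hypQ h1) (eichExt (refl (binQ 1 b) ![1, 0]) ![0, 1])).congr (by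
    rw [Asch.isPlus_prod_iff nd_hypQ h1 (by simp) (by simp), iff_true_intro isPlus_hypQ, true_iff, h2]),
    ao_unip 2 ⟨4, LinearMap.ext fun x => ?_⟩ (k := 3) fun h => ?_⟩
  · simp [pow_succ, key]
  · simpa [pow_succ, key] using LinearMap.congr_fun h ((0, 1), 0)

theorem exists_u {s : ℕ} (hs : s ≤ 2) (ε : Prop) : ∃ u : End F (Fin (6 - 2 * s) → F), IsOT ε u ∧
    AO u (2 ^ Nat.clog 2 (8 - 2 * s)) := by
  obtain ⟨u, h1, h2⟩ := exists_J4 (F := F) ε
  interval_cases s
  · obtain ⟨g, hg⟩ := exists_fin (u.prodMap (1 : End F (Fin 2 → F))) (n := 6 - 2 * 0) (by simp)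
    exact ⟨g, ((h1.prodMap (isOT_one True) (by simp; decide) (by simp)).congr (by simp)).sim hg,
      hg.ao (h2.prodMap (ao_of_pow fun m _ => one_dvd m) fun m h _ => h)⟩
  · obtain ⟨g, hg⟩ := exists_fin u (n := 6 - 2 * 1) (by simp)
    exact ⟨g, h1.sim hg, hg.ao h2⟩
  · obtain ⟨r, h3, h4, -⟩ := exists_r (F := F) ε
    exact ⟨r, h3, h4⟩

theorem exists_x {s : ℕ} (hs : s ≤ 3) (ε : Prop) : ∃ x : End F (Fin (8 - 2 * s) → F), IsOT ε x ∧
    ∀ m, x ^ m = 1 → 2 ^ Nat.clog 2 (8 - 2 * s) ∣ m := by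
  rcases hs.eq_or_lt with rfl | hs
  · obtain ⟨r, h3, -, h4, -⟩ := exists_r (F := F) ε
    exact ⟨r, h3, h4⟩
  · obtain ⟨u, h1, h2⟩ := exists_u (F := F) (s := s) (by omega) ε
    obtain ⟨x, h3, h4⟩ := h1.exists_eich (by simp; exact ⟨3 - s, by omega⟩) h2
    obtain ⟨g, hg⟩ := exists_fin x (n := 8 - 2 * s) (by simp; omega)
    exact ⟨g, h3.sim hg, fun m hm => h4 m ((hg.pow m).one_iff.2 hm)⟩

theorem pad_even {a : Prop} {u : End F V} (hu : IsOT a u) (he : Even (finrank F V)) :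
    ∃ t : End F (Fin 2 → F), IsOT False (u.prodMap t : End F (V × _)) ∧ AO t 2 ∧
      Even (finrank F (LinearMap.range ((u.prodMap t : End F (V × _)) - 1))) := by
  by_cases h : Even (finrank F (LinearMap.range (u - 1)))
  · refine ⟨1, (hu.prodMap (isOT_one ¬ a) he (by simp)).congr (by simp), ?_, by
      rw [rank_prodMap, sub_self, LinearMap.range_zero, finrank_bot]; exact h⟩
    simpa using ao_of_fixed 2 (f := (1 : End F (Fin 2 → F))) (v := ![1, 0]) (by simp) rfl (fun m _ => one_dvd m)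
      (by simp)
  · obtain ⟨r, h1, -, h2, h3⟩ := exists_r (F := F) (¬ a)
    exact ⟨r, (hu.prodMap h1 he (by simp)).congr (by simp), ao_of_pow h2, by
      rw [rank_prodMap, Nat.even_add]; tauto⟩

omit [CharP F 2] in
theorem sq_sub_one' (x : ℕ) : x ^ 2 - 1 = (x - 1) * (x + 1) := by simpa [mul_comm] using Nat.sq_sub_sq x 1

omit [CharP F 2] in
/-- reduction of an element with inversion-stable eigenvalues in dimension `8` -/
theorem eight_cases {L : Type*} [Field L] {q : ℕ} {S : Finset L} {D E : Multiset ℕ} (h1 : D.sum + E.sum = 4)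
    (h2 : ∀ d ∈ D, 0 < d) (h3 : ∀ d ∈ E, 0 < d)
    (h : ∀ z ∈ S, (∃ d ∈ D, z ^ (q ^ d - 1) = 1) ∨ ∃ d ∈ E, z ^ (q ^ d + 1) = 1) :
    (∀ z ∈ S, z ^ (q ^ 4 + 1) = 1) ∨ (4 ∈ D ∧ ∀ z ∈ S, z ^ (q ^ 4 - 1) = 1) ∨
      (∀ z ∈ S, z ^ (q ^ 3 - 1) = 1 ∨ z ^ (q + 1) = 1) ∨ (∀ z ∈ S, z ^ (q ^ 3 + 1) = 1 ∨ z ^ (q - 1) = 1) ∨
      ∀ z ∈ S, z ^ (q ^ 2 - 1) = 1 ∨ z ^ (q ^ 2 + 1) = 1 := by
  have le : ∀ {M : Multiset ℕ} {d : ℕ}, d ∈ M → d ≤ M.sum := fun h => Multiset.single_le_sum (by simp) _ h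
  have le2 : ∀ {M : Multiset ℕ} {d e : ℕ}, d ∈ M → e ∈ M → d ≠ e → d + e ≤ M.sum := fun {M d e} hd he hne => by
    obtain ⟨M, rfl⟩ := Multiset.exists_cons_of_mem hd
    rw [Multiset.sum_cons]
    exact Nat.add_le_add_left (le ((Multiset.mem_cons.1 he).resolve_left hne.symm)) _
  have sub : ∀ {z : L} {a b : ℕ}, z ^ (q ^ a - 1) = 1 → a ∣ b → z ^ (q ^ b - 1) = 1 := fun h hd =>
    pow_eq_one_of_dvd h (Nat.pow_sub_one_dvd_pow_sub_one q hd)
  have add : ∀ {z : L} {b : ℕ}, z ^ (q ^ 1 + 1) = 1 → Odd b → z ^ (q ^ b + 1) = 1 := fun h hb =>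
    pow_eq_one_of_dvd h (by simpa using hb.nat_add_dvd_pow_add_pow q 1)
  by_cases c1 : 4 ∈ E
  · refine Or.inl fun z hz => ?_
    have := le c1
    rcases h z hz with ⟨d, hd, h⟩ | ⟨d, hd, h⟩
    · have := le hd; have := h2 d hd; omega
    · by_cases h4 : d = 4
      · rwa [← h4]
      · have := le2 hd c1 h4; have := h3 d hd; omega
  by_cases c2 : 4 ∈ D
  · refine Or.inr (Or.inl ⟨c2, fun z hz => ?_⟩)
    have := le c2
    rcases h z hz with ⟨d, hd, h⟩ | ⟨d, hd, h⟩
    · by_cases h4 : d = 4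
      · rwa [← h4]
      · have := le2 hd c2 h4; have := h2 d hd; omega
    · have := le hd; have := h3 d hd; omega
  by_cases c3 : 3 ∈ D
  · refine Or.inr (Or.inr (Or.inl fun z hz => ?_))
    have := le c3
    rcases h z hz with ⟨d, hd, h⟩ | ⟨d, hd, h⟩
    · by_cases h4 : d = 3
      · exact Or.inl (by rwa [← h4])
      · have := le2 hd c3 h4; have := h2 d hd
        obtain rfl : d = 1 := by omega
        exact Or.inl (sub h (one_dvd _))
    · have := le hd; have := h3 d hd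
      obtain rfl : d = 1 := by omega
      exact Or.inr (by simpa using h)
  by_cases c4 : 3 ∈ E
  · refine Or.inr (Or.inr (Or.inr (Or.inl fun z hz => ?_)))
    have := le c4
    rcases h z hz with ⟨d, hd, h⟩ | ⟨d, hd, h⟩
    · have := le hd; have := h2 d hd
      obtain rfl : d = 1 := by omega
      exact Or.inr (by simpa using h)
    · by_cases h4 : d = 3
      · exact Or.inl (by rwa [← h4])
      · have := le2 hd c4 h4; have := h3 d hd
        obtain rfl : d = 1 := by omega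
        exact Or.inl (add h (by decide))
  refine Or.inr (Or.inr (Or.inr (Or.inr fun z hz => ?_)))
  rcases h z hz with ⟨d, hd, h⟩ | ⟨d, hd, h⟩
  · have := le hd; have := h2 d hd
    have : d ≠ 4 := by rintro rfl; exact c2 hd
    have : d ≠ 3 := by rintro rfl; exact c3 hd
    obtain rfl | rfl : d = 1 ∨ d = 2 := by omega
    exacts [Or.inl (sub h (one_dvd _)), Or.inl h]
  · have := le hd; have := h3 d hd
    have : d ≠ 4 := by rintro rfl; exact c1 hd
    have : d ≠ 3 := by rintro rfl; exact c4 hd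
    obtain rfl | rfl : d = 1 ∨ d = 2 := by omega
    · exact Or.inl (pow_eq_one_of_dvd h (by rw [pow_one, sq_sub_one']; exact dvd_mul_left _ _))
    · exact Or.inr h

omit [CharP F 2] in
theorem count_le_pow {L : Type*} [Field L] {M : Multiset L} (hI : M.map (·⁻¹) = M) {S : Finset L}
    (h4 : ∀ z, z ∈ S ↔ z ∈ M ∧ z⁻¹ ≠ z) (w : L) :
    (w ∈ S ∧ S.card + 2 * M.count w ≤ M.card + 2) ∨ (w ∉ S ∧ S.card + M.count w ≤ M.card) := by
  have hS1 : ∀ z ∈ S, 1 ≤ M.count z := fun z hz => Multiset.one_le_count_iff_mem.2 ((h4 z).1 hz).1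
  by_cases hwS : w ∈ S
  · have hwi : w⁻¹ ∈ S := (h4 _).2 ⟨hI ▸ Multiset.mem_map_of_mem _ ((h4 _).1 hwS).1, by
      rw [inv_inv]; exact ((h4 _).1 hwS).2.symm⟩
    have hne : w ≠ w⁻¹ := ((h4 _).1 hwS).2.symm
    have hsub : ({w, w⁻¹} : Finset L) ⊆ S := by
      intro v hv; simp only [Finset.mem_insert, Finset.mem_singleton] at hv; rcases hv with rfl | rfl <;> assumption
    have h6 := mul_card_add_le (M := M) (S := S \ {w, w⁻¹}) (T := {w, w⁻¹}) (c := 1) (d := M.count w)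
      (fun v hv => hS1 v (Finset.mem_sdiff.1 hv).1) (fun v hv => by
        simp only [Finset.mem_insert, Finset.mem_singleton] at hv
        rcases hv with rfl | rfl
        · exact le_rfl
        · exact (count_iterate inv_injective hI w 1).ge) Finset.sdiff_disjoint
    have h7 := Finset.card_sdiff_add_card_eq_card hsub
    rw [Finset.card_pair hne] at h6 h7
    exact Or.inl ⟨hwS, by omega⟩
  · have h6 := mul_card_add_le (M := M) (S := S) (T := {w}) (c := 1) (d := M.count w) hS1 (by simp)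
      (by simpa using hwS)
    rw [Finset.card_singleton] at h6
    exact Or.inr ⟨hwS, by omega⟩

omit [CharP F 2] in
/-- a semisimple orthogonal element with prescribed eigenvalues -/
theorem exists_isO_S {f : End F V} (hf : IsUnit f)
    (hI : (ev (AlgebraicClosure F) f).map (·⁻¹) = ev (AlgebraicClosure F) f) {S : Finset (AlgebraicClosure F)}
    (h4 : ∀ z, z ∈ S ↔ z ∈ ev _ f ∧ z⁻¹ ≠ z) {n : ℕ} (hn : S.card = n) :
    ∃ s : End F (Fin n → F), IsO s ∧ (∀ x, s x = x → x = 0) ∧ ∀ m, s ^ m = 1 → ∀ z ∈ S, z ^ m = 1 := by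
  have hχ : Function.Injective fun z : AlgebraicClosure F => z ^ Fintype.card F := by simpa using inj_frob _ F
  obtain ⟨N, hN, h0⟩ := exists_exp_ev (AlgebraicClosure F) hf
  obtain ⟨s, h1, -, h2, h3⟩ := exists_isO_ev _ hN S.val hn (val_stab hχ fun z hz => (h4 _).2
      ⟨ev_frob (AlgebraicClosure F) f ▸ Multiset.mem_map_of_mem _ ((h4 _).1 hz).1, fun h => ((h4 _).1 hz).2 (hχ (by simpa using h))⟩)
    (val_stab inv_injective fun z hz => (h4 _).2 ⟨hI ▸ Multiset.mem_map_of_mem _ ((h4 _).1 hz).1, by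
      rw [inv_inv]; exact ((h4 _).1 hz).2.symm⟩) (fun z hz => h0 z ((h4 _).1 hz).1) fun z hz => ((h4 _).1 hz).2
  exact ⟨s, h1, h3, fun m hm z hz => pow_eq_one_of_mem_ev _ hm (h2 ▸ hz)⟩

omit [Fintype F] [CharP F 2] in
theorem coprime_sub_add {x : ℕ} (h0 : 0 < x) (h : 2 ∣ x) : (x - 1).Coprime (x + 1) := by
  rw [show x + 1 = 2 + (x - 1) by omega, Nat.coprime_add_self_right, Nat.coprime_two_right, Nat.odd_iff]
  omega

theorem exists_list4 {T : ℕ} (hT : T = Fintype.card F ^ 4 + 1 ∨ T = (Fintype.card F ^ 2 - 1) * (Fintype.card F ^ 2 + 1) ∨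
    T = (Fintype.card F ^ 3 - 1) * (Fintype.card F + 1) ∨ T = (Fintype.card F - 1) * (Fintype.card F ^ 3 + 1)) :
    ∃ f : End F (Fin 8 → F), IsOT False f ∧ Odd T ∧ ∀ m, f ^ m = 1 ↔ T ∣ m := by
  have h2 : 2 ∣ Fintype.card F := ((gcd_two_cases (F := F)).resolve_right fun h => h.1 two_eq_zero_of_charP).2.2
  have h0 : 0 < Fintype.card F := Fintype.card_pos
  have o1 : ∀ d, 0 < d → Odd (Fintype.card F ^ d + 1) ∧ Odd (Fintype.card F ^ d - 1) := fun d hd => by
    have := h2.trans (dvd_pow_self _ hd.ne')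
    have := pow_pos h0 d
    simp only [Nat.odd_iff]; omega
  have key : ∀ a b, 0 < a → 0 < b → a + b = 4 → (Fintype.card F ^ a - 1).Coprime (Fintype.card F ^ b + 1) →
      ∃ f : End F (Fin 8 → F), IsOT False f ∧ Odd ((Fintype.card F ^ a - 1) * (Fintype.card F ^ b + 1)) ∧
        ∀ m, f ^ m = 1 ↔ (Fintype.card F ^ a - 1) * (Fintype.card F ^ b + 1) ∣ m := fun a b ha hb hab hc => by
    obtain ⟨s, s1, -, s2⟩ := exists_plus (F := F) ha
    obtain ⟨t, t1, t2, -⟩ := exists_minus (F := F) hb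
    obtain ⟨g, hg⟩ := exists_fin (s.prodMap t) (n := 8) (by simp; omega)
    exact ⟨g, ((s1.prodMap t1 (by simp) (by simp)).congr (by simp)).sim hg, (o1 a ha).2.mul (o1 b hb).1,
      fun m => (hg.pow m).one_iff.symm.trans (prodMap_iff s2 t2 hc m)⟩
  have c3 := coprime_sub_add (pow_pos h0 3) (h2.trans (dvd_pow_self _ three_ne_zero))
  rcases hT with rfl | rfl | rfl | rfl
  · obtain ⟨t, t1, t2, -⟩ := exists_minus (F := F) four_pos
    exact ⟨t, t1, (o1 4 four_pos).1, t2⟩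
  · exact key 2 2 two_pos two_pos rfl (coprime_sub_add (pow_pos h0 2) (h2.trans (dvd_pow_self _ two_ne_zero)))
  · simpa using key 3 1 three_pos one_pos rfl (c3.coprime_dvd_right (by
      simpa using (show Odd 3 by decide).nat_add_dvd_pow_add_pow (Fintype.card F) 1))
  · simpa using key 1 3 one_pos three_pos rfl (c3.coprime_dvd_left (Nat.pow_sub_one_dvd_pow_sub_one _ (one_dvd 3)))

theorem sp8_cases {f : End F V} (hf : IsSp f) (hd : finrank F V = 8) :
    (∃ g : End F (Fin 8 → F), IsOT False g ∧ (∃ T, Odd T ∧ g ^ T = 1) ∧ ∀ m, g ^ m = 1 → f ^ m = 1) ∨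
    ∃ s ≤ 3, ∃ g : End F (Fin (2 * s) → F), IsO g ∧
      ∀ m, g ^ m = 1 → 2 ^ Nat.clog 2 (8 - 2 * s) ∣ m → f ^ m = 1 := by
  let L := AlgebraicClosure F
  have hI := hf.ev_inv L
  obtain ⟨S, D, E, h1, h2, h3, h4, h5⟩ := exists_orbits_inv hf.isUnit hI
  have hcard : (ev L f).card = 8 := by rw [card_ev, hd]
  have hle := mul_card_le (M := ev L f) (S := S) (c := 1) fun z hz =>
    Multiset.one_le_count_iff_mem.2 ((h4 z).1 hz).1
  have hc := count_le_pow hI h4
  have hone : ∀ z ∈ ev L f, z ∉ S → z = 1 := fun z hz h => eq_one_of_sq (F := F) two_eq_zero_of_charP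
    (sq_of_inv_eq (ne_zero_of_mem_ev L hf.isUnit hz) (by by_contra h'; exact h ((h4 z).2 ⟨hz, h'⟩)))
  have key : ∀ m j, 2 ^ j ∣ m → (∀ z, (ev L f).count z ≤ 2 ^ j) → (∀ z ∈ S, z ^ m = 1) → f ^ m = 1 :=
    fun m j hj hk h => by
    rcases eq_or_ne m 0 with rfl | hm
    · exact pow_zero _
    simpa using pow_eq_of_ev' L 2 f (c := 1) (fun z hz => by
      by_cases hzS : z ∈ S
      · rw [h z hzS, map_one]
      · rw [hone z hz hzS, one_pow, map_one]) hj hk hm
  by_cases hs : D.sum + E.sum = 4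
  · have fin : ∀ T, (T = Fintype.card F ^ 4 + 1 ∨ T = (Fintype.card F ^ 2 - 1) * (Fintype.card F ^ 2 + 1) ∨
        T = (Fintype.card F ^ 3 - 1) * (Fintype.card F + 1) ∨ T = (Fintype.card F - 1) * (Fintype.card F ^ 3 + 1)) →
        (∀ z ∈ S, z ^ T = 1) → ∃ g : End F (Fin 8 → F), IsOT False g ∧ (∃ T, Odd T ∧ g ^ T = 1) ∧
          ∀ m, g ^ m = 1 → f ^ m = 1 := fun T hT h => by
      obtain ⟨g, g1, g2, g3⟩ := exists_list4 hT
      exact ⟨g, g1, ⟨T, g2, (g3 T).2 dvd_rfl⟩, fun m hm => key m 0 (by simp) (fun z => by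
        rcases hc z with h | h <;> omega) fun z hz => pow_eq_one_of_dvd (h z hz) ((g3 m).1 hm)⟩
    left
    rcases eight_cases hs h2 h3 h5 with h | ⟨-, h⟩ | h | h | h
    · exact fin _ (Or.inl rfl) h
    · refine fin _ (Or.inr (Or.inl rfl)) fun z hz => ?_
      rw [← sq_sub_one', ← pow_mul]; exact h z hz
    · exact fin _ (Or.inr (Or.inr (Or.inl rfl))) fun z hz => (h z hz).elim
        (fun h => pow_eq_one_of_dvd h (dvd_mul_right _ _)) fun h => pow_eq_one_of_dvd h (dvd_mul_left _ _)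
    · exact fin _ (Or.inr (Or.inr (Or.inr rfl))) fun z hz => (h z hz).elim
        (fun h => pow_eq_one_of_dvd h (dvd_mul_left _ _)) fun h => pow_eq_one_of_dvd h (dvd_mul_right _ _)
    · exact fin _ (Or.inr (Or.inl rfl)) fun z hz => (h z hz).elim
        (fun h => pow_eq_one_of_dvd h (dvd_mul_right _ _)) fun h => pow_eq_one_of_dvd h (dvd_mul_left _ _)
  · obtain ⟨g, g1, -, g2⟩ := exists_isO_S hf.isUnit hI h4 h1.symm
    refine Or.inr ⟨_, by omega, g, g1, fun m hm hj => key m _ hj (fun z => le_trans ?_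
      (Nat.le_pow_clog one_lt_two _)) (g2 m hm)⟩
    rcases hc z with h | h <;> omega

theorem spec_og_le {Q : QuadraticForm F V} (hQ : ND Q) {n : ℕ} (hn : finrank F V = 2 * n) :
    spec (OG Q) ⊆ spec (Cfsg.PSp n F) := by
  rintro _ ⟨g, rfl⟩
  exact (spec_psp_iff' 2 (Or.inr rfl)).2 (((isO_og hQ g).isSp two_eq_zero_of_charP).mem_spec_sp hn fun m hm =>
    orderOf_dvd_of_pow_eq_one (subRep_injective _ (by rw [map_pow, hm, map_one])))

theorem spec_sp8_le {Q : QuadraticForm F V} (hQ : ND Q) (hp : ¬ IsPlus Q) (hn : finrank F V = 8) :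
    spec (Cfsg.PSp 4 F) ⊆ spec (OG Q) := by
  haveI : Finite V := Module.finite_of_finite F
  intro N hN
  obtain ⟨f, hf, h⟩ := sp_lift ((spec_psp_iff' 2 (Or.inr rfl)).1 hN)
  have key : ∀ {W : Type _} [AddCommGroup W] [Module F W] [FiniteDimensional F W] {g : End F W}, IsOT False g →
      finrank F W = 8 → (∀ m, g ^ m = 1 → f ^ m = 1) → N ∈ spec (OG Q) := fun h1 h2 h3 => by
    obtain ⟨x, hx⟩ := (h1.congr (iff_false_intro hp).symm).exists_og hQ (by omega) (by rw [hn]; decide)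
    exact mem_of_dvd ⟨x, rfl⟩ ((h _).1 (h3 _ ((hx.pow _).one_iff.2 (by
      rw [← map_pow, pow_orderOf_eq_one, map_one]))))
  rcases sp8_cases hf (finrank_sum 4) with ⟨g, g1, -, g2⟩ | ⟨s, hs, g, g1, g2⟩
  · exact key g1 (by simp) g2
  · obtain ⟨a, ha⟩ := g1.isOT
    obtain ⟨x, x1, x2⟩ := exists_x (F := F) hs (¬ a)
    exact key ((ha.prodMap x1 (by simp) (by simp; exact ⟨4 - s, by omega⟩)).congr (by simp)) (by simp; omega)
      fun m hm => g2 m (prodMap_pow_eq_one.1 hm).1 (x2 m (prodMap_pow_eq_one.1 hm).2)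

theorem unb_sp8 : Unb (spec (Cfsg.PSp 4 F)) := by
  obtain ⟨b, hb⟩ := exists_aniso (F := F)
  have hQ := nd_minusQ 3 (aniso_disc_ne_zero hb)
  have hp := not_isPlus_minusQ 3 hb
  have hd : finrank F ((Fin 3 ⊕ Fin 3) ⊕ Fin 2 → F) = 8 := by simp
  have hg := good_of_five_le (F := F) (V := (Fin 3 ⊕ Fin 3) ⊕ Fin 2 → F) (by omega)
  have h0 : (2 : F) = 0 := two_eq_zero_of_charP
  refine unb_of_rep ((subRep _).comp (hQ.dick hg).ker.subtype) (fun g v => ?_) fun N hN => ?_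
  · obtain ⟨U, hU, a, c, h1, h2, h3⟩ := exists_split_one 2 hQ g.1
    have hU' := (nd_restrict_iff U).2 hU
    have hU'' := hQ.nd_perp hU
    have h4 := hQ.finrank_perp_add U
    have h5 := (hQ.dick_eq_one_iff hg g.1).1 g.2
    obtain ⟨e, he⟩ := hU''.even_finrank_of_char_two h0
    rw [← h1, rk_sumHom, rk_eq a, rank_of_fpf (f := subRep _ a) h2] at h5
    have key : ∀ m, subRep _ a ^ m = 1 → (∀ w, AP (subRep _ c) w m) →
        AP (((subRep _).comp (hQ.dick hg).ker.subtype) g) v m := fun m k1 k2 => by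
      change AP (subRep _ g.1) v m
      rw [← h1]
      exact (sim_sumHom _ a c).ap (fun w => ap_prodMap.2 ⟨ap_fpf h2 k1 _, k2 _⟩) v
    have hsp := (isO_og hU' a).isSp h0
    rcases e.eq_zero_or_pos with rfl | he0
    · haveI : Subsingleton (perp (minusQ 3 F 1 b) U) := finrank_zero_iff.1 he
      exact ⟨orderOf a, key _ (by rw [← map_pow, pow_orderOf_eq_one, map_one]) fun w =>
        ⟨Subsingleton.elim _ _, Subsingleton.elim _ _⟩, fun m hm => mem_of_dvd (spec_og_le hU' (by omega) ⟨a, rfl⟩) hm⟩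
    · obtain ⟨u, u1, u2, u3⟩ := exists_isSp_unip F he0
      haveI : Nontrivial (perp (minusQ 3 F 1 b) U) := (finrank_pos_iff (R := F)).1 (by omega)
      have h6 := nil_pow_of_parity h3 (iff_of_true (by
        rw [Nat.even_add, iff_true_intro hsp.even, true_iff] at h5; exact h5) ⟨e, he⟩)
      obtain ⟨x, hx⟩ := (hsp.prodMap u1).exists_mat (n := 4) (by simp; omega)
      have h7 : ((subRep _ a).prodMap u : End F _) ^ orderOf x = 1 := (hx.pow _).one_iff.2 (by
        rw [← toLin'_pow', ← SubmonoidClass.coe_pow, pow_orderOf_eq_one]; exact toLin'_one)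
      exact ⟨orderOf x, key _ (prodMap_pow_eq_one.1 h7).1 fun w => (ap_unip 2 h6 (le_trans (by omega)
        (Nat.le_pow_clog one_lt_two (2 * e))) w).of_dvd ((unip_pow_iff 2 u2 u3 _).1 (prodMap_pow_eq_one.1 h7).2),
        fun m hm => mem_of_dvd ((spec_psp_iff' 2 (Or.inr rfl)).2 ⟨x, rfl⟩) hm⟩
  obtain ⟨f, hf, h⟩ := sp_lift ((spec_psp_iff' 2 (Or.inr rfl)).1 hN)
  have key : ∀ {W : Type _} [AddCommGroup W] [Module F W] [FiniteDimensional F W] {g : End F W}, IsOT False g →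
      finrank F W = 8 → AO g N → (Even (finrank F (LinearMap.range (g - 1))) ∨ ∃ T, Odd T ∧ g ^ T = 1) →
      ∃ g, AO (((subRep _).comp (hQ.dick hg).ker.subtype) g) N := fun h1 h2 h3 h4 => by
    obtain ⟨x, hx⟩ := (h1.congr (iff_false_intro hp).symm).exists_og hQ (by omega) (by rw [hd]; decide)
    refine ⟨⟨x, ?_⟩, hx.ao h3⟩
    rcases h4 with h4 | ⟨T, hT, h4⟩
    · exact (hQ.dick_eq_one_iff hg x).2 (by rw [rk_eq, ← hx.sub_one.finrank_range]; exact h4)
    · have h5 : x ^ T = 1 := subRep_injective _ (by rw [map_pow, map_one]; exact (hx.pow T).one_iff.1 h4)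
      have h6 := congrArg (hQ.dick hg) h5
      rw [map_pow, map_one] at h6
      rcases Int.units_eq_one_or (hQ.dick hg x) with h7 | h7
      · exact h7
      · rw [h7, hT.neg_one_pow] at h6; exact absurd h6 (by decide)
  rcases sp8_cases hf (finrank_sum 4) with ⟨g, g1, g3, g2⟩ | ⟨s, hs, g, g1, g2⟩
  · exact key g1 (by simp) (ao_of_pow fun m hm => (h m).1 (g2 m hm)) (Or.inr g3)
  · obtain ⟨a, ha⟩ := g1.isOT
    have hgo : ∀ m, orderOf g ∣ m → g ^ m = 1 := fun m => orderOf_dvd_iff_pow_eq_one.1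
    have hga : AO g (orderOf g) := ao_of_pow fun m => orderOf_dvd_of_pow_eq_one
    rcases hs.eq_or_lt with rfl | hs
    · obtain ⟨t, t1, t2, t3⟩ := pad_even ha (by simp; decide)
      exact key t1 (by simp) (hga.prodMap t2 fun m k1 k2 => (h m).1 (g2 m (hgo m k1) k2)) (Or.inl t3)
    · obtain ⟨u, u1, u2⟩ := exists_u (F := F) (s := s) (by omega) True
      obtain ⟨t, t1, t2, t3⟩ := pad_even (ha.prodMap u1 (by simp) (by simp; exact ⟨3 - s, by omega⟩))
        (by simp; exact ⟨3, by omega⟩)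
      exact key t1 (by simp; omega) ((hga.prodMap u2 fun m k1 k2 => (h m).1 (g2 m (hgo m k1) k2)).prodMap t2
        fun m k1 _ => k1) (Or.inl t3)

end two

end Cfsg.Agent.Spc
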