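import Mathlib
import Cfsg.Agent.Spc.SC2

/-!
The group `Sz(8):3` on 455 points.
-/

set_option autoImplicit false
set_option maxRecDepth 100000

namespace Cfsg.Agent.Spc.SC.Sz

/-- letters -/
def tb : List (Nat × Nat) :=
  [(nat_lit 0, nat_lit 0xb22c0b12ccaf2d4b41c8731d4701c4741d8fa3dcfb3d8f83d4f91886618c671a0641956157d605895e5916359d685a965599695ac9f270a026c9d2689e2d8ba2dcbb2f0b82e42e0c02a0b02f0b42b380e4384e5398e238dab6bdac6c1b16b5ae320ca310c6324c7314e839cea3b4eb3b0e903009034080280702db76d1b86cdb56c9b65d1735d9795dd785d410044130380f048145455054d5655155549324bd334b9304b531344d033cce334cc32c21078220741f070203d0f33c8f13c0ef3b85615c59150551605a1705b1786117c60175224812148d1f49524715c2719c170dc07115d5715b5695956157401023f0fe404ff3f5394d93a4d5374d1386118260d85605876185114c4d13c521404e68da2685a067d9e674d6360d2350d7354d32b0ae2a0aa2b4ab2a48d2308f248902448e529495314f5354e52d2949d284a9264b12b370da36cdd364df379a669da9691a56a1aa4310d43d0a42d0e441986659b659976699c00004004050180200d6d5b16f5c9705c56e5094650d47521445146d1bc691ac6e1b06a1f0791f4781e8771ec260902509c230a42830cc2304c02fcbe2f511455124591744d146398d6318b629896213b4fd3c501414f53e2649825c962549424c350dc310cc360d03205c18068150581906c8922c8521c8a220865f17d5fd7a5ed7e601b96f5ba6f9bf6edbc0ec390e83c0e03e0f59565193649916418f288a1290a7294a628c400fc42114431104121083208812007f1f9064110541d03425081184a11c4b130481251a46d1d461194711e),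
   (nat_lit 1, nat_lit 0x1354e53a4d9344e137350d6348d8354d335d0b43d104310a4390d3c0f23b8f43c4ef3cc5a1545715059158584911f48123485224948b218882148a21c89308bd2f8c12fcc030c2f0a82b0b82c0b43054d565515554550548370c8340c4360cc354711b469194791d4609e2749c26ca027c9a68d9e6819d6899f68592655936519063d91539495294d52d4c53d625856057d6458d5e19865190631a067188aa2b0a82b8ab2a4ad0240b01c0d028080314351d4851142519455d1785e5755cd775d85e1845f1805c16c5d4a52c4a92b49d264a0030180401401000020e83c0e03e0ec390f44c11c491184b1204a370df374de368d936d3b4f5404f93f5053c695a96a9a6691a869d7f5e97b5f97c5f5803e4f83dcf63ecfa3d50541d0342506411081b06f1b46e1a8691ac3f104441084311440619816098560d8461cfc3f9013fd00408fd2448c234902388f249b46d9b26e1b56cdb76b9b16bdb06b1ab6b44d13c521405114c4e2ccb22c4b02d4b42bdc1715c6709c0711c3068150581905c1806c741cc721c4761d47008c250a02609c29090c9310c5320c631cca250982649524c97259bf6e9bc6e5be6edbd284a3298a4294a728998669966719965d9b5a56859d665ad6a5955d5615a55d5c5655b4b52f4c9304c5334b8cd33ccb344ce330d02e8b92e0b72f0bb2d8e3398e4394e1380e20701e0841f080220751144d164511545d1220484208831fc7e201896358e629886318b0500f0440e04c10049725b56f5b1715b9703a0ec3b4e939ceb3a8791ec771f47a1e07c)]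

/-- certificate -/
def C : Cert where
  n := nat_lit 455
  t := tb.map Prod.snd
  p := [(nat_lit 0, nat_lit 0), (nat_lit 2, nat_lit 1), (nat_lit 2, nat_lit 3), (nat_lit 4, nat_lit 4), (nat_lit 4,
    nat_lit 3), (nat_lit 6, nat_lit 4), (nat_lit 6, nat_lit 4), (nat_lit 8, nat_lit 5), (nat_lit 8, nat_lit 5),
    (nat_lit 10, nat_lit 6), (nat_lit 10, nat_lit 6), (nat_lit 12, nat_lit 7), (nat_lit 12, nat_lit 7),
    (nat_lit 14, nat_lit 8), (nat_lit 14, nat_lit 8), (nat_lit 15, nat_lit 8), (nat_lit 17, nat_lit 9),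
    (nat_lit 17, nat_lit 9), (nat_lit 19, nat_lit 10), (nat_lit 19, nat_lit 10), (nat_lit 21, nat_lit 11),
    (nat_lit 21, nat_lit 11), (nat_lit 23, nat_lit 12), (nat_lit 23, nat_lit 12), (nat_lit 25, nat_lit 13),
    (nat_lit 25, nat_lit 13), (nat_lit 27, nat_lit 14), (nat_lit 27, nat_lit 14), (nat_lit 29, nat_lit 15),
    (nat_lit 29, nat_lit 15), (nat_lit 31, nat_lit 16), (nat_lit 31, nat_lit 16), (nat_lit 33, nat_lit 17),
    (nat_lit 33, nat_lit 17), (nat_lit 35, nat_lit 18), (nat_lit 35, nat_lit 18), (nat_lit 37, nat_lit 19),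
    (nat_lit 37, nat_lit 19), (nat_lit 39, nat_lit 20), (nat_lit 39, nat_lit 20), (nat_lit 41, nat_lit 21),
    (nat_lit 41, nat_lit 21), (nat_lit 43, nat_lit 22), (nat_lit 43, nat_lit 22), (nat_lit 45, nat_lit 23),
    (nat_lit 45, nat_lit 23), (nat_lit 47, nat_lit 24), (nat_lit 47, nat_lit 24), (nat_lit 49, nat_lit 25),
    (nat_lit 49, nat_lit 25), (nat_lit 51, nat_lit 26), (nat_lit 51, nat_lit 26), (nat_lit 53, nat_lit 27),
    (nat_lit 53, nat_lit 27), (nat_lit 55, nat_lit 28), (nat_lit 55, nat_lit 28), (nat_lit 57, nat_lit 29),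
    (nat_lit 57, nat_lit 29), (nat_lit 59, nat_lit 30), (nat_lit 59, nat_lit 30), (nat_lit 61, nat_lit 31),
    (nat_lit 61, nat_lit 31), (nat_lit 63, nat_lit 32), (nat_lit 63, nat_lit 32), (nat_lit 65, nat_lit 33),
    (nat_lit 65, nat_lit 33), (nat_lit 67, nat_lit 34), (nat_lit 67, nat_lit 34), (nat_lit 69, nat_lit 35),
    (nat_lit 69, nat_lit 35), (nat_lit 70, nat_lit 35), (nat_lit 72, nat_lit 36), (nat_lit 72, nat_lit 36),
    (nat_lit 73, nat_lit 36), (nat_lit 75, nat_lit 37), (nat_lit 75, nat_lit 37), (nat_lit 77, nat_lit 38),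
    (nat_lit 77, nat_lit 38), (nat_lit 79, nat_lit 39), (nat_lit 79, nat_lit 39), (nat_lit 80, nat_lit 39),
    (nat_lit 82, nat_lit 40), (nat_lit 82, nat_lit 40), (nat_lit 84, nat_lit 41), (nat_lit 84, nat_lit 40),
    (nat_lit 86, nat_lit 41), (nat_lit 87, nat_lit 41), (nat_lit 87, nat_lit 41), (nat_lit 89, nat_lit 41),
    (nat_lit 89, nat_lit 41), (nat_lit 91, nat_lit 42), (nat_lit 91, nat_lit 42), (nat_lit 93, nat_lit 43),
    (nat_lit 93, nat_lit 43), (nat_lit 95, nat_lit 44), (nat_lit 95, nat_lit 44), (nat_lit 97, nat_lit 45),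
    (nat_lit 97, nat_lit 45), (nat_lit 99, nat_lit 46), (nat_lit 99, nat_lit 46), (nat_lit 100, nat_lit 46),
    (nat_lit 102, nat_lit 47), (nat_lit 102, nat_lit 47), (nat_lit 104, nat_lit 48), (nat_lit 104, nat_lit 48),
    (nat_lit 105, nat_lit 48), (nat_lit 107, nat_lit 49), (nat_lit 107, nat_lit 49), (nat_lit 109, nat_lit 50),
    (nat_lit 109, nat_lit 50), (nat_lit 111, nat_lit 51), (nat_lit 111, nat_lit 51), (nat_lit 113, nat_lit 52),
    (nat_lit 113, nat_lit 52), (nat_lit 115, nat_lit 53), (nat_lit 115, nat_lit 53), (nat_lit 117, nat_lit 54),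
    (nat_lit 117, nat_lit 54), (nat_lit 119, nat_lit 55), (nat_lit 119, nat_lit 55), (nat_lit 121, nat_lit 56),
    (nat_lit 122, nat_lit 56), (nat_lit 122, nat_lit 56), (nat_lit 124, nat_lit 57), (nat_lit 124, nat_lit 57),
    (nat_lit 126, nat_lit 58), (nat_lit 126, nat_lit 58), (nat_lit 127, nat_lit 58), (nat_lit 129, nat_lit 59),
    (nat_lit 129, nat_lit 59), (nat_lit 131, nat_lit 60), (nat_lit 131, nat_lit 60), (nat_lit 133, nat_lit 61),
    (nat_lit 133, nat_lit 61), (nat_lit 135, nat_lit 62), (nat_lit 135, nat_lit 62), (nat_lit 136, nat_lit 62),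
    (nat_lit 138, nat_lit 63), (nat_lit 138, nat_lit 63), (nat_lit 140, nat_lit 64), (nat_lit 140, nat_lit 64),
    (nat_lit 141, nat_lit 64), (nat_lit 143, nat_lit 65), (nat_lit 143, nat_lit 64), (nat_lit 145, nat_lit 65),
    (nat_lit 145, nat_lit 65), (nat_lit 146, nat_lit 65), (nat_lit 148, nat_lit 66), (nat_lit 148, nat_lit 66),
    (nat_lit 150, nat_lit 67), (nat_lit 151, nat_lit 67), (nat_lit 151, nat_lit 66), (nat_lit 153, nat_lit 67),
    (nat_lit 153, nat_lit 67), (nat_lit 155, nat_lit 68), (nat_lit 155, nat_lit 68), (nat_lit 157, nat_lit 69),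
    (nat_lit 157, nat_lit 69), (nat_lit 158, nat_lit 69), (nat_lit 160, nat_lit 70), (nat_lit 160, nat_lit 70),
    (nat_lit 162, nat_lit 71), (nat_lit 163, nat_lit 71), (nat_lit 163, nat_lit 71), (nat_lit 165, nat_lit 72),
    (nat_lit 165, nat_lit 72), (nat_lit 167, nat_lit 73), (nat_lit 168, nat_lit 73), (nat_lit 169, nat_lit 73),
    (nat_lit 170, nat_lit 73), (nat_lit 170, nat_lit 73), (nat_lit 172, nat_lit 74), (nat_lit 172, nat_lit 74),
    (nat_lit 174, nat_lit 75), (nat_lit 175, nat_lit 75), (nat_lit 175, nat_lit 75), (nat_lit 177, nat_lit 76),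
    (nat_lit 178, nat_lit 76), (nat_lit 178, nat_lit 76), (nat_lit 179, nat_lit 76), (nat_lit 181, nat_lit 77),
    (nat_lit 182, nat_lit 77), (nat_lit 182, nat_lit 77), (nat_lit 184, nat_lit 78), (nat_lit 184, nat_lit 78),
    (nat_lit 186, nat_lit 79), (nat_lit 186, nat_lit 79), (nat_lit 188, nat_lit 80), (nat_lit 188, nat_lit 80),
    (nat_lit 190, nat_lit 81), (nat_lit 191, nat_lit 81), (nat_lit 192, nat_lit 81), (nat_lit 192, nat_lit 81),
    (nat_lit 193, nat_lit 81), (nat_lit 195, nat_lit 81), (nat_lit 195, nat_lit 81), (nat_lit 196, nat_lit 81),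
    (nat_lit 198, nat_lit 82), (nat_lit 198, nat_lit 82), (nat_lit 200, nat_lit 83), (nat_lit 200, nat_lit 83),
    (nat_lit 202, nat_lit 84), (nat_lit 202, nat_lit 83), (nat_lit 204, nat_lit 84), (nat_lit 204, nat_lit 84),
    (nat_lit 205, nat_lit 84), (nat_lit 206, nat_lit 84), (nat_lit 208, nat_lit 85), (nat_lit 209, nat_lit 85),
    (nat_lit 209, nat_lit 85), (nat_lit 211, nat_lit 86), (nat_lit 211, nat_lit 86), (nat_lit 213, nat_lit 87),
    (nat_lit 213, nat_lit 87), (nat_lit 215, nat_lit 88), (nat_lit 215, nat_lit 88), (nat_lit 217, nat_lit 89),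
    (nat_lit 218, nat_lit 89), (nat_lit 218, nat_lit 88), (nat_lit 220, nat_lit 89), (nat_lit 221, nat_lit 89),
    (nat_lit 221, nat_lit 89), (nat_lit 223, nat_lit 90), (nat_lit 223, nat_lit 90), (nat_lit 224, nat_lit 90),
    (nat_lit 225, nat_lit 90), (nat_lit 227, nat_lit 91), (nat_lit 228, nat_lit 90), (nat_lit 229, nat_lit 90),
    (nat_lit 229, nat_lit 89), (nat_lit 231, nat_lit 90), (nat_lit 231, nat_lit 90), (nat_lit 233, nat_lit 91),
    (nat_lit 234, nat_lit 91), (nat_lit 234, nat_lit 90), (nat_lit 236, nat_lit 91), (nat_lit 236, nat_lit 91),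
    (nat_lit 238, nat_lit 91), (nat_lit 238, nat_lit 91), (nat_lit 239, nat_lit 91), (nat_lit 240, nat_lit 91),
    (nat_lit 242, nat_lit 92), (nat_lit 242, nat_lit 92), (nat_lit 244, nat_lit 93), (nat_lit 244, nat_lit 93),
    (nat_lit 246, nat_lit 94), (nat_lit 246, nat_lit 94), (nat_lit 248, nat_lit 94), (nat_lit 248, nat_lit 94),
    (nat_lit 250, nat_lit 94), (nat_lit 250, nat_lit 94), (nat_lit 251, nat_lit 94), (nat_lit 253, nat_lit 95),
    (nat_lit 253, nat_lit 95), (nat_lit 255, nat_lit 96), (nat_lit 255, nat_lit 95), (nat_lit 257, nat_lit 96),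
    (nat_lit 257, nat_lit 96), (nat_lit 259, nat_lit 97), (nat_lit 259, nat_lit 97), (nat_lit 260, nat_lit 97),
    (nat_lit 261, nat_lit 96), (nat_lit 263, nat_lit 97), (nat_lit 263, nat_lit 95), (nat_lit 265, nat_lit 96),
    (nat_lit 266, nat_lit 95), (nat_lit 267, nat_lit 95), (nat_lit 267, nat_lit 95), (nat_lit 269, nat_lit 96),
    (nat_lit 269, nat_lit 96), (nat_lit 270, nat_lit 96), (nat_lit 272, nat_lit 97), (nat_lit 272, nat_lit 96),
    (nat_lit 274, nat_lit 97), (nat_lit 274, nat_lit 97), (nat_lit 275, nat_lit 97), (nat_lit 277, nat_lit 98),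
    (nat_lit 278, nat_lit 97), (nat_lit 279, nat_lit 97), (nat_lit 279, nat_lit 97), (nat_lit 281, nat_lit 98),
    (nat_lit 281, nat_lit 98), (nat_lit 282, nat_lit 98), (nat_lit 284, nat_lit 99), (nat_lit 284, nat_lit 99),
    (nat_lit 285, nat_lit 99), (nat_lit 287, nat_lit 100), (nat_lit 287, nat_lit 100), (nat_lit 289,
    nat_lit 101), (nat_lit 289, nat_lit 101), (nat_lit 291, nat_lit 102), (nat_lit 291, nat_lit 100),
    (nat_lit 293, nat_lit 101), (nat_lit 293, nat_lit 101), (nat_lit 294, nat_lit 101), (nat_lit 296,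
    nat_lit 102), (nat_lit 296, nat_lit 101), (nat_lit 298, nat_lit 102), (nat_lit 299, nat_lit 102),
    (nat_lit 300, nat_lit 102), (nat_lit 300, nat_lit 102), (nat_lit 301, nat_lit 102), (nat_lit 302,
    nat_lit 101), (nat_lit 304, nat_lit 100), (nat_lit 304, nat_lit 100), (nat_lit 306, nat_lit 101),
    (nat_lit 306, nat_lit 101), (nat_lit 307, nat_lit 101), (nat_lit 308, nat_lit 101), (nat_lit 310,
    nat_lit 102), (nat_lit 310, nat_lit 102), (nat_lit 311, nat_lit 102), (nat_lit 313, nat_lit 103),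
    (nat_lit 314, nat_lit 103), (nat_lit 315, nat_lit 103), (nat_lit 316, nat_lit 103), (nat_lit 316,
    nat_lit 103), (nat_lit 318, nat_lit 104), (nat_lit 318, nat_lit 104), (nat_lit 319, nat_lit 104),
    (nat_lit 321, nat_lit 105), (nat_lit 321, nat_lit 105), (nat_lit 322, nat_lit 105), (nat_lit 324,
    nat_lit 106), (nat_lit 324, nat_lit 106), (nat_lit 325, nat_lit 106), (nat_lit 327, nat_lit 107),
    (nat_lit 327, nat_lit 107), (nat_lit 329, nat_lit 107), (nat_lit 329, nat_lit 107), (nat_lit 331,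
    nat_lit 108), (nat_lit 331, nat_lit 108), (nat_lit 332, nat_lit 107), (nat_lit 334, nat_lit 108),
    (nat_lit 334, nat_lit 108), (nat_lit 335, nat_lit 107), (nat_lit 337, nat_lit 107), (nat_lit 338,
    nat_lit 107), (nat_lit 338, nat_lit 107), (nat_lit 340, nat_lit 107), (nat_lit 340, nat_lit 106),
    (nat_lit 342, nat_lit 107), (nat_lit 343, nat_lit 106), (nat_lit 344, nat_lit 106), (nat_lit 344,
    nat_lit 106), (nat_lit 346, nat_lit 107), (nat_lit 346, nat_lit 107), (nat_lit 348, nat_lit 106),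
    (nat_lit 349, nat_lit 106), (nat_lit 350, nat_lit 106), (nat_lit 351, nat_lit 106), (nat_lit 351,
    nat_lit 106), (nat_lit 353, nat_lit 107), (nat_lit 353, nat_lit 107), (nat_lit 354, nat_lit 107),
    (nat_lit 356, nat_lit 108), (nat_lit 357, nat_lit 108), (nat_lit 358, nat_lit 108), (nat_lit 359,
    nat_lit 108), (nat_lit 360, nat_lit 108), (nat_lit 361, nat_lit 108), (nat_lit 361, nat_lit 108),
    (nat_lit 363, nat_lit 109), (nat_lit 363, nat_lit 109), (nat_lit 365, nat_lit 110), (nat_lit 365,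
    nat_lit 110), (nat_lit 367, nat_lit 109), (nat_lit 367, nat_lit 109), (nat_lit 369, nat_lit 110),
    (nat_lit 369, nat_lit 110), (nat_lit 371, nat_lit 107), (nat_lit 371, nat_lit 107), (nat_lit 373,
    nat_lit 107), (nat_lit 373, nat_lit 107), (nat_lit 374, nat_lit 107), (nat_lit 376, nat_lit 108),
    (nat_lit 376, nat_lit 108), (nat_lit 378, nat_lit 109), (nat_lit 378, nat_lit 109), (nat_lit 380,
    nat_lit 109), (nat_lit 380, nat_lit 109), (nat_lit 382, nat_lit 110), (nat_lit 382, nat_lit 109),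
    (nat_lit 383, nat_lit 107), (nat_lit 385, nat_lit 108), (nat_lit 385, nat_lit 108), (nat_lit 386,
    nat_lit 108), (nat_lit 388, nat_lit 109), (nat_lit 389, nat_lit 109), (nat_lit 389, nat_lit 109),
    (nat_lit 391, nat_lit 110), (nat_lit 391, nat_lit 110), (nat_lit 393, nat_lit 110), (nat_lit 394,
    nat_lit 108), (nat_lit 394, nat_lit 107), (nat_lit 396, nat_lit 107), (nat_lit 396, nat_lit 106),
    (nat_lit 397, nat_lit 106), (nat_lit 399, nat_lit 107), (nat_lit 399, nat_lit 103), (nat_lit 400,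
    nat_lit 102), (nat_lit 402, nat_lit 101), (nat_lit 402, nat_lit 101), (nat_lit 404, nat_lit 101),
    (nat_lit 405, nat_lit 101), (nat_lit 406, nat_lit 101), (nat_lit 406, nat_lit 101), (nat_lit 407,
    nat_lit 100), (nat_lit 408, nat_lit 99), (nat_lit 410, nat_lit 99), (nat_lit 411, nat_lit 96),
    (nat_lit 411, nat_lit 94), (nat_lit 413, nat_lit 93), (nat_lit 413, nat_lit 93), (nat_lit 414, nat_lit 92),
    (nat_lit 415, nat_lit 92), (nat_lit 416, nat_lit 92), (nat_lit 417, nat_lit 92), (nat_lit 419, nat_lit 92),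
    (nat_lit 420, nat_lit 91), (nat_lit 420, nat_lit 90), (nat_lit 422, nat_lit 91), (nat_lit 423, nat_lit 85),
    (nat_lit 424, nat_lit 84), (nat_lit 424, nat_lit 83), (nat_lit 425, nat_lit 80), (nat_lit 426, nat_lit 78),
    (nat_lit 428, nat_lit 79), (nat_lit 428, nat_lit 79), (nat_lit 429, nat_lit 79), (nat_lit 431, nat_lit 78),
    (nat_lit 431, nat_lit 71), (nat_lit 432, nat_lit 68), (nat_lit 434, nat_lit 65), (nat_lit 435, nat_lit 64),
    (nat_lit 436, nat_lit 63), (nat_lit 437, nat_lit 62), (nat_lit 438, nat_lit 61), (nat_lit 438, nat_lit 56),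
    (nat_lit 439, nat_lit 51), (nat_lit 440, nat_lit 49), (nat_lit 442, nat_lit 48), (nat_lit 442, nat_lit 46),
    (nat_lit 444, nat_lit 44), (nat_lit 445, nat_lit 38), (nat_lit 445, nat_lit 35), (nat_lit 446, nat_lit 35),
    (nat_lit 448, nat_lit 34), (nat_lit 448, nat_lit 32), (nat_lit 450, nat_lit 25), (nat_lit 451, nat_lit 25),
    (nat_lit 451, nat_lit 17), (nat_lit 154, nat_lit 154), (nat_lit 0, nat_lit 155), (nat_lit 0, nat_lit 0),
    (nat_lit 0, nat_lit 157), (nat_lit 0, nat_lit 0), (nat_lit 457, nat_lit 31), (nat_lit 1, nat_lit 0),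
    (nat_lit 37, nat_lit 37), (nat_lit 0, nat_lit 38), (nat_lit 0, nat_lit 0), (nat_lit 0, nat_lit 0),
    (nat_lit 463, nat_lit 106), (nat_lit 1, nat_lit 0), (nat_lit 465, nat_lit 71), (nat_lit 187, nat_lit 0),
    (nat_lit 8, nat_lit 8), (nat_lit 3, nat_lit 9), (nat_lit 2, nat_lit 10), (nat_lit 11, nat_lit 5),
    (nat_lit 6, nat_lit 6), (nat_lit 5, nat_lit 7), (nat_lit 14, nat_lit 6), (nat_lit 9, nat_lit 7),
    (nat_lit 8, nat_lit 8), (nat_lit 17, nat_lit 8), (nat_lit 12, nat_lit 9), (nat_lit 11, nat_lit 10),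
    (nat_lit 20, nat_lit 10), (nat_lit 15, nat_lit 11), (nat_lit 14, nat_lit 12), (nat_lit 23, nat_lit 12),
    (nat_lit 18, nat_lit 13), (nat_lit 17, nat_lit 14), (nat_lit 20, nat_lit 14), (nat_lit 19, nat_lit 15),
    (nat_lit 28, nat_lit 15), (nat_lit 21, nat_lit 16), (nat_lit 30, nat_lit 16), (nat_lit 25, nat_lit 17),
    (nat_lit 24, nat_lit 18), (nat_lit 27, nat_lit 18), (nat_lit 26, nat_lit 19), (nat_lit 35, nat_lit 19),
    (nat_lit 30, nat_lit 20), (nat_lit 29, nat_lit 21), (nat_lit 30, nat_lit 21), (nat_lit 33, nat_lit 21),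
    (nat_lit 32, nat_lit 22), (nat_lit 41, nat_lit 22), (nat_lit 36, nat_lit 23), (nat_lit 35, nat_lit 24),
    (nat_lit 44, nat_lit 24), (nat_lit 39, nat_lit 25), (nat_lit 38, nat_lit 26), (nat_lit 41, nat_lit 26),
    (nat_lit 40, nat_lit 27), (nat_lit 49, nat_lit 27), (nat_lit 42, nat_lit 28), (nat_lit 51, nat_lit 28),
    (nat_lit 46, nat_lit 29), (nat_lit 45, nat_lit 30), (nat_lit 48, nat_lit 30), (nat_lit 47, nat_lit 31),
    (nat_lit 56, nat_lit 31), (nat_lit 51, nat_lit 32), (nat_lit 50, nat_lit 33), (nat_lit 51, nat_lit 33),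
    (nat_lit 60, nat_lit 33), (nat_lit 55, nat_lit 34), (nat_lit 54, nat_lit 35), (nat_lit 63, nat_lit 35),
    (nat_lit 58, nat_lit 36), (nat_lit 57, nat_lit 37), (nat_lit 60, nat_lit 37), (nat_lit 59, nat_lit 38),
    (nat_lit 68, nat_lit 38), (nat_lit 63, nat_lit 39), (nat_lit 64, nat_lit 39), (nat_lit 65, nat_lit 39),
    (nat_lit 64, nat_lit 40), (nat_lit 73, nat_lit 39), (nat_lit 68, nat_lit 40), (nat_lit 67, nat_lit 41),
    (nat_lit 68, nat_lit 41), (nat_lit 71, nat_lit 41), (nat_lit 70, nat_lit 42), (nat_lit 79, nat_lit 42),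
    (nat_lit 72, nat_lit 43), (nat_lit 75, nat_lit 43), (nat_lit 82, nat_lit 42), (nat_lit 77, nat_lit 43),
    (nat_lit 76, nat_lit 44), (nat_lit 85, nat_lit 44), (nat_lit 80, nat_lit 45), (nat_lit 81, nat_lit 45),
    (nat_lit 80, nat_lit 46), (nat_lit 89, nat_lit 46), (nat_lit 82, nat_lit 47), (nat_lit 91, nat_lit 47),
    (nat_lit 86, nat_lit 48), (nat_lit 85, nat_lit 49), (nat_lit 88, nat_lit 49), (nat_lit 95, nat_lit 49),
    (nat_lit 90, nat_lit 50), (nat_lit 89, nat_lit 51), (nat_lit 90, nat_lit 51), (nat_lit 99, nat_lit 51),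
    (nat_lit 92, nat_lit 52), (nat_lit 101, nat_lit 52), (nat_lit 96, nat_lit 53), (nat_lit 95, nat_lit 54),
    (nat_lit 98, nat_lit 54), (nat_lit 97, nat_lit 55), (nat_lit 106, nat_lit 55), (nat_lit 101, nat_lit 56),
    (nat_lit 102, nat_lit 55), (nat_lit 109, nat_lit 54), (nat_lit 104, nat_lit 55), (nat_lit 103, nat_lit 56),
    (nat_lit 104, nat_lit 56), (nat_lit 107, nat_lit 56), (nat_lit 106, nat_lit 57), (nat_lit 115, nat_lit 57),
    (nat_lit 108, nat_lit 58), (nat_lit 111, nat_lit 56), (nat_lit 110, nat_lit 56), (nat_lit 113, nat_lit 56),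
    (nat_lit 114, nat_lit 56), (nat_lit 115, nat_lit 56), (nat_lit 116, nat_lit 55), (nat_lit 115, nat_lit 56),
    (nat_lit 118, nat_lit 56), (nat_lit 119, nat_lit 56), (nat_lit 120, nat_lit 56), (nat_lit 119, nat_lit 57),
    (nat_lit 122, nat_lit 57), (nat_lit 129, nat_lit 57), (nat_lit 122, nat_lit 58), (nat_lit 123, nat_lit 57),
    (nat_lit 124, nat_lit 57), (nat_lit 125, nat_lit 56), (nat_lit 126, nat_lit 56), (nat_lit 127, nat_lit 55),
    (nat_lit 130, nat_lit 55), (nat_lit 131, nat_lit 55), (nat_lit 132, nat_lit 55), (nat_lit 131, nat_lit 56),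
    (nat_lit 140, nat_lit 56), (nat_lit 133, nat_lit 57), (nat_lit 142, nat_lit 57), (nat_lit 135, nat_lit 58),
    (nat_lit 138, nat_lit 58), (nat_lit 145, nat_lit 58), (nat_lit 140, nat_lit 59), (nat_lit 139, nat_lit 60),
    (nat_lit 148, nat_lit 60), (nat_lit 141, nat_lit 61), (nat_lit 150, nat_lit 61), (nat_lit 143, nat_lit 61),
    (nat_lit 152, nat_lit 61), (nat_lit 147, nat_lit 62), (nat_lit 148, nat_lit 61), (nat_lit 155, nat_lit 60),
    (nat_lit 150, nat_lit 61), (nat_lit 149, nat_lit 62), (nat_lit 152, nat_lit 62), (nat_lit 151, nat_lit 63),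
    (nat_lit 160, nat_lit 63), (nat_lit 153, nat_lit 64), (nat_lit 156, nat_lit 62), (nat_lit 157, nat_lit 62),
    (nat_lit 158, nat_lit 61), (nat_lit 159, nat_lit 60), (nat_lit 158, nat_lit 61), (nat_lit 161, nat_lit 60),
    (nat_lit 168, nat_lit 59), (nat_lit 161, nat_lit 60), (nat_lit 162, nat_lit 60), (nat_lit 163, nat_lit 57),
    (nat_lit 164, nat_lit 56), (nat_lit 167, nat_lit 56), (nat_lit 168, nat_lit 55), (nat_lit 167, nat_lit 53),
    (nat_lit 168, nat_lit 53), (nat_lit 171, nat_lit 51), (nat_lit 170, nat_lit 49), (nat_lit 171, nat_lit 49),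
    (nat_lit 174, nat_lit 47), (nat_lit 175, nat_lit 46), (nat_lit 176, nat_lit 46), (nat_lit 175, nat_lit 46),
    (nat_lit 176, nat_lit 46), (nat_lit 185, nat_lit 46), (nat_lit 178, nat_lit 47), (nat_lit 187, nat_lit 45),
    (nat_lit 182, nat_lit 43), (nat_lit 181, nat_lit 44), (nat_lit 184, nat_lit 44), (nat_lit 185, nat_lit 42),
    (nat_lit 184, nat_lit 36), (nat_lit 185, nat_lit 32), (nat_lit 186, nat_lit 29), (nat_lit 189,
    nat_lit 22)]
  b := nat_lit 0
  U := [nat_lit 657, nat_lit 277, nat_lit 638, nat_lit 653, nat_lit 362, nat_lit 308, nat_lit 483, nat_lit 429,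
    nat_lit 374, nat_lit 347, nat_lit 371, nat_lit 535, nat_lit 227, nat_lit 625, nat_lit 573, nat_lit 594,
    nat_lit 359, nat_lit 478, nat_lit 628, nat_lit 424, nat_lit 434, nat_lit 643, nat_lit 462, nat_lit 515,
    nat_lit 614, nat_lit 555, nat_lit 626, nat_lit 524, nat_lit 301, nat_lit 239, nat_lit 432, nat_lit 373,
    nat_lit 588, nat_lit 257, nat_lit 395, nat_lit 480, nat_lit 543, nat_lit 382, nat_lit 476, nat_lit 508,
    nat_lit 601, nat_lit 455, nat_lit 421, nat_lit 570, nat_lit 213, nat_lit 567, nat_lit 441, nat_lit 440,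
    nat_lit 569, nat_lit 240, nat_lit 486, nat_lit 623, nat_lit 309, nat_lit 339, nat_lit 523, nat_lit 346,
    nat_lit 589, nat_lit 433, nat_lit 407, nat_lit 246, nat_lit 419, nat_lit 405, nat_lit 564, nat_lit 342,
    nat_lit 488, nat_lit 341, nat_lit 530, nat_lit 323, nat_lit 206, nat_lit 284, nat_lit 593, nat_lit 450,
    nat_lit 263, nat_lit 320, nat_lit 224, nat_lit 286, nat_lit 270, nat_lit 466, nat_lit 602, nat_lit 544,
    nat_lit 612, nat_lit 561, nat_lit 293, nat_lit 283, nat_lit 475, nat_lit 349, nat_lit 584, nat_lit 640,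
    nat_lit 333, nat_lit 448, nat_lit 280, nat_lit 621, nat_lit 519, nat_lit 279, nat_lit 583, nat_lit 447,
    nat_lit 474, nat_lit 650, nat_lit 403, nat_lit 399, nat_lit 229, nat_lit 216, nat_lit 526, nat_lit 285,
    nat_lit 269, nat_lit 634, nat_lit 633, nat_lit 205, nat_lit 306, nat_lit 427, nat_lit 578, nat_lit 577,
    nat_lit 632, nat_lit 234, nat_lit 426, nat_lit 576, nat_lit 393, nat_lit 563, nat_lit 418, nat_lit 456,
    nat_lit 247, nat_lit 386, nat_lit 618, nat_lit 361, nat_lit 656, nat_lit 647, nat_lit 629, nat_lit 360,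
    nat_lit 425, nat_lit 574, nat_lit 479, nat_lit 595, nat_lit 553, nat_lit 463, nat_lit 539, nat_lit 422,
    nat_lit 348, nat_lit 571, nat_lit 235, nat_lit 556, nat_lit 645, nat_lit 343, nat_lit 489, nat_lit 207,
    nat_lit 517, nat_lit 616, nat_lit 251, nat_lit 585, nat_lit 636, nat_lit 580, nat_lit 521, nat_lit 344,
    nat_lit 651, nat_lit 642, nat_lit 423, nat_lit 548, nat_lit 411, nat_lit 366, nat_lit 572, nat_lit 557,
    nat_lit 457, nat_lit 554, nat_lit 610, nat_lit 512, nat_lit 416, nat_lit 272, nat_lit 461, nat_lit 608,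
    nat_lit 630, nat_lit 211, nat_lit 579, nat_lit 635, nat_lit 321, nat_lit 596, nat_lit 435, nat_lit 477,
    nat_lit 384, nat_lit 365, nat_lit 410, nat_lit 566, nat_lit 568, nat_lit 494, nat_lit 406, nat_lit 442,
    nat_lit 408, nat_lit 230, nat_lit 241, nat_lit 401, nat_lit 244, nat_lit 353, nat_lit 242, nat_lit 276,
    nat_lit 581, nat_lit 400, nat_lit 652, nat_lit 637, nat_lit 542, nat_lit 381, nat_lit 317, nat_lit 559,
    nat_lit 507, nat_lit 528, nat_lit 600, nat_lit 228, nat_lit 375, nat_lit 372, nat_lit 281, nat_lit 238,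
    nat_lit 538, nat_lit 254, nat_lit 562, nat_lit 392, nat_lit 394, nat_lit 233, nat_lit 232, nat_lit 445,
    nat_lit 446, nat_lit 231, nat_lit 646, nat_lit 289, nat_lit 617, nat_lit 518, nat_lit 340, nat_lit 413,
    nat_lit 324, nat_lit 298, nat_lit 531, nat_lit 492, nat_lit 312, nat_lit 214, nat_lit 296, nat_lit 367,
    nat_lit 592, nat_lit 385, nat_lit 412, nat_lit 458, nat_lit 252, nat_lit 549, nat_lit 398, nat_lit 329,
    nat_lit 402, nat_lit 509, nat_lit 547, nat_lit 391, nat_lit 605, nat_lit 259, nat_lit 305, nat_lit 355,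
    nat_lit 237, nat_lit 469, nat_lit 536, nat_lit 275, nat_lit 551, nat_lit 460, nat_lit 438, nat_lit 485,
    nat_lit 459, nat_lit 550, nat_lit 414, nat_lit 255, nat_lit 316, nat_lit 599, nat_lit 444, nat_lit 380,
    nat_lit 506, nat_lit 541, nat_lit 303, nat_lit 258, nat_lit 397, nat_lit 499, nat_lit 274, nat_lit 496,
    nat_lit 379, nat_lit 500, nat_lit 313, nat_lit 334, nat_lit 607, nat_lit 491, nat_lit 511, nat_lit 502,
    nat_lit 648, nat_lit 619, nat_lit 387, nat_lit 282, nat_lit 464, nat_lit 558, nat_lit 655, nat_lit 278,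
    nat_lit 484, nat_lit 363, nat_lit 654, nat_lit 590, nat_lit 639, nat_lit 582, nat_lit 388, nat_lit 439,
    nat_lit 415, nat_lit 552, nat_lit 533, nat_lit 649, nat_lit 620, nat_lit 219, nat_lit 436, nat_lit 322,
    nat_lit 575, nat_lit 597, nat_lit 487, nat_lit 631, nat_lit 358, nat_lit 409, nat_lit 472, nat_lit 332,
    nat_lit 493, nat_lit 383, nat_lit 364, nat_lit 307, nat_lit 473, nat_lit 471, nat_lit 389, nat_lit 331,
    nat_lit 356, nat_lit 357, nat_lit 627, nat_lit 256, nat_lit 615, nat_lit 525, nat_lit 644, nat_lit 430,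
    nat_lit 516, nat_lit 454, nat_lit 267, nat_lit 221, nat_lit 245, nat_lit 295, nat_lit 265, nat_lit 586,
    nat_lit 351, nat_lit 527, nat_lit 352, nat_lit 223, nat_lit 203, nat_lit 215, nat_lit 209, nat_lit 622,
    nat_lit 345, nat_lit 287, nat_lit 404, nat_lit 377, nat_lit 522, nat_lit 271, nat_lit 249, nat_lit 350,
    nat_lit 243, nat_lit 260, nat_lit 222, nat_lit 437, nat_lit 250, nat_lit 591, nat_lit 520, nat_lit 370,
    nat_lit 376, nat_lit 641, nat_lit 449, nat_lit 217, nat_lit 482, nat_lit 354, nat_lit 540, nat_lit 598,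
    nat_lit 505, nat_lit 468, nat_lit 326, nat_lit 431, nat_lit 604, nat_lit 587, nat_lit 268, nat_lit 328,
    nat_lit 390, nat_lit 546, nat_lit 443, nat_lit 465, nat_lit 292, nat_lit 236, nat_lit 417, nat_lit 560,
    nat_lit 288, nat_lit 453, nat_lit 452, nat_lit 369, nat_lit 264, nat_lit 218, nat_lit 212, nat_lit 225,
    nat_lit 611, nat_lit 609, nat_lit 262, nat_lit 226, nat_lit 319, nat_lit 513, nat_lit 529, nat_lit 314,
    nat_lit 503, nat_lit 210, nat_lit 497, nat_lit 336, nat_lit 335, nat_lit 501, nat_lit 613, nat_lit 514,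
    nat_lit 327, nat_lit 545, nat_lit 220, nat_lit 294, nat_lit 603, nat_lit 266, nat_lit 537, nat_lit 428,
    nat_lit 624, nat_lit 534, nat_lit 261, nat_lit 470, nat_lit 253, nat_lit 300, nat_lit 208, nat_lit 291,
    nat_lit 338, nat_lit 451, nat_lit 368, nat_lit 273, nat_lit 310, nat_lit 378, nat_lit 396, nat_lit 495,
    nat_lit 302, nat_lit 498, nat_lit 248, nat_lit 337, nat_lit 330, nat_lit 299, nat_lit 290, nat_lit 297,
    nat_lit 204, nat_lit 510, nat_lit 490, nat_lit 325, nat_lit 532, nat_lit 606, nat_lit 318, nat_lit 311,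
    nat_lit 304, nat_lit 565, nat_lit 420, nat_lit 315, nat_lit 467, nat_lit 481, nat_lit 504]
  lv := [(nat_lit 8, [nat_lit 657, nat_lit 196, nat_lit 190, nat_lit 188, nat_lit 187, nat_lit 186, nat_lit 185, nat_lit 184,
    nat_lit 183, nat_lit 182, nat_lit 181, nat_lit 180, nat_lit 179, nat_lit 178, nat_lit 177, nat_lit 176,
    nat_lit 175, nat_lit 174, nat_lit 173, nat_lit 172, nat_lit 171, nat_lit 170, nat_lit 169, nat_lit 168,
    nat_lit 167, nat_lit 166, nat_lit 165, nat_lit 164, nat_lit 163, nat_lit 162, nat_lit 161, nat_lit 160,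
    nat_lit 159, nat_lit 158, nat_lit 157, nat_lit 156, nat_lit 155, nat_lit 154, nat_lit 153, nat_lit 152,
    nat_lit 151, nat_lit 150, nat_lit 149, nat_lit 148, nat_lit 147, nat_lit 146, nat_lit 145, nat_lit 144,
    nat_lit 143, nat_lit 142, nat_lit 141, nat_lit 140, nat_lit 139, nat_lit 138, nat_lit 137, nat_lit 136,
    nat_lit 135, nat_lit 134, nat_lit 133, nat_lit 132, nat_lit 131, nat_lit 130, nat_lit 129, nat_lit 128,
    nat_lit 127, nat_lit 126, nat_lit 125, nat_lit 124, nat_lit 123, nat_lit 122, nat_lit 121, nat_lit 120,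
    nat_lit 119, nat_lit 118, nat_lit 117, nat_lit 116, nat_lit 115, nat_lit 114, nat_lit 113, nat_lit 112,
    nat_lit 111, nat_lit 110, nat_lit 109, nat_lit 108, nat_lit 107, nat_lit 106, nat_lit 105, nat_lit 104,
    nat_lit 103, nat_lit 102, nat_lit 101, nat_lit 100, nat_lit 99, nat_lit 98, nat_lit 97, nat_lit 96,
    nat_lit 95, nat_lit 94, nat_lit 93, nat_lit 92, nat_lit 91, nat_lit 90, nat_lit 89, nat_lit 88, nat_lit 87,
    nat_lit 86, nat_lit 85, nat_lit 84, nat_lit 83, nat_lit 82, nat_lit 81, nat_lit 80, nat_lit 79, nat_lit 78,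
    nat_lit 77, nat_lit 76, nat_lit 75, nat_lit 74, nat_lit 73, nat_lit 72, nat_lit 71, nat_lit 70, nat_lit 69,
    nat_lit 68, nat_lit 67, nat_lit 66, nat_lit 65, nat_lit 64, nat_lit 63, nat_lit 62, nat_lit 61, nat_lit 60,
    nat_lit 59, nat_lit 58, nat_lit 57, nat_lit 56, nat_lit 55, nat_lit 54, nat_lit 53, nat_lit 52, nat_lit 51,
    nat_lit 50, nat_lit 49, nat_lit 48, nat_lit 47, nat_lit 46, nat_lit 45, nat_lit 44, nat_lit 43, nat_lit 42,
    nat_lit 41, nat_lit 40, nat_lit 39, nat_lit 38, nat_lit 37, nat_lit 36, nat_lit 35, nat_lit 34, nat_lit 33,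
    nat_lit 32, nat_lit 31, nat_lit 30, nat_lit 29, nat_lit 28, nat_lit 27, nat_lit 26, nat_lit 25, nat_lit 24,
    nat_lit 23, nat_lit 22, nat_lit 21, nat_lit 20, nat_lit 19, nat_lit 18, nat_lit 17, nat_lit 16, nat_lit 15,
    nat_lit 14, nat_lit 13, nat_lit 12, nat_lit 11, nat_lit 10, nat_lit 9, nat_lit 8, nat_lit 7, nat_lit 6,
    nat_lit 5, nat_lit 4, nat_lit 3, nat_lit 2, nat_lit 1, nat_lit 0])]
  gs := [nat_lit 196, nat_lit 190, nat_lit 188]
  l := [(nat_lit 5, nat_lit 1), (nat_lit 3, nat_lit 1), (nat_lit 6, nat_lit 1), (nat_lit 4, nat_lit 1), (nat_lit 70,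
    nat_lit 0), (nat_lit 154, nat_lit 1), (nat_lit 371, nat_lit 2), (nat_lit 14, nat_lit 0), (nat_lit 189,
    nat_lit 1), (nat_lit 406, nat_lit 2), (nat_lit 217, nat_lit 0), (nat_lit 259, nat_lit 1), (nat_lit 245,
    nat_lit 2), (nat_lit 420, nat_lit 0), (nat_lit 357, nat_lit 1), (nat_lit 42, nat_lit 2), (nat_lit 63,
    nat_lit 0), (nat_lit 147, nat_lit 1), (nat_lit 378, nat_lit 2), (nat_lit 119, nat_lit 0), (nat_lit 336,
    nat_lit 1), (nat_lit 294, nat_lit 2), (nat_lit 392, nat_lit 0), (nat_lit 448, nat_lit 1), (nat_lit 91,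
    nat_lit 2), (nat_lit 322, nat_lit 1), (nat_lit 161, nat_lit 2), (nat_lit 35, nat_lit 1), (nat_lit 105,
    nat_lit 2), (nat_lit 434, nat_lit 0), (nat_lit 385, nat_lit 1), (nat_lit 28, nat_lit 2), (nat_lit 350,
    nat_lit 2), (nat_lit 196, nat_lit 1), (nat_lit 399, nat_lit 2), (nat_lit 224, nat_lit 0), (nat_lit 266,
    nat_lit 1), (nat_lit 252, nat_lit 2), (nat_lit 413, nat_lit 0), (nat_lit 364, nat_lit 1), (nat_lit 280,
    nat_lit 1), (nat_lit 182, nat_lit 2), (nat_lit 98, nat_lit 1), (nat_lit 49, nat_lit 2), (nat_lit 77,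
    nat_lit 2), (nat_lit 427, nat_lit 2), (nat_lit 238, nat_lit 0), (nat_lit 112, nat_lit 1), (nat_lit 210,
    nat_lit 0), (nat_lit 168, nat_lit 1), (nat_lit 343, nat_lit 2), (nat_lit 441, nat_lit 2), (nat_lit 56,
    nat_lit 2), (nat_lit 133, nat_lit 1), (nat_lit 126, nat_lit 0), (nat_lit 329, nat_lit 1), (nat_lit 287,
    nat_lit 2), (nat_lit 315, nat_lit 1), (nat_lit 21, nat_lit 2), (nat_lit 301, nat_lit 0), (nat_lit 140,
    nat_lit 0), (nat_lit 175, nat_lit 1), (nat_lit 203, nat_lit 0), (nat_lit 231, nat_lit 2), (nat_lit 84,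
    nat_lit 2), (nat_lit 273, nat_lit 1), (nat_lit 308, nat_lit 2), (nat_lit 71, nat_lit 0), (nat_lit 159,
    nat_lit 1), (nat_lit 372, nat_lit 2), (nat_lit 15, nat_lit 0), (nat_lit 194, nat_lit 1), (nat_lit 407,
    nat_lit 2), (nat_lit 222, nat_lit 0), (nat_lit 262, nat_lit 1), (nat_lit 250, nat_lit 2), (nat_lit 421,
    nat_lit 0), (nat_lit 362, nat_lit 1), (nat_lit 43, nat_lit 2), (nat_lit 64, nat_lit 0), (nat_lit 152,
    nat_lit 1), (nat_lit 379, nat_lit 2), (nat_lit 124, nat_lit 0), (nat_lit 339, nat_lit 1), (nat_lit 299,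
    nat_lit 2), (nat_lit 393, nat_lit 0), (nat_lit 453, nat_lit 1), (nat_lit 92, nat_lit 2), (nat_lit 325,
    nat_lit 1), (nat_lit 327, nat_lit 2), (nat_lit 297, nat_lit 0), (nat_lit 164, nat_lit 2), (nat_lit 341,
    nat_lit 0), (nat_lit 38, nat_lit 1), (nat_lit 411, nat_lit 1), (nat_lit 106, nat_lit 2), (nat_lit 439,
    nat_lit 0), (nat_lit 388, nat_lit 1), (nat_lit 33, nat_lit 2), (nat_lit 166, nat_lit 1), (nat_lit 351,
    nat_lit 2), (nat_lit 201, nat_lit 1), (nat_lit 400, nat_lit 2), (nat_lit 229, nat_lit 0), (nat_lit 269,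
    nat_lit 1), (nat_lit 257, nat_lit 2), (nat_lit 414, nat_lit 0), (nat_lit 369, nat_lit 1), (nat_lit 36,
    nat_lit 2), (nat_lit 283, nat_lit 1), (nat_lit 285, nat_lit 2), (nat_lit 255, nat_lit 0), (nat_lit 185,
    nat_lit 2), (nat_lit 271, nat_lit 0), (nat_lit 101, nat_lit 1), (nat_lit 383, nat_lit 1), (nat_lit 50,
    nat_lit 2), (nat_lit 355, nat_lit 0), (nat_lit 423, nat_lit 1), (nat_lit 82, nat_lit 2), (nat_lit 187,
    nat_lit 1), (nat_lit 428, nat_lit 2), (nat_lit 241, nat_lit 0), (nat_lit 113, nat_lit 1), (nat_lit 199,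
    nat_lit 2), (nat_lit 243, nat_lit 0), (nat_lit 115, nat_lit 1), (nat_lit 99, nat_lit 1), (nat_lit 227,
    nat_lit 2), (nat_lit 213, nat_lit 0), (nat_lit 253, nat_lit 1), (nat_lit 73, nat_lit 1), (nat_lit 169,
    nat_lit 1), (nat_lit 346, nat_lit 2), (nat_lit 397, nat_lit 0), (nat_lit 451, nat_lit 1), (nat_lit 96,
    nat_lit 2), (nat_lit 442, nat_lit 2), (nat_lit 437, nat_lit 1), (nat_lit 68, nat_lit 2), (nat_lit 409,
    nat_lit 0), (nat_lit 59, nat_lit 2), (nat_lit 136, nat_lit 1), (nat_lit 215, nat_lit 0), (nat_lit 131,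
    nat_lit 0), (nat_lit 332, nat_lit 1), (nat_lit 292, nat_lit 2), (nat_lit 386, nat_lit 0), (nat_lit 446,
    nat_lit 1), (nat_lit 318, nat_lit 1), (nat_lit 320, nat_lit 2), (nat_lit 290, nat_lit 0), (nat_lit 171,
    nat_lit 2), (nat_lit 334, nat_lit 0), (nat_lit 45, nat_lit 1), (nat_lit 404, nat_lit 1), (nat_lit 432,
    nat_lit 0), (nat_lit 395, nat_lit 1), (nat_lit 26, nat_lit 2), (nat_lit 173, nat_lit 1), (nat_lit 344,
    nat_lit 2), (nat_lit 304, nat_lit 0), (nat_lit 57, nat_lit 1), (nat_lit 157, nat_lit 2), (nat_lit 306,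
    nat_lit 0), (nat_lit 129, nat_lit 2), (nat_lit 143, nat_lit 0), (nat_lit 288, nat_lit 1), (nat_lit 17,
    nat_lit 1), (nat_lit 176, nat_lit 1), (nat_lit 418, nat_lit 0), (nat_lit 367, nat_lit 1), (nat_lit 40,
    nat_lit 2), (nat_lit 358, nat_lit 2), (nat_lit 353, nat_lit 1), (nat_lit 12, nat_lit 2), (nat_lit 381,
    nat_lit 0), (nat_lit 108, nat_lit 2), (nat_lit 145, nat_lit 0), (nat_lit 29, nat_lit 1), (nat_lit 449,
    nat_lit 2), (nat_lit 330, nat_lit 1), (nat_lit 31, nat_lit 1), (nat_lit 218, nat_lit 1), (nat_lit 180,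
    nat_lit 1), (nat_lit 435, nat_lit 2), (nat_lit 316, nat_lit 1), (nat_lit 302, nat_lit 1), (nat_lit 47,
    nat_lit 1), (nat_lit 127, nat_lit 2), (nat_lit 190, nat_lit 1), (nat_lit 204, nat_lit 0), (nat_lit 232,
    nat_lit 2), (nat_lit 54, nat_lit 2), (nat_lit 80, nat_lit 2), (nat_lit 85, nat_lit 2), (nat_lit 66,
    nat_lit 2), (nat_lit 94, nat_lit 2), (nat_lit 120, nat_lit 1), (nat_lit 239, nat_lit 1), (nat_lit 276,
    nat_lit 1), (nat_lit 278, nat_lit 2), (nat_lit 248, nat_lit 0), (nat_lit 178, nat_lit 2), (nat_lit 264,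
    nat_lit 0), (nat_lit 376, nat_lit 1), (nat_lit 348, nat_lit 0), (nat_lit 416, nat_lit 1), (nat_lit 89,
    nat_lit 2), (nat_lit 234, nat_lit 0), (nat_lit 192, nat_lit 2), (nat_lit 236, nat_lit 0), (nat_lit 220,
    nat_lit 2), (nat_lit 206, nat_lit 0), (nat_lit 246, nat_lit 1), (nat_lit 162, nat_lit 1), (nat_lit 390,
    nat_lit 0), (nat_lit 444, nat_lit 1), (nat_lit 103, nat_lit 2), (nat_lit 430, nat_lit 1), (nat_lit 75,
    nat_lit 2), (nat_lit 402, nat_lit 0), (nat_lit 52, nat_lit 2), (nat_lit 208, nat_lit 0), (nat_lit 78,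
    nat_lit 1), (nat_lit 365, nat_lit 2), (nat_lit 260, nat_lit 1), (nat_lit 274, nat_lit 1), (nat_lit 148,
    nat_lit 1), (nat_lit 134, nat_lit 0), (nat_lit 309, nat_lit 2), (nat_lit 117, nat_lit 2), (nat_lit 24,
    nat_lit 2), (nat_lit 10, nat_lit 2), (nat_lit 225, nat_lit 1), (nat_lit 138, nat_lit 1), (nat_lit 425,
    nat_lit 1), (nat_lit 323, nat_lit 2), (nat_lit 313, nat_lit 2), (nat_lit 110, nat_lit 1), (nat_lit 295,
    nat_lit 2), (nat_lit 337, nat_lit 2), (nat_lit 211, nat_lit 1), (nat_lit 197, nat_lit 1), (nat_lit 183,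
    nat_lit 1), (nat_lit 281, nat_lit 2), (nat_lit 141, nat_lit 2), (nat_lit 311, nat_lit 0), (nat_lit 150,
    nat_lit 2), (nat_lit 122, nat_lit 2), (nat_lit 360, nat_lit 1), (nat_lit 19, nat_lit 2), (nat_lit 374,
    nat_lit 0), (nat_lit 22, nat_lit 1), (nat_lit 61, nat_lit 2), (nat_lit 87, nat_lit 2), (nat_lit 267,
    nat_lit 2), (nat_lit 155, nat_lit 1), (nat_lit 72, nat_lit 0), (nat_lit 160, nat_lit 1), (nat_lit 373,
    nat_lit 2), (nat_lit 16, nat_lit 0), (nat_lit 195, nat_lit 1), (nat_lit 408, nat_lit 2), (nat_lit 223,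
    nat_lit 0), (nat_lit 263, nat_lit 1), (nat_lit 251, nat_lit 2), (nat_lit 422, nat_lit 0), (nat_lit 363,
    nat_lit 1), (nat_lit 44, nat_lit 2), (nat_lit 65, nat_lit 0), (nat_lit 153, nat_lit 1), (nat_lit 380,
    nat_lit 2), (nat_lit 125, nat_lit 0), (nat_lit 340, nat_lit 1), (nat_lit 300, nat_lit 2), (nat_lit 394,
    nat_lit 0), (nat_lit 454, nat_lit 1), (nat_lit 93, nat_lit 2), (nat_lit 326, nat_lit 1), (nat_lit 328,
    nat_lit 2), (nat_lit 298, nat_lit 0), (nat_lit 165, nat_lit 2), (nat_lit 342, nat_lit 0), (nat_lit 39,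
    nat_lit 1), (nat_lit 412, nat_lit 1), (nat_lit 107, nat_lit 2), (nat_lit 440, nat_lit 0), (nat_lit 389,
    nat_lit 1), (nat_lit 34, nat_lit 2), (nat_lit 167, nat_lit 1), (nat_lit 352, nat_lit 2), (nat_lit 202,
    nat_lit 1), (nat_lit 401, nat_lit 2), (nat_lit 230, nat_lit 0), (nat_lit 270, nat_lit 1), (nat_lit 258,
    nat_lit 2), (nat_lit 415, nat_lit 0), (nat_lit 370, nat_lit 1), (nat_lit 37, nat_lit 2), (nat_lit 284,
    nat_lit 1), (nat_lit 286, nat_lit 2), (nat_lit 256, nat_lit 0), (nat_lit 186, nat_lit 2), (nat_lit 272,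
    nat_lit 0), (nat_lit 102, nat_lit 1), (nat_lit 384, nat_lit 1), (nat_lit 51, nat_lit 2), (nat_lit 356,
    nat_lit 0), (nat_lit 424, nat_lit 1), (nat_lit 83, nat_lit 2), (nat_lit 188, nat_lit 1), (nat_lit 429,
    nat_lit 2), (nat_lit 242, nat_lit 0), (nat_lit 114, nat_lit 1), (nat_lit 200, nat_lit 2), (nat_lit 244,
    nat_lit 0), (nat_lit 116, nat_lit 1), (nat_lit 100, nat_lit 1), (nat_lit 228, nat_lit 2), (nat_lit 214,
    nat_lit 0), (nat_lit 254, nat_lit 1), (nat_lit 74, nat_lit 1), (nat_lit 170, nat_lit 1), (nat_lit 347,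
    nat_lit 2), (nat_lit 398, nat_lit 0), (nat_lit 452, nat_lit 1), (nat_lit 97, nat_lit 2), (nat_lit 443,
    nat_lit 2), (nat_lit 438, nat_lit 1), (nat_lit 69, nat_lit 2), (nat_lit 410, nat_lit 0), (nat_lit 60,
    nat_lit 2), (nat_lit 137, nat_lit 1), (nat_lit 216, nat_lit 0), (nat_lit 132, nat_lit 0), (nat_lit 333,
    nat_lit 1), (nat_lit 293, nat_lit 2), (nat_lit 387, nat_lit 0), (nat_lit 447, nat_lit 1), (nat_lit 319,
    nat_lit 1), (nat_lit 321, nat_lit 2), (nat_lit 291, nat_lit 0), (nat_lit 172, nat_lit 2), (nat_lit 335,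
    nat_lit 0), (nat_lit 46, nat_lit 1), (nat_lit 405, nat_lit 1), (nat_lit 433, nat_lit 0), (nat_lit 396,
    nat_lit 1), (nat_lit 27, nat_lit 2), (nat_lit 174, nat_lit 1), (nat_lit 345, nat_lit 2), (nat_lit 305,
    nat_lit 0), (nat_lit 58, nat_lit 1), (nat_lit 158, nat_lit 2), (nat_lit 307, nat_lit 0), (nat_lit 130,
    nat_lit 2), (nat_lit 144, nat_lit 0), (nat_lit 289, nat_lit 1), (nat_lit 18, nat_lit 1), (nat_lit 177,
    nat_lit 1), (nat_lit 419, nat_lit 0), (nat_lit 368, nat_lit 1), (nat_lit 41, nat_lit 2), (nat_lit 359,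
    nat_lit 2), (nat_lit 354, nat_lit 1), (nat_lit 13, nat_lit 2), (nat_lit 382, nat_lit 0), (nat_lit 109,
    nat_lit 2), (nat_lit 146, nat_lit 0), (nat_lit 30, nat_lit 1), (nat_lit 450, nat_lit 2), (nat_lit 331,
    nat_lit 1), (nat_lit 32, nat_lit 1), (nat_lit 219, nat_lit 1), (nat_lit 181, nat_lit 1), (nat_lit 436,
    nat_lit 2), (nat_lit 317, nat_lit 1), (nat_lit 303, nat_lit 1), (nat_lit 48, nat_lit 1), (nat_lit 128,
    nat_lit 2), (nat_lit 191, nat_lit 1), (nat_lit 205, nat_lit 0), (nat_lit 233, nat_lit 2), (nat_lit 55,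
    nat_lit 2), (nat_lit 81, nat_lit 2), (nat_lit 86, nat_lit 2), (nat_lit 67, nat_lit 2), (nat_lit 95,
    nat_lit 2), (nat_lit 121, nat_lit 1), (nat_lit 240, nat_lit 1), (nat_lit 277, nat_lit 1), (nat_lit 279,
    nat_lit 2), (nat_lit 249, nat_lit 0), (nat_lit 179, nat_lit 2), (nat_lit 265, nat_lit 0), (nat_lit 377,
    nat_lit 1), (nat_lit 349, nat_lit 0), (nat_lit 417, nat_lit 1), (nat_lit 90, nat_lit 2), (nat_lit 235,
    nat_lit 0), (nat_lit 193, nat_lit 2), (nat_lit 237, nat_lit 0), (nat_lit 221, nat_lit 2), (nat_lit 207,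
    nat_lit 0), (nat_lit 247, nat_lit 1), (nat_lit 163, nat_lit 1), (nat_lit 391, nat_lit 0), (nat_lit 445,
    nat_lit 1), (nat_lit 104, nat_lit 2), (nat_lit 431, nat_lit 1), (nat_lit 76, nat_lit 2), (nat_lit 403,
    nat_lit 0), (nat_lit 53, nat_lit 2), (nat_lit 209, nat_lit 0), (nat_lit 79, nat_lit 1), (nat_lit 366,
    nat_lit 2), (nat_lit 261, nat_lit 1), (nat_lit 275, nat_lit 1), (nat_lit 149, nat_lit 1), (nat_lit 135,
    nat_lit 0), (nat_lit 310, nat_lit 2), (nat_lit 118, nat_lit 2), (nat_lit 25, nat_lit 2), (nat_lit 11,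
    nat_lit 2), (nat_lit 226, nat_lit 1), (nat_lit 139, nat_lit 1), (nat_lit 426, nat_lit 1), (nat_lit 324,
    nat_lit 2), (nat_lit 314, nat_lit 2), (nat_lit 111, nat_lit 1), (nat_lit 296, nat_lit 2), (nat_lit 338,
    nat_lit 2), (nat_lit 212, nat_lit 1), (nat_lit 198, nat_lit 1), (nat_lit 184, nat_lit 1), (nat_lit 282,
    nat_lit 2), (nat_lit 142, nat_lit 2), (nat_lit 312, nat_lit 0), (nat_lit 151, nat_lit 2), (nat_lit 123,
    nat_lit 2), (nat_lit 361, nat_lit 1), (nat_lit 20, nat_lit 2), (nat_lit 375, nat_lit 0), (nat_lit 23,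
    nat_lit 1), (nat_lit 62, nat_lit 2), (nat_lit 88, nat_lit 2), (nat_lit 268, nat_lit 2), (nat_lit 156,
    nat_lit 1)]
  R := [nat_lit 657, nat_lit 277, nat_lit 638, nat_lit 429, nat_lit 374, nat_lit 347]
  L := [nat_lit 1, nat_lit 2, nat_lit 3, nat_lit 4, nat_lit 5, nat_lit 6, nat_lit 7, nat_lit 12, nat_lit 13, nat_lit 15]
  W := [(nat_lit 636, nat_lit 7), (nat_lit 626, nat_lit 12), (nat_lit 655, nat_lit 13), (nat_lit 656, nat_lit 15)]

/-- generators -/
def gs1 : List Nat :=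
  [nat_lit 0x2c0ac300bc2e0b42a094240a42809c2608c1003c1404c120440e024080340c02c0a01c1e074220842007c1c05c1606c1a064180543a0e43e0f43c0ec380cc320dc360d4340c44f13853148511404d1585516859160571506b1a86f1b86d1b0691c8711d8751d0731c05d170611805f1785b190631a067198651884110045110431083f120471304b12849119054110942107419034310b4410f4390d428e93a0ed3b0eb3a8e73c0ef3d0f33c8f13b8f73d8fb3e8f93e0f53f8fd40901400ff3f113449174591545111469194791d4711b461364d53a4e5384dd344bd2e4cd324c5304b552545565555454d5052d4a53d4e5354c5254450d4851d46515424f53c505404fd3e4ed2849d2c4ad2a4a526485204952448d2247d6057d6458d625855e565585755c56d5a55d7c5ed805fd7e5f57a5d5745e5785dd765cd8a6258e6358c62d8860d8261d86615846056e5b5725c5705bd6c59d665ad6a5a568595bb6e9bf6f9bd6f1b9709c1719c5711c37019f679a3689a16819d699a56a9a96a1a76919164195651936498f661976719b66999659ad6b1b16c1af6b9ab6d1b36e1b76d9b56c8791e07d1f07b1e8772007f21083208811f8952509926097258932709b2809f2789d268a3288a7298a5290a12a8a92b8ad2b0ab2a0872188b22889220852388d248912408f230e2384e6394e438ce036cda37cde374dc364c6314ca324c831cc42fcbe30cc2304c02f4b82dcbc2ecba2e4b62c4b02d4b42ccb22bcd434cd835cd6354d2334cc344d033cce32c02004060140400c00,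
   nat_lit 0xb12c0b52d0b32c8af2e0b72f0bb2e8b92d8cd330d1340cf338cb350d3360d7358d5348db368df378dd370d9388e1398e5390e3380bf2f8c3308c1300bd318c5328c9320c7310791e07d1f07b1e8772007f21083208811f8952509926097258932709b2809f2789d268a3288a7298a5290a12a8a92b8ad2b0ab2a0872188b22889220852388d248912408f2319164195651936498f661976719b66999659ad6b1b16c1af6b9ab6d1b36e1b76d9b56c9bb6e9bf6f9bd6f1b9709c1719c5711c37019f679a3689a16819d699a56a9a96a1a7691595615d5715b569575815f5916358961579755d1795e1775d9735f17b6017f5f97d5e983609876198561181629896398d6318b621675996b5a9695a1655b96d5c9715c16f5b12148125491234891f4a1274b12b4a9294993d4f1415013f4f93b5114352147519455094b5294f5394d531495495155955551535412f4b9334c9314c12d4d9354e9394e1374d0e93a0ed3b0eb3a8e73c0ef3d0f33c8f13b9054110942107419034310b4410f4390d42913449174591545111469194791d4711b460f73d8fb3e8f93e0f53f8fd40901400ff3f04110045110431083f120471304b128491185d170611805f1785b190631a067198651886b1a86f1b86d1b0691c8711d8751d0731c04f13853148511404d158551685916057150090200d0300b028070400f050130481103825090290a027098230b02b0c02f0b82d0a8330c8370d8350d0310e8390f83d0f03b0e0170581b06819060150781d088210801f07002004060140400c00]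

/-- level -/
def lev1 : Lev where
  n := nat_lit 455
  t := gs1
  p := [(nat_lit 0, nat_lit 0), (nat_lit 2, nat_lit 1), (nat_lit 2, nat_lit 3), (nat_lit 4, nat_lit 4), (nat_lit 4,
    nat_lit 3), (nat_lit 6, nat_lit 4), (nat_lit 6, nat_lit 4), (nat_lit 8, nat_lit 5), (nat_lit 8, nat_lit 5),
    (nat_lit 10, nat_lit 6), (nat_lit 10, nat_lit 6), (nat_lit 12, nat_lit 7), (nat_lit 12, nat_lit 7),
    (nat_lit 14, nat_lit 8), (nat_lit 14, nat_lit 8), (nat_lit 16, nat_lit 9), (nat_lit 16, nat_lit 9),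
    (nat_lit 18, nat_lit 10), (nat_lit 18, nat_lit 10), (nat_lit 20, nat_lit 11), (nat_lit 20, nat_lit 11),
    (nat_lit 22, nat_lit 12), (nat_lit 22, nat_lit 12), (nat_lit 24, nat_lit 13), (nat_lit 24, nat_lit 13),
    (nat_lit 26, nat_lit 14), (nat_lit 27, nat_lit 14), (nat_lit 27, nat_lit 14), (nat_lit 29, nat_lit 15),
    (nat_lit 29, nat_lit 15), (nat_lit 31, nat_lit 16), (nat_lit 31, nat_lit 16), (nat_lit 33, nat_lit 17),
    (nat_lit 33, nat_lit 17), (nat_lit 35, nat_lit 18), (nat_lit 35, nat_lit 18), (nat_lit 37, nat_lit 19),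
    (nat_lit 37, nat_lit 19), (nat_lit 39, nat_lit 20), (nat_lit 39, nat_lit 20), (nat_lit 41, nat_lit 21),
    (nat_lit 42, nat_lit 21), (nat_lit 42, nat_lit 21), (nat_lit 44, nat_lit 22), (nat_lit 44, nat_lit 22),
    (nat_lit 46, nat_lit 23), (nat_lit 47, nat_lit 23), (nat_lit 47, nat_lit 23), (nat_lit 49, nat_lit 24),
    (nat_lit 49, nat_lit 24), (nat_lit 50, nat_lit 24), (nat_lit 52, nat_lit 25), (nat_lit 53, nat_lit 25),
    (nat_lit 54, nat_lit 25), (nat_lit 54, nat_lit 25), (nat_lit 56, nat_lit 26), (nat_lit 56, nat_lit 26),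
    (nat_lit 58, nat_lit 27), (nat_lit 58, nat_lit 27), (nat_lit 60, nat_lit 28), (nat_lit 60, nat_lit 28),
    (nat_lit 62, nat_lit 29), (nat_lit 62, nat_lit 29), (nat_lit 64, nat_lit 30), (nat_lit 64, nat_lit 30),
    (nat_lit 66, nat_lit 31), (nat_lit 67, nat_lit 31), (nat_lit 67, nat_lit 31), (nat_lit 69, nat_lit 32),
    (nat_lit 69, nat_lit 32), (nat_lit 71, nat_lit 32), (nat_lit 71, nat_lit 32), (nat_lit 73, nat_lit 33),
    (nat_lit 73, nat_lit 33), (nat_lit 74, nat_lit 33), (nat_lit 76, nat_lit 34), (nat_lit 77, nat_lit 34),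
    (nat_lit 77, nat_lit 34), (nat_lit 79, nat_lit 35), (nat_lit 80, nat_lit 35), (nat_lit 80, nat_lit 35),
    (nat_lit 81, nat_lit 35), (nat_lit 83, nat_lit 36), (nat_lit 83, nat_lit 36), (nat_lit 85, nat_lit 37),
    (nat_lit 85, nat_lit 37), (nat_lit 87, nat_lit 38), (nat_lit 87, nat_lit 37), (nat_lit 89, nat_lit 38),
    (nat_lit 89, nat_lit 37), (nat_lit 91, nat_lit 38), (nat_lit 91, nat_lit 37), (nat_lit 93, nat_lit 38),
    (nat_lit 93, nat_lit 38), (nat_lit 95, nat_lit 39), (nat_lit 95, nat_lit 39), (nat_lit 97, nat_lit 40),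
    (nat_lit 97, nat_lit 40), (nat_lit 99, nat_lit 41), (nat_lit 99, nat_lit 41), (nat_lit 101, nat_lit 42),
    (nat_lit 102, nat_lit 42), (nat_lit 103, nat_lit 42), (nat_lit 103, nat_lit 42), (nat_lit 105, nat_lit 43),
    (nat_lit 105, nat_lit 43), (nat_lit 107, nat_lit 43), (nat_lit 107, nat_lit 43), (nat_lit 109, nat_lit 44),
    (nat_lit 109, nat_lit 44), (nat_lit 110, nat_lit 44), (nat_lit 112, nat_lit 45), (nat_lit 113, nat_lit 45),
    (nat_lit 113, nat_lit 45), (nat_lit 115, nat_lit 46), (nat_lit 116, nat_lit 46), (nat_lit 116, nat_lit 46),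
    (nat_lit 117, nat_lit 46), (nat_lit 118, nat_lit 46), (nat_lit 120, nat_lit 47), (nat_lit 120, nat_lit 46),
    (nat_lit 122, nat_lit 47), (nat_lit 122, nat_lit 46), (nat_lit 124, nat_lit 47), (nat_lit 124, nat_lit 45),
    (nat_lit 126, nat_lit 46), (nat_lit 127, nat_lit 46), (nat_lit 128, nat_lit 46), (nat_lit 128, nat_lit 46),
    (nat_lit 130, nat_lit 46), (nat_lit 131, nat_lit 46), (nat_lit 131, nat_lit 45), (nat_lit 132, nat_lit 44),
    (nat_lit 133, nat_lit 41), (nat_lit 134, nat_lit 41), (nat_lit 136, nat_lit 42), (nat_lit 136, nat_lit 42),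
    (nat_lit 138, nat_lit 43), (nat_lit 138, nat_lit 43), (nat_lit 140, nat_lit 44), (nat_lit 141, nat_lit 44),
    (nat_lit 142, nat_lit 44), (nat_lit 142, nat_lit 44), (nat_lit 144, nat_lit 45), (nat_lit 144, nat_lit 45),
    (nat_lit 145, nat_lit 44), (nat_lit 147, nat_lit 45), (nat_lit 147, nat_lit 45), (nat_lit 149, nat_lit 46),
    (nat_lit 150, nat_lit 46), (nat_lit 151, nat_lit 46), (nat_lit 152, nat_lit 46), (nat_lit 152, nat_lit 46),
    (nat_lit 153, nat_lit 46), (nat_lit 154, nat_lit 46), (nat_lit 156, nat_lit 47), (nat_lit 156, nat_lit 46),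
    (nat_lit 158, nat_lit 47), (nat_lit 159, nat_lit 46), (nat_lit 159, nat_lit 44), (nat_lit 161, nat_lit 43),
    (nat_lit 162, nat_lit 43), (nat_lit 162, nat_lit 43), (nat_lit 163, nat_lit 42), (nat_lit 165, nat_lit 38),
    (nat_lit 165, nat_lit 37), (nat_lit 166, nat_lit 35), (nat_lit 167, nat_lit 33), (nat_lit 169, nat_lit 34),
    (nat_lit 170, nat_lit 33), (nat_lit 170, nat_lit 33), (nat_lit 172, nat_lit 34), (nat_lit 172, nat_lit 32),
    (nat_lit 174, nat_lit 33), (nat_lit 175, nat_lit 33), (nat_lit 176, nat_lit 33), (nat_lit 176, nat_lit 30),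
    (nat_lit 178, nat_lit 28), (nat_lit 178, nat_lit 27), (nat_lit 180, nat_lit 25), (nat_lit 180, nat_lit 25),
    (nat_lit 181, nat_lit 24), (nat_lit 182, nat_lit 21), (nat_lit 183, nat_lit 21), (nat_lit 184, nat_lit 16),
    (nat_lit 186, nat_lit 15), (nat_lit 187, nat_lit 11), (nat_lit 187, nat_lit 10), (nat_lit 188, nat_lit 8)]
  U := [nat_lit 191, nat_lit 189, nat_lit 190, nat_lit 188, nat_lit 187, nat_lit 186, nat_lit 185, nat_lit 184,
    nat_lit 183, nat_lit 182, nat_lit 181, nat_lit 180, nat_lit 179, nat_lit 178, nat_lit 177, nat_lit 176,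
    nat_lit 175, nat_lit 174, nat_lit 173, nat_lit 172, nat_lit 171, nat_lit 170, nat_lit 169, nat_lit 168,
    nat_lit 167, nat_lit 166, nat_lit 165, nat_lit 164, nat_lit 163, nat_lit 162, nat_lit 161, nat_lit 160,
    nat_lit 159, nat_lit 158, nat_lit 157, nat_lit 156, nat_lit 155, nat_lit 154, nat_lit 153, nat_lit 152,
    nat_lit 151, nat_lit 150, nat_lit 149, nat_lit 148, nat_lit 147, nat_lit 146, nat_lit 145, nat_lit 144,
    nat_lit 143, nat_lit 142, nat_lit 141, nat_lit 140, nat_lit 139, nat_lit 138, nat_lit 137, nat_lit 136,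
    nat_lit 135, nat_lit 134, nat_lit 133, nat_lit 132, nat_lit 131, nat_lit 130, nat_lit 129, nat_lit 128,
    nat_lit 127, nat_lit 126, nat_lit 125, nat_lit 124, nat_lit 123, nat_lit 122, nat_lit 121, nat_lit 120,
    nat_lit 119, nat_lit 118, nat_lit 117, nat_lit 116, nat_lit 115, nat_lit 114, nat_lit 113, nat_lit 112,
    nat_lit 111, nat_lit 110, nat_lit 109, nat_lit 108, nat_lit 107, nat_lit 106, nat_lit 105, nat_lit 104,
    nat_lit 103, nat_lit 102, nat_lit 101, nat_lit 100, nat_lit 99, nat_lit 98, nat_lit 97, nat_lit 96,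
    nat_lit 95, nat_lit 94, nat_lit 93, nat_lit 92, nat_lit 91, nat_lit 90, nat_lit 89, nat_lit 88, nat_lit 87,
    nat_lit 86, nat_lit 85, nat_lit 84, nat_lit 83, nat_lit 82, nat_lit 81, nat_lit 80, nat_lit 79, nat_lit 78,
    nat_lit 77, nat_lit 76, nat_lit 75, nat_lit 74, nat_lit 73, nat_lit 72, nat_lit 71, nat_lit 70, nat_lit 69,
    nat_lit 68, nat_lit 67, nat_lit 66, nat_lit 65, nat_lit 64, nat_lit 63, nat_lit 62, nat_lit 61, nat_lit 60,
    nat_lit 59, nat_lit 58, nat_lit 57, nat_lit 56, nat_lit 55, nat_lit 54, nat_lit 53, nat_lit 52, nat_lit 51,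
    nat_lit 50, nat_lit 49, nat_lit 48, nat_lit 47, nat_lit 46, nat_lit 45, nat_lit 44, nat_lit 43, nat_lit 42,
    nat_lit 41, nat_lit 40, nat_lit 39, nat_lit 38, nat_lit 37, nat_lit 36, nat_lit 35, nat_lit 34, nat_lit 33,
    nat_lit 32, nat_lit 31, nat_lit 30, nat_lit 29, nat_lit 28, nat_lit 27, nat_lit 26, nat_lit 25, nat_lit 24,
    nat_lit 23, nat_lit 22, nat_lit 21, nat_lit 20, nat_lit 19, nat_lit 18, nat_lit 17, nat_lit 16, nat_lit 15,
    nat_lit 14, nat_lit 13, nat_lit 12, nat_lit 11, nat_lit 10, nat_lit 9, nat_lit 8, nat_lit 7, nat_lit 6,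
    nat_lit 5, nat_lit 4, nat_lit 3, nat_lit 2, nat_lit 1, nat_lit 0]
  I := []
  S := []
  q := []

/-- witnesses -/
def ce1_0 : List (Nat × Nat) :=
  [(nat_lit 1, nat_lit 0), (nat_lit 3, nat_lit 0), (nat_lit 5, nat_lit 0), (nat_lit 7, nat_lit 0), (nat_lit 9,
    nat_lit 0), (nat_lit 11, nat_lit 0), (nat_lit 13, nat_lit 0), (nat_lit 15, nat_lit 0), (nat_lit 17,
    nat_lit 0), (nat_lit 19, nat_lit 0), (nat_lit 21, nat_lit 0), (nat_lit 23, nat_lit 0), (nat_lit 25,
    nat_lit 0), (nat_lit 27, nat_lit 0), (nat_lit 22, nat_lit 0), (nat_lit 30, nat_lit 0), (nat_lit 32,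
    nat_lit 0), (nat_lit 34, nat_lit 0), (nat_lit 36, nat_lit 0), (nat_lit 38, nat_lit 0), (nat_lit 40,
    nat_lit 0), (nat_lit 42, nat_lit 0), (nat_lit 37, nat_lit 0), (nat_lit 45, nat_lit 0), (nat_lit 47,
    nat_lit 0), (nat_lit 4, nat_lit 0), (nat_lit 50, nat_lit 0), (nat_lit 52, nat_lit 0), (nat_lit 53,
    nat_lit 0), (nat_lit 51, nat_lit 0), (nat_lit 14, nat_lit 0), (nat_lit 57, nat_lit 0), (nat_lit 59,
    nat_lit 0), (nat_lit 61, nat_lit 0), (nat_lit 63, nat_lit 0), (nat_lit 65, nat_lit 0), (nat_lit 67,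
    nat_lit 0), (nat_lit 62, nat_lit 0), (nat_lit 70, nat_lit 0), (nat_lit 72, nat_lit 0), (nat_lit 8,
    nat_lit 0), (nat_lit 74, nat_lit 0), (nat_lit 76, nat_lit 0), (nat_lit 77, nat_lit 0), (nat_lit 75,
    nat_lit 0), (nat_lit 80, nat_lit 0), (nat_lit 69, nat_lit 0), (nat_lit 83, nat_lit 0), (nat_lit 84,
    nat_lit 0), (nat_lit 86, nat_lit 0), (nat_lit 88, nat_lit 0), (nat_lit 85, nat_lit 0), (nat_lit 90,
    nat_lit 0), (nat_lit 12, nat_lit 0), (nat_lit 92, nat_lit 0), (nat_lit 93, nat_lit 0), (nat_lit 94,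
    nat_lit 0), (nat_lit 96, nat_lit 0), (nat_lit 98, nat_lit 0), (nat_lit 100, nat_lit 0), (nat_lit 102,
    nat_lit 0), (nat_lit 26, nat_lit 0), (nat_lit 99, nat_lit 0), (nat_lit 106, nat_lit 0), (nat_lit 108,
    nat_lit 0), (nat_lit 16, nat_lit 0), (nat_lit 110, nat_lit 0), (nat_lit 112, nat_lit 0), (nat_lit 113,
    nat_lit 0), (nat_lit 111, nat_lit 0), (nat_lit 116, nat_lit 0), (nat_lit 105, nat_lit 0), (nat_lit 119,
    nat_lit 0), (nat_lit 120, nat_lit 0), (nat_lit 121, nat_lit 0), (nat_lit 28, nat_lit 0), (nat_lit 123,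
    nat_lit 0), (nat_lit 20, nat_lit 0), (nat_lit 125, nat_lit 0), (nat_lit 126, nat_lit 0), (nat_lit 29,
    nat_lit 0), (nat_lit 127, nat_lit 0), (nat_lit 124, nat_lit 0), (nat_lit 101, nat_lit 0), (nat_lit 131,
    nat_lit 0), (nat_lit 129, nat_lit 0), (nat_lit 24, nat_lit 0), (nat_lit 97, nat_lit 0), (nat_lit 134,
    nat_lit 0), (nat_lit 114, nat_lit 0), (nat_lit 135, nat_lit 0), (nat_lit 132, nat_lit 0), (nat_lit 122,
    nat_lit 0), (nat_lit 103, nat_lit 0), (nat_lit 136, nat_lit 0), (nat_lit 137, nat_lit 0), (nat_lit 139,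
    nat_lit 0), (nat_lit 141, nat_lit 0), (nat_lit 41, nat_lit 0), (nat_lit 138, nat_lit 0), (nat_lit 145,
    nat_lit 0), (nat_lit 147, nat_lit 0), (nat_lit 31, nat_lit 0), (nat_lit 148, nat_lit 0), (nat_lit 150,
    nat_lit 0), (nat_lit 149, nat_lit 0), (nat_lit 46, nat_lit 0), (nat_lit 144, nat_lit 0), (nat_lit 155,
    nat_lit 0), (nat_lit 156, nat_lit 0), (nat_lit 157, nat_lit 0), (nat_lit 43, nat_lit 0), (nat_lit 159,
    nat_lit 0), (nat_lit 35, nat_lit 0), (nat_lit 49, nat_lit 0), (nat_lit 161, nat_lit 0), (nat_lit 44,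
    nat_lit 0), (nat_lit 162, nat_lit 0), (nat_lit 160, nat_lit 0), (nat_lit 140, nat_lit 0), (nat_lit 39,
    nat_lit 0), (nat_lit 165, nat_lit 0), (nat_lit 151, nat_lit 0), (nat_lit 166, nat_lit 0), (nat_lit 54,
    nat_lit 0), (nat_lit 158, nat_lit 0), (nat_lit 142, nat_lit 0), (nat_lit 164, nat_lit 0), (nat_lit 143,
    nat_lit 0), (nat_lit 167, nat_lit 0), (nat_lit 168, nat_lit 0), (nat_lit 163, nat_lit 0), (nat_lit 154,
    nat_lit 0), (nat_lit 169, nat_lit 0), (nat_lit 152, nat_lit 0), (nat_lit 55, nat_lit 0), (nat_lit 170,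
    nat_lit 0), (nat_lit 66, nat_lit 0), (nat_lit 0, nat_lit 0), (nat_lit 173, nat_lit 0), (nat_lit 82,
    nat_lit 0), (nat_lit 56, nat_lit 0), (nat_lit 175, nat_lit 0), (nat_lit 87, nat_lit 0), (nat_lit 176,
    nat_lit 0), (nat_lit 71, nat_lit 0), (nat_lit 172, nat_lit 0), (nat_lit 91, nat_lit 0), (nat_lit 179,
    nat_lit 0), (nat_lit 68, nat_lit 0), (nat_lit 60, nat_lit 0), (nat_lit 73, nat_lit 0), (nat_lit 180,
    nat_lit 0), (nat_lit 181, nat_lit 0), (nat_lit 89, nat_lit 0), (nat_lit 171, nat_lit 0), (nat_lit 64,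
    nat_lit 0), (nat_lit 183, nat_lit 0), (nat_lit 177, nat_lit 0), (nat_lit 184, nat_lit 0), (nat_lit 78,
    nat_lit 0), (nat_lit 81, nat_lit 0), (nat_lit 182, nat_lit 0), (nat_lit 185, nat_lit 0), (nat_lit 186,
    nat_lit 0), (nat_lit 178, nat_lit 0), (nat_lit 79, nat_lit 0), (nat_lit 174, nat_lit 0), (nat_lit 58,
    nat_lit 0), (nat_lit 10, nat_lit 0), (nat_lit 187, nat_lit 0), (nat_lit 118, nat_lit 0), (nat_lit 128,
    nat_lit 0), (nat_lit 107, nat_lit 0), (nat_lit 2, nat_lit 0), (nat_lit 133, nat_lit 0), (nat_lit 104,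
    nat_lit 0), (nat_lit 109, nat_lit 0), (nat_lit 189, nat_lit 0), (nat_lit 190, nat_lit 0), (nat_lit 117,
    nat_lit 0), (nat_lit 130, nat_lit 0), (nat_lit 191, nat_lit 0), (nat_lit 188, nat_lit 0), (nat_lit 115,
    nat_lit 0), (nat_lit 95, nat_lit 0), (nat_lit 18, nat_lit 0), (nat_lit 146, nat_lit 0), (nat_lit 48,
    nat_lit 0), (nat_lit 153, nat_lit 0), (nat_lit 6, nat_lit 0), (nat_lit 33, nat_lit 0)]

/-- witnesses -/
def ce1_1 : List (Nat × Nat) :=
  [(nat_lit 2, nat_lit 0), (nat_lit 4, nat_lit 0), (nat_lit 6, nat_lit 0), (nat_lit 8, nat_lit 0), (nat_lit 10,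
    nat_lit 0), (nat_lit 12, nat_lit 0), (nat_lit 14, nat_lit 0), (nat_lit 16, nat_lit 0), (nat_lit 18,
    nat_lit 0), (nat_lit 20, nat_lit 0), (nat_lit 22, nat_lit 0), (nat_lit 24, nat_lit 0), (nat_lit 26,
    nat_lit 0), (nat_lit 28, nat_lit 0), (nat_lit 29, nat_lit 0), (nat_lit 31, nat_lit 0), (nat_lit 33,
    nat_lit 0), (nat_lit 35, nat_lit 0), (nat_lit 37, nat_lit 0), (nat_lit 39, nat_lit 0), (nat_lit 41,
    nat_lit 0), (nat_lit 43, nat_lit 0), (nat_lit 44, nat_lit 0), (nat_lit 46, nat_lit 0), (nat_lit 48,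
    nat_lit 0), (nat_lit 49, nat_lit 0), (nat_lit 51, nat_lit 0), (nat_lit 32, nat_lit 0), (nat_lit 54,
    nat_lit 0), (nat_lit 55, nat_lit 0), (nat_lit 56, nat_lit 0), (nat_lit 58, nat_lit 0), (nat_lit 60,
    nat_lit 0), (nat_lit 62, nat_lit 0), (nat_lit 64, nat_lit 0), (nat_lit 66, nat_lit 0), (nat_lit 68,
    nat_lit 0), (nat_lit 69, nat_lit 0), (nat_lit 71, nat_lit 0), (nat_lit 13, nat_lit 0), (nat_lit 73,
    nat_lit 0), (nat_lit 75, nat_lit 0), (nat_lit 57, nat_lit 0), (nat_lit 78, nat_lit 0), (nat_lit 79,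
    nat_lit 0), (nat_lit 81, nat_lit 0), (nat_lit 82, nat_lit 0), (nat_lit 63, nat_lit 0), (nat_lit 85,
    nat_lit 0), (nat_lit 87, nat_lit 0), (nat_lit 89, nat_lit 0), (nat_lit 70, nat_lit 0), (nat_lit 91,
    nat_lit 0), (nat_lit 65, nat_lit 0), (nat_lit 93, nat_lit 0), (nat_lit 0, nat_lit 0), (nat_lit 95,
    nat_lit 0), (nat_lit 97, nat_lit 0), (nat_lit 99, nat_lit 0), (nat_lit 101, nat_lit 0), (nat_lit 103,
    nat_lit 0), (nat_lit 104, nat_lit 0), (nat_lit 105, nat_lit 0), (nat_lit 107, nat_lit 0), (nat_lit 21,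
    nat_lit 0), (nat_lit 109, nat_lit 0), (nat_lit 111, nat_lit 0), (nat_lit 94, nat_lit 0), (nat_lit 114,
    nat_lit 0), (nat_lit 115, nat_lit 0), (nat_lit 117, nat_lit 0), (nat_lit 118, nat_lit 0), (nat_lit 100,
    nat_lit 0), (nat_lit 23, nat_lit 0), (nat_lit 122, nat_lit 0), (nat_lit 106, nat_lit 0), (nat_lit 124,
    nat_lit 0), (nat_lit 102, nat_lit 0), (nat_lit 126, nat_lit 0), (nat_lit 1, nat_lit 0), (nat_lit 108,
    nat_lit 0), (nat_lit 128, nat_lit 0), (nat_lit 129, nat_lit 0), (nat_lit 130, nat_lit 0), (nat_lit 17,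
    nat_lit 0), (nat_lit 132, nat_lit 0), (nat_lit 133, nat_lit 0), (nat_lit 116, nat_lit 0), (nat_lit 127,
    nat_lit 0), (nat_lit 121, nat_lit 0), (nat_lit 110, nat_lit 0), (nat_lit 123, nat_lit 0), (nat_lit 113,
    nat_lit 0), (nat_lit 19, nat_lit 0), (nat_lit 45, nat_lit 0), (nat_lit 138, nat_lit 0), (nat_lit 140,
    nat_lit 0), (nat_lit 142, nat_lit 0), (nat_lit 143, nat_lit 0), (nat_lit 144, nat_lit 0), (nat_lit 146,
    nat_lit 0), (nat_lit 36, nat_lit 0), (nat_lit 47, nat_lit 0), (nat_lit 149, nat_lit 0), (nat_lit 151,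
    nat_lit 0), (nat_lit 152, nat_lit 0), (nat_lit 153, nat_lit 0), (nat_lit 154, nat_lit 0), (nat_lit 139,
    nat_lit 0), (nat_lit 38, nat_lit 0), (nat_lit 158, nat_lit 0), (nat_lit 145, nat_lit 0), (nat_lit 160,
    nat_lit 0), (nat_lit 141, nat_lit 0), (nat_lit 161, nat_lit 0), (nat_lit 3, nat_lit 0), (nat_lit 147,
    nat_lit 0), (nat_lit 5, nat_lit 0), (nat_lit 53, nat_lit 0), (nat_lit 163, nat_lit 0), (nat_lit 164,
    nat_lit 0), (nat_lit 162, nat_lit 0), (nat_lit 157, nat_lit 0), (nat_lit 148, nat_lit 0), (nat_lit 159,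
    nat_lit 0), (nat_lit 150, nat_lit 0), (nat_lit 34, nat_lit 0), (nat_lit 156, nat_lit 0), (nat_lit 167,
    nat_lit 0), (nat_lit 40, nat_lit 0), (nat_lit 50, nat_lit 0), (nat_lit 155, nat_lit 0), (nat_lit 137,
    nat_lit 0), (nat_lit 52, nat_lit 0), (nat_lit 166, nat_lit 0), (nat_lit 168, nat_lit 0), (nat_lit 171,
    nat_lit 0), (nat_lit 11, nat_lit 0), (nat_lit 172, nat_lit 0), (nat_lit 174, nat_lit 0), (nat_lit 61,
    nat_lit 0), (nat_lit 72, nat_lit 0), (nat_lit 176, nat_lit 0), (nat_lit 177, nat_lit 0), (nat_lit 178,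
    nat_lit 0), (nat_lit 84, nat_lit 0), (nat_lit 92, nat_lit 0), (nat_lit 170, nat_lit 0), (nat_lit 86,
    nat_lit 0), (nat_lit 173, nat_lit 0), (nat_lit 80, nat_lit 0), (nat_lit 180, nat_lit 0), (nat_lit 7,
    nat_lit 0), (nat_lit 9, nat_lit 0), (nat_lit 77, nat_lit 0), (nat_lit 90, nat_lit 0), (nat_lit 182,
    nat_lit 0), (nat_lit 181, nat_lit 0), (nat_lit 179, nat_lit 0), (nat_lit 175, nat_lit 0), (nat_lit 88,
    nat_lit 0), (nat_lit 59, nat_lit 0), (nat_lit 83, nat_lit 0), (nat_lit 74, nat_lit 0), (nat_lit 76,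
    nat_lit 0), (nat_lit 184, nat_lit 0), (nat_lit 185, nat_lit 0), (nat_lit 67, nat_lit 0), (nat_lit 186,
    nat_lit 0), (nat_lit 183, nat_lit 0), (nat_lit 25, nat_lit 0), (nat_lit 98, nat_lit 0), (nat_lit 188,
    nat_lit 0), (nat_lit 27, nat_lit 0), (nat_lit 125, nat_lit 0), (nat_lit 120, nat_lit 0), (nat_lit 187,
    nat_lit 0), (nat_lit 189, nat_lit 0), (nat_lit 15, nat_lit 0), (nat_lit 131, nat_lit 0), (nat_lit 96,
    nat_lit 0), (nat_lit 119, nat_lit 0), (nat_lit 112, nat_lit 0), (nat_lit 134, nat_lit 0), (nat_lit 135,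
    nat_lit 0), (nat_lit 191, nat_lit 0), (nat_lit 190, nat_lit 0), (nat_lit 42, nat_lit 0), (nat_lit 30,
    nat_lit 0), (nat_lit 136, nat_lit 0), (nat_lit 165, nat_lit 0), (nat_lit 169, nat_lit 0)]

/-- level -/
def lev0 : Lev where
  n := nat_lit 455
  t := C.t
  p := [(nat_lit 0, nat_lit 0), (nat_lit 2, nat_lit 1), (nat_lit 2, nat_lit 3), (nat_lit 4, nat_lit 4), (nat_lit 4,
    nat_lit 3), (nat_lit 6, nat_lit 4), (nat_lit 6, nat_lit 4), (nat_lit 8, nat_lit 5), (nat_lit 8, nat_lit 5),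
    (nat_lit 10, nat_lit 6), (nat_lit 10, nat_lit 6), (nat_lit 12, nat_lit 7), (nat_lit 12, nat_lit 7),
    (nat_lit 14, nat_lit 8), (nat_lit 14, nat_lit 8), (nat_lit 15, nat_lit 8), (nat_lit 17, nat_lit 9),
    (nat_lit 17, nat_lit 9), (nat_lit 19, nat_lit 10), (nat_lit 19, nat_lit 10), (nat_lit 21, nat_lit 11),
    (nat_lit 21, nat_lit 11), (nat_lit 23, nat_lit 12), (nat_lit 23, nat_lit 12), (nat_lit 25, nat_lit 13),
    (nat_lit 25, nat_lit 13), (nat_lit 27, nat_lit 14), (nat_lit 27, nat_lit 14), (nat_lit 29, nat_lit 15),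
    (nat_lit 29, nat_lit 15), (nat_lit 31, nat_lit 16), (nat_lit 31, nat_lit 16), (nat_lit 33, nat_lit 17),
    (nat_lit 33, nat_lit 17), (nat_lit 35, nat_lit 18), (nat_lit 35, nat_lit 18), (nat_lit 37, nat_lit 19),
    (nat_lit 37, nat_lit 19), (nat_lit 39, nat_lit 20), (nat_lit 39, nat_lit 20), (nat_lit 41, nat_lit 21),
    (nat_lit 41, nat_lit 21), (nat_lit 43, nat_lit 22), (nat_lit 43, nat_lit 22), (nat_lit 45, nat_lit 23),
    (nat_lit 45, nat_lit 23), (nat_lit 47, nat_lit 24), (nat_lit 47, nat_lit 24), (nat_lit 49, nat_lit 25),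
    (nat_lit 49, nat_lit 25), (nat_lit 51, nat_lit 26), (nat_lit 51, nat_lit 26), (nat_lit 53, nat_lit 27),
    (nat_lit 53, nat_lit 27), (nat_lit 55, nat_lit 28), (nat_lit 55, nat_lit 28), (nat_lit 57, nat_lit 29),
    (nat_lit 57, nat_lit 29), (nat_lit 59, nat_lit 30), (nat_lit 59, nat_lit 30), (nat_lit 61, nat_lit 31),
    (nat_lit 61, nat_lit 31), (nat_lit 63, nat_lit 32), (nat_lit 63, nat_lit 32), (nat_lit 65, nat_lit 33),
    (nat_lit 65, nat_lit 33), (nat_lit 67, nat_lit 34), (nat_lit 67, nat_lit 34), (nat_lit 69, nat_lit 35),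
    (nat_lit 69, nat_lit 35), (nat_lit 70, nat_lit 35), (nat_lit 72, nat_lit 36), (nat_lit 72, nat_lit 36),
    (nat_lit 73, nat_lit 36), (nat_lit 75, nat_lit 37), (nat_lit 75, nat_lit 37), (nat_lit 77, nat_lit 38),
    (nat_lit 77, nat_lit 38), (nat_lit 79, nat_lit 39), (nat_lit 79, nat_lit 39), (nat_lit 80, nat_lit 39),
    (nat_lit 82, nat_lit 40), (nat_lit 82, nat_lit 40), (nat_lit 84, nat_lit 41), (nat_lit 84, nat_lit 40),
    (nat_lit 86, nat_lit 41), (nat_lit 87, nat_lit 41), (nat_lit 87, nat_lit 41), (nat_lit 89, nat_lit 41),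
    (nat_lit 89, nat_lit 41), (nat_lit 91, nat_lit 42), (nat_lit 91, nat_lit 42), (nat_lit 93, nat_lit 43),
    (nat_lit 93, nat_lit 43), (nat_lit 95, nat_lit 44), (nat_lit 95, nat_lit 44), (nat_lit 97, nat_lit 45),
    (nat_lit 97, nat_lit 45), (nat_lit 99, nat_lit 46), (nat_lit 99, nat_lit 46), (nat_lit 100, nat_lit 46),
    (nat_lit 102, nat_lit 47), (nat_lit 102, nat_lit 47), (nat_lit 104, nat_lit 48), (nat_lit 104, nat_lit 48),
    (nat_lit 105, nat_lit 48), (nat_lit 107, nat_lit 49), (nat_lit 107, nat_lit 49), (nat_lit 109, nat_lit 50),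
    (nat_lit 109, nat_lit 50), (nat_lit 111, nat_lit 51), (nat_lit 111, nat_lit 51), (nat_lit 113, nat_lit 52),
    (nat_lit 113, nat_lit 52), (nat_lit 115, nat_lit 53), (nat_lit 115, nat_lit 53), (nat_lit 117, nat_lit 54),
    (nat_lit 117, nat_lit 54), (nat_lit 119, nat_lit 55), (nat_lit 119, nat_lit 55), (nat_lit 121, nat_lit 56),
    (nat_lit 122, nat_lit 56), (nat_lit 122, nat_lit 56), (nat_lit 124, nat_lit 57), (nat_lit 124, nat_lit 57),
    (nat_lit 126, nat_lit 58), (nat_lit 126, nat_lit 58), (nat_lit 127, nat_lit 58), (nat_lit 129, nat_lit 59),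
    (nat_lit 129, nat_lit 59), (nat_lit 131, nat_lit 60), (nat_lit 131, nat_lit 60), (nat_lit 133, nat_lit 61),
    (nat_lit 133, nat_lit 61), (nat_lit 135, nat_lit 62), (nat_lit 135, nat_lit 62), (nat_lit 136, nat_lit 62),
    (nat_lit 138, nat_lit 63), (nat_lit 138, nat_lit 63), (nat_lit 140, nat_lit 64), (nat_lit 140, nat_lit 64),
    (nat_lit 141, nat_lit 64), (nat_lit 143, nat_lit 65), (nat_lit 143, nat_lit 64), (nat_lit 145, nat_lit 65),
    (nat_lit 145, nat_lit 65), (nat_lit 146, nat_lit 65), (nat_lit 148, nat_lit 66), (nat_lit 148, nat_lit 66),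
    (nat_lit 150, nat_lit 67), (nat_lit 151, nat_lit 67), (nat_lit 151, nat_lit 66), (nat_lit 153, nat_lit 67),
    (nat_lit 153, nat_lit 67), (nat_lit 155, nat_lit 68), (nat_lit 155, nat_lit 68), (nat_lit 157, nat_lit 69),
    (nat_lit 157, nat_lit 69), (nat_lit 158, nat_lit 69), (nat_lit 160, nat_lit 70), (nat_lit 160, nat_lit 70),
    (nat_lit 162, nat_lit 71), (nat_lit 163, nat_lit 71), (nat_lit 163, nat_lit 71), (nat_lit 165, nat_lit 72),
    (nat_lit 165, nat_lit 72), (nat_lit 167, nat_lit 73), (nat_lit 168, nat_lit 73), (nat_lit 169, nat_lit 73),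
    (nat_lit 170, nat_lit 73), (nat_lit 170, nat_lit 73), (nat_lit 172, nat_lit 74), (nat_lit 172, nat_lit 74),
    (nat_lit 174, nat_lit 75), (nat_lit 175, nat_lit 75), (nat_lit 175, nat_lit 75), (nat_lit 177, nat_lit 76),
    (nat_lit 178, nat_lit 76), (nat_lit 178, nat_lit 76), (nat_lit 179, nat_lit 76), (nat_lit 181, nat_lit 77),
    (nat_lit 182, nat_lit 77), (nat_lit 182, nat_lit 77), (nat_lit 184, nat_lit 78), (nat_lit 184, nat_lit 78),
    (nat_lit 186, nat_lit 79), (nat_lit 186, nat_lit 79), (nat_lit 188, nat_lit 80), (nat_lit 188, nat_lit 80),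
    (nat_lit 190, nat_lit 81), (nat_lit 191, nat_lit 81), (nat_lit 192, nat_lit 81), (nat_lit 192, nat_lit 81),
    (nat_lit 193, nat_lit 81), (nat_lit 195, nat_lit 81), (nat_lit 195, nat_lit 81), (nat_lit 196, nat_lit 81),
    (nat_lit 198, nat_lit 82), (nat_lit 198, nat_lit 82), (nat_lit 200, nat_lit 83), (nat_lit 200, nat_lit 83),
    (nat_lit 202, nat_lit 84), (nat_lit 202, nat_lit 83), (nat_lit 204, nat_lit 84), (nat_lit 204, nat_lit 84),
    (nat_lit 205, nat_lit 84), (nat_lit 206, nat_lit 84), (nat_lit 208, nat_lit 85), (nat_lit 209, nat_lit 85),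
    (nat_lit 209, nat_lit 85), (nat_lit 211, nat_lit 86), (nat_lit 211, nat_lit 86), (nat_lit 213, nat_lit 87),
    (nat_lit 213, nat_lit 87), (nat_lit 215, nat_lit 88), (nat_lit 215, nat_lit 88), (nat_lit 217, nat_lit 89),
    (nat_lit 218, nat_lit 89), (nat_lit 218, nat_lit 88), (nat_lit 220, nat_lit 89), (nat_lit 221, nat_lit 89),
    (nat_lit 221, nat_lit 89), (nat_lit 223, nat_lit 90), (nat_lit 223, nat_lit 90), (nat_lit 224, nat_lit 90),
    (nat_lit 225, nat_lit 90), (nat_lit 227, nat_lit 91), (nat_lit 228, nat_lit 90), (nat_lit 229, nat_lit 90),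
    (nat_lit 229, nat_lit 89), (nat_lit 231, nat_lit 90), (nat_lit 231, nat_lit 90), (nat_lit 233, nat_lit 91),
    (nat_lit 234, nat_lit 91), (nat_lit 234, nat_lit 90), (nat_lit 236, nat_lit 91), (nat_lit 236, nat_lit 91),
    (nat_lit 238, nat_lit 91), (nat_lit 238, nat_lit 91), (nat_lit 239, nat_lit 91), (nat_lit 240, nat_lit 91),
    (nat_lit 242, nat_lit 92), (nat_lit 242, nat_lit 92), (nat_lit 244, nat_lit 93), (nat_lit 244, nat_lit 93),
    (nat_lit 246, nat_lit 94), (nat_lit 246, nat_lit 94), (nat_lit 248, nat_lit 94), (nat_lit 248, nat_lit 94),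
    (nat_lit 250, nat_lit 94), (nat_lit 250, nat_lit 94), (nat_lit 251, nat_lit 94), (nat_lit 253, nat_lit 95),
    (nat_lit 253, nat_lit 95), (nat_lit 255, nat_lit 96), (nat_lit 255, nat_lit 95), (nat_lit 257, nat_lit 96),
    (nat_lit 257, nat_lit 96), (nat_lit 259, nat_lit 97), (nat_lit 259, nat_lit 97), (nat_lit 260, nat_lit 97),
    (nat_lit 261, nat_lit 96), (nat_lit 263, nat_lit 97), (nat_lit 263, nat_lit 95), (nat_lit 265, nat_lit 96),
    (nat_lit 266, nat_lit 95), (nat_lit 267, nat_lit 95), (nat_lit 267, nat_lit 95), (nat_lit 269, nat_lit 96),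
    (nat_lit 269, nat_lit 96), (nat_lit 270, nat_lit 96), (nat_lit 272, nat_lit 97), (nat_lit 272, nat_lit 96),
    (nat_lit 274, nat_lit 97), (nat_lit 274, nat_lit 97), (nat_lit 275, nat_lit 97), (nat_lit 277, nat_lit 98),
    (nat_lit 278, nat_lit 97), (nat_lit 279, nat_lit 97), (nat_lit 279, nat_lit 97), (nat_lit 281, nat_lit 98),
    (nat_lit 281, nat_lit 98), (nat_lit 282, nat_lit 98), (nat_lit 284, nat_lit 99), (nat_lit 284, nat_lit 99),
    (nat_lit 285, nat_lit 99), (nat_lit 287, nat_lit 100), (nat_lit 287, nat_lit 100), (nat_lit 289,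
    nat_lit 101), (nat_lit 289, nat_lit 101), (nat_lit 291, nat_lit 102), (nat_lit 291, nat_lit 100),
    (nat_lit 293, nat_lit 101), (nat_lit 293, nat_lit 101), (nat_lit 294, nat_lit 101), (nat_lit 296,
    nat_lit 102), (nat_lit 296, nat_lit 101), (nat_lit 298, nat_lit 102), (nat_lit 299, nat_lit 102),
    (nat_lit 300, nat_lit 102), (nat_lit 300, nat_lit 102), (nat_lit 301, nat_lit 102), (nat_lit 302,
    nat_lit 101), (nat_lit 304, nat_lit 100), (nat_lit 304, nat_lit 100), (nat_lit 306, nat_lit 101),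
    (nat_lit 306, nat_lit 101), (nat_lit 307, nat_lit 101), (nat_lit 308, nat_lit 101), (nat_lit 310,
    nat_lit 102), (nat_lit 310, nat_lit 102), (nat_lit 311, nat_lit 102), (nat_lit 313, nat_lit 103),
    (nat_lit 314, nat_lit 103), (nat_lit 315, nat_lit 103), (nat_lit 316, nat_lit 103), (nat_lit 316,
    nat_lit 103), (nat_lit 318, nat_lit 104), (nat_lit 318, nat_lit 104), (nat_lit 319, nat_lit 104),
    (nat_lit 321, nat_lit 105), (nat_lit 321, nat_lit 105), (nat_lit 322, nat_lit 105), (nat_lit 324,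
    nat_lit 106), (nat_lit 324, nat_lit 106), (nat_lit 325, nat_lit 106), (nat_lit 327, nat_lit 107),
    (nat_lit 327, nat_lit 107), (nat_lit 329, nat_lit 107), (nat_lit 329, nat_lit 107), (nat_lit 331,
    nat_lit 108), (nat_lit 331, nat_lit 108), (nat_lit 332, nat_lit 107), (nat_lit 334, nat_lit 108),
    (nat_lit 334, nat_lit 108), (nat_lit 335, nat_lit 107), (nat_lit 337, nat_lit 107), (nat_lit 338,
    nat_lit 107), (nat_lit 338, nat_lit 107), (nat_lit 340, nat_lit 107), (nat_lit 340, nat_lit 106),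
    (nat_lit 342, nat_lit 107), (nat_lit 343, nat_lit 106), (nat_lit 344, nat_lit 106), (nat_lit 344,
    nat_lit 106), (nat_lit 346, nat_lit 107), (nat_lit 346, nat_lit 107), (nat_lit 348, nat_lit 106),
    (nat_lit 349, nat_lit 106), (nat_lit 350, nat_lit 106), (nat_lit 351, nat_lit 106), (nat_lit 351,
    nat_lit 106), (nat_lit 353, nat_lit 107), (nat_lit 353, nat_lit 107), (nat_lit 354, nat_lit 107),
    (nat_lit 356, nat_lit 108), (nat_lit 357, nat_lit 108), (nat_lit 358, nat_lit 108), (nat_lit 359,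
    nat_lit 108), (nat_lit 360, nat_lit 108), (nat_lit 361, nat_lit 108), (nat_lit 361, nat_lit 108),
    (nat_lit 363, nat_lit 109), (nat_lit 363, nat_lit 109), (nat_lit 365, nat_lit 110), (nat_lit 365,
    nat_lit 110), (nat_lit 367, nat_lit 109), (nat_lit 367, nat_lit 109), (nat_lit 369, nat_lit 110),
    (nat_lit 369, nat_lit 110), (nat_lit 371, nat_lit 107), (nat_lit 371, nat_lit 107), (nat_lit 373,
    nat_lit 107), (nat_lit 373, nat_lit 107), (nat_lit 374, nat_lit 107), (nat_lit 376, nat_lit 108),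
    (nat_lit 376, nat_lit 108), (nat_lit 378, nat_lit 109), (nat_lit 378, nat_lit 109), (nat_lit 380,
    nat_lit 109), (nat_lit 380, nat_lit 109), (nat_lit 382, nat_lit 110), (nat_lit 382, nat_lit 109),
    (nat_lit 383, nat_lit 107), (nat_lit 385, nat_lit 108), (nat_lit 385, nat_lit 108), (nat_lit 386,
    nat_lit 108), (nat_lit 388, nat_lit 109), (nat_lit 389, nat_lit 109), (nat_lit 389, nat_lit 109),
    (nat_lit 391, nat_lit 110), (nat_lit 391, nat_lit 110), (nat_lit 393, nat_lit 110), (nat_lit 394,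
    nat_lit 108), (nat_lit 394, nat_lit 107), (nat_lit 396, nat_lit 107), (nat_lit 396, nat_lit 106),
    (nat_lit 397, nat_lit 106), (nat_lit 399, nat_lit 107), (nat_lit 399, nat_lit 103), (nat_lit 400,
    nat_lit 102), (nat_lit 402, nat_lit 101), (nat_lit 402, nat_lit 101), (nat_lit 404, nat_lit 101),
    (nat_lit 405, nat_lit 101), (nat_lit 406, nat_lit 101), (nat_lit 406, nat_lit 101), (nat_lit 407,
    nat_lit 100), (nat_lit 408, nat_lit 99), (nat_lit 410, nat_lit 99), (nat_lit 411, nat_lit 96),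
    (nat_lit 411, nat_lit 94), (nat_lit 413, nat_lit 93), (nat_lit 413, nat_lit 93), (nat_lit 414, nat_lit 92),
    (nat_lit 415, nat_lit 92), (nat_lit 416, nat_lit 92), (nat_lit 417, nat_lit 92), (nat_lit 419, nat_lit 92),
    (nat_lit 420, nat_lit 91), (nat_lit 420, nat_lit 90), (nat_lit 422, nat_lit 91), (nat_lit 423, nat_lit 85),
    (nat_lit 424, nat_lit 84), (nat_lit 424, nat_lit 83), (nat_lit 425, nat_lit 80), (nat_lit 426, nat_lit 78),
    (nat_lit 428, nat_lit 79), (nat_lit 428, nat_lit 79), (nat_lit 429, nat_lit 79), (nat_lit 431, nat_lit 78),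
    (nat_lit 431, nat_lit 71), (nat_lit 432, nat_lit 68), (nat_lit 434, nat_lit 65), (nat_lit 435, nat_lit 64),
    (nat_lit 436, nat_lit 63), (nat_lit 437, nat_lit 62), (nat_lit 438, nat_lit 61), (nat_lit 438, nat_lit 56),
    (nat_lit 439, nat_lit 51), (nat_lit 440, nat_lit 49), (nat_lit 442, nat_lit 48), (nat_lit 442, nat_lit 46),
    (nat_lit 444, nat_lit 44), (nat_lit 445, nat_lit 38), (nat_lit 445, nat_lit 35), (nat_lit 446, nat_lit 35),
    (nat_lit 448, nat_lit 34), (nat_lit 448, nat_lit 32), (nat_lit 450, nat_lit 25), (nat_lit 451, nat_lit 25),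
    (nat_lit 451, nat_lit 17), (nat_lit 453, nat_lit 86), (nat_lit 450, nat_lit 0), (nat_lit 413, nat_lit 413),
    (nat_lit 0, nat_lit 414), (nat_lit 0, nat_lit 0), (nat_lit 0, nat_lit 416), (nat_lit 0, nat_lit 0),
    (nat_lit 459, nat_lit 97), (nat_lit 1, nat_lit 0)]
  U := [nat_lit 463, nat_lit 461, nat_lit 462, nat_lit 460, nat_lit 459, nat_lit 458, nat_lit 457, nat_lit 456,
    nat_lit 455, nat_lit 454, nat_lit 453, nat_lit 452, nat_lit 451, nat_lit 450, nat_lit 449, nat_lit 448,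
    nat_lit 447, nat_lit 446, nat_lit 445, nat_lit 444, nat_lit 443, nat_lit 442, nat_lit 441, nat_lit 440,
    nat_lit 439, nat_lit 438, nat_lit 437, nat_lit 436, nat_lit 435, nat_lit 434, nat_lit 433, nat_lit 432,
    nat_lit 431, nat_lit 430, nat_lit 429, nat_lit 428, nat_lit 427, nat_lit 426, nat_lit 425, nat_lit 424,
    nat_lit 423, nat_lit 422, nat_lit 421, nat_lit 420, nat_lit 419, nat_lit 418, nat_lit 417, nat_lit 416,
    nat_lit 415, nat_lit 414, nat_lit 413, nat_lit 412, nat_lit 411, nat_lit 410, nat_lit 409, nat_lit 408,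
    nat_lit 407, nat_lit 406, nat_lit 405, nat_lit 404, nat_lit 403, nat_lit 402, nat_lit 401, nat_lit 400,
    nat_lit 399, nat_lit 398, nat_lit 397, nat_lit 396, nat_lit 395, nat_lit 394, nat_lit 393, nat_lit 392,
    nat_lit 391, nat_lit 390, nat_lit 389, nat_lit 388, nat_lit 387, nat_lit 386, nat_lit 385, nat_lit 384,
    nat_lit 383, nat_lit 382, nat_lit 381, nat_lit 380, nat_lit 379, nat_lit 378, nat_lit 377, nat_lit 376,
    nat_lit 375, nat_lit 374, nat_lit 373, nat_lit 372, nat_lit 371, nat_lit 370, nat_lit 369, nat_lit 368,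
    nat_lit 367, nat_lit 366, nat_lit 365, nat_lit 364, nat_lit 363, nat_lit 362, nat_lit 361, nat_lit 360,
    nat_lit 359, nat_lit 358, nat_lit 357, nat_lit 356, nat_lit 355, nat_lit 354, nat_lit 353, nat_lit 352,
    nat_lit 351, nat_lit 350, nat_lit 349, nat_lit 348, nat_lit 347, nat_lit 346, nat_lit 345, nat_lit 344,
    nat_lit 343, nat_lit 342, nat_lit 341, nat_lit 340, nat_lit 339, nat_lit 338, nat_lit 337, nat_lit 336,
    nat_lit 335, nat_lit 334, nat_lit 333, nat_lit 332, nat_lit 331, nat_lit 330, nat_lit 329, nat_lit 328,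
    nat_lit 327, nat_lit 326, nat_lit 325, nat_lit 324, nat_lit 323, nat_lit 322, nat_lit 321, nat_lit 320,
    nat_lit 319, nat_lit 318, nat_lit 317, nat_lit 316, nat_lit 315, nat_lit 314, nat_lit 313, nat_lit 312,
    nat_lit 311, nat_lit 310, nat_lit 309, nat_lit 308, nat_lit 307, nat_lit 306, nat_lit 305, nat_lit 304,
    nat_lit 303, nat_lit 302, nat_lit 301, nat_lit 300, nat_lit 299, nat_lit 298, nat_lit 297, nat_lit 296,
    nat_lit 295, nat_lit 294, nat_lit 293, nat_lit 292, nat_lit 291, nat_lit 290, nat_lit 289, nat_lit 288,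
    nat_lit 287, nat_lit 286, nat_lit 285, nat_lit 284, nat_lit 283, nat_lit 282, nat_lit 281, nat_lit 280,
    nat_lit 279, nat_lit 278, nat_lit 277, nat_lit 276, nat_lit 275, nat_lit 274, nat_lit 273, nat_lit 272,
    nat_lit 271, nat_lit 270, nat_lit 269, nat_lit 268, nat_lit 267, nat_lit 266, nat_lit 265, nat_lit 264,
    nat_lit 263, nat_lit 262, nat_lit 261, nat_lit 260, nat_lit 259, nat_lit 258, nat_lit 257, nat_lit 256,
    nat_lit 255, nat_lit 254, nat_lit 253, nat_lit 252, nat_lit 251, nat_lit 250, nat_lit 249, nat_lit 248,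
    nat_lit 247, nat_lit 246, nat_lit 245, nat_lit 244, nat_lit 243, nat_lit 242, nat_lit 241, nat_lit 240,
    nat_lit 239, nat_lit 238, nat_lit 237, nat_lit 236, nat_lit 235, nat_lit 234, nat_lit 233, nat_lit 232,
    nat_lit 231, nat_lit 230, nat_lit 229, nat_lit 228, nat_lit 227, nat_lit 226, nat_lit 225, nat_lit 224,
    nat_lit 223, nat_lit 222, nat_lit 221, nat_lit 220, nat_lit 219, nat_lit 218, nat_lit 217, nat_lit 216,
    nat_lit 215, nat_lit 214, nat_lit 213, nat_lit 212, nat_lit 211, nat_lit 210, nat_lit 209, nat_lit 208,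
    nat_lit 207, nat_lit 206, nat_lit 205, nat_lit 204, nat_lit 203, nat_lit 202, nat_lit 201, nat_lit 200,
    nat_lit 199, nat_lit 198, nat_lit 197, nat_lit 196, nat_lit 195, nat_lit 194, nat_lit 193, nat_lit 192,
    nat_lit 191, nat_lit 190, nat_lit 189, nat_lit 188, nat_lit 187, nat_lit 186, nat_lit 185, nat_lit 184,
    nat_lit 183, nat_lit 182, nat_lit 181, nat_lit 180, nat_lit 179, nat_lit 178, nat_lit 177, nat_lit 176,
    nat_lit 175, nat_lit 174, nat_lit 173, nat_lit 172, nat_lit 171, nat_lit 170, nat_lit 169, nat_lit 168,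
    nat_lit 167, nat_lit 166, nat_lit 165, nat_lit 164, nat_lit 163, nat_lit 162, nat_lit 161, nat_lit 160,
    nat_lit 159, nat_lit 158, nat_lit 157, nat_lit 156, nat_lit 155, nat_lit 154, nat_lit 153, nat_lit 152,
    nat_lit 151, nat_lit 150, nat_lit 149, nat_lit 148, nat_lit 147, nat_lit 146, nat_lit 145, nat_lit 144,
    nat_lit 143, nat_lit 142, nat_lit 141, nat_lit 140, nat_lit 139, nat_lit 138, nat_lit 137, nat_lit 136,
    nat_lit 135, nat_lit 134, nat_lit 133, nat_lit 132, nat_lit 131, nat_lit 130, nat_lit 129, nat_lit 128,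
    nat_lit 127, nat_lit 126, nat_lit 125, nat_lit 124, nat_lit 123, nat_lit 122, nat_lit 121, nat_lit 120,
    nat_lit 119, nat_lit 118, nat_lit 117, nat_lit 116, nat_lit 115, nat_lit 114, nat_lit 113, nat_lit 112,
    nat_lit 111, nat_lit 110, nat_lit 109, nat_lit 108, nat_lit 107, nat_lit 106, nat_lit 105, nat_lit 104,
    nat_lit 103, nat_lit 102, nat_lit 101, nat_lit 100, nat_lit 99, nat_lit 98, nat_lit 97, nat_lit 96,
    nat_lit 95, nat_lit 94, nat_lit 93, nat_lit 92, nat_lit 91, nat_lit 90, nat_lit 89, nat_lit 88, nat_lit 87,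
    nat_lit 86, nat_lit 85, nat_lit 84, nat_lit 83, nat_lit 82, nat_lit 81, nat_lit 80, nat_lit 79, nat_lit 78,
    nat_lit 77, nat_lit 76, nat_lit 75, nat_lit 74, nat_lit 73, nat_lit 72, nat_lit 71, nat_lit 70, nat_lit 69,
    nat_lit 68, nat_lit 67, nat_lit 66, nat_lit 65, nat_lit 64, nat_lit 63, nat_lit 62, nat_lit 61, nat_lit 60,
    nat_lit 59, nat_lit 58, nat_lit 57, nat_lit 56, nat_lit 55, nat_lit 54, nat_lit 53, nat_lit 52, nat_lit 51,
    nat_lit 50, nat_lit 49, nat_lit 48, nat_lit 47, nat_lit 46, nat_lit 45, nat_lit 44, nat_lit 43, nat_lit 42,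
    nat_lit 41, nat_lit 40, nat_lit 39, nat_lit 38, nat_lit 37, nat_lit 36, nat_lit 35, nat_lit 34, nat_lit 33,
    nat_lit 32, nat_lit 31, nat_lit 30, nat_lit 29, nat_lit 28, nat_lit 27, nat_lit 26, nat_lit 25, nat_lit 24,
    nat_lit 23, nat_lit 22, nat_lit 21, nat_lit 20, nat_lit 19, nat_lit 18, nat_lit 17, nat_lit 16, nat_lit 15,
    nat_lit 14, nat_lit 13, nat_lit 12, nat_lit 11, nat_lit 10, nat_lit 9]
  I := [nat_lit 7, nat_lit 0]
  S := gs1
  q := lev1.p

/-- witnesses -/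
def ce0_0 : List (Nat × Nat) :=
  [(nat_lit 1, nat_lit 191), (nat_lit 3, nat_lit 191), (nat_lit 5, nat_lit 191), (nat_lit 7, nat_lit 191),
    (nat_lit 9, nat_lit 191), (nat_lit 11, nat_lit 191), (nat_lit 13, nat_lit 191), (nat_lit 15, nat_lit 191),
    (nat_lit 17, nat_lit 191), (nat_lit 18, nat_lit 191), (nat_lit 20, nat_lit 191), (nat_lit 22, nat_lit 191),
    (nat_lit 24, nat_lit 191), (nat_lit 26, nat_lit 191), (nat_lit 28, nat_lit 191), (nat_lit 30, nat_lit 191),
    (nat_lit 32, nat_lit 191), (nat_lit 34, nat_lit 191), (nat_lit 36, nat_lit 191), (nat_lit 38, nat_lit 191),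
    (nat_lit 40, nat_lit 191), (nat_lit 42, nat_lit 191), (nat_lit 44, nat_lit 191), (nat_lit 46, nat_lit 191),
    (nat_lit 48, nat_lit 191), (nat_lit 50, nat_lit 191), (nat_lit 52, nat_lit 191), (nat_lit 54, nat_lit 191),
    (nat_lit 56, nat_lit 191), (nat_lit 58, nat_lit 191), (nat_lit 60, nat_lit 191), (nat_lit 62, nat_lit 191),
    (nat_lit 64, nat_lit 191), (nat_lit 66, nat_lit 191), (nat_lit 68, nat_lit 191), (nat_lit 70, nat_lit 191),
    (nat_lit 72, nat_lit 191), (nat_lit 73, nat_lit 191), (nat_lit 75, nat_lit 191), (nat_lit 76, nat_lit 191),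
    (nat_lit 78, nat_lit 191), (nat_lit 80, nat_lit 191), (nat_lit 82, nat_lit 191), (nat_lit 83, nat_lit 191),
    (nat_lit 85, nat_lit 191), (nat_lit 14, nat_lit 163), (nat_lit 87, nat_lit 191), (nat_lit 19, nat_lit 157),
    (nat_lit 90, nat_lit 191), (nat_lit 0, nat_lit 191), (nat_lit 92, nat_lit 191), (nat_lit 94, nat_lit 191),
    (nat_lit 96, nat_lit 191), (nat_lit 98, nat_lit 191), (nat_lit 100, nat_lit 191), (nat_lit 102,
    nat_lit 191), (nat_lit 103, nat_lit 191), (nat_lit 105, nat_lit 191), (nat_lit 107, nat_lit 191),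
    (nat_lit 108, nat_lit 191), (nat_lit 110, nat_lit 191), (nat_lit 112, nat_lit 191), (nat_lit 114,
    nat_lit 191), (nat_lit 116, nat_lit 191), (nat_lit 118, nat_lit 191), (nat_lit 120, nat_lit 191),
    (nat_lit 122, nat_lit 191), (nat_lit 74, nat_lit 114), (nat_lit 125, nat_lit 191), (nat_lit 127,
    nat_lit 191), (nat_lit 129, nat_lit 191), (nat_lit 130, nat_lit 191), (nat_lit 132, nat_lit 191),
    (nat_lit 134, nat_lit 191), (nat_lit 136, nat_lit 191), (nat_lit 138, nat_lit 191), (nat_lit 139,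
    nat_lit 191), (nat_lit 141, nat_lit 191), (nat_lit 143, nat_lit 191), (nat_lit 144, nat_lit 191),
    (nat_lit 128, nat_lit 109), (nat_lit 146, nat_lit 191), (nat_lit 148, nat_lit 191), (nat_lit 149,
    nat_lit 191), (nat_lit 151, nat_lit 191), (nat_lit 59, nat_lit 2), (nat_lit 10, nat_lit 107), (nat_lit 154,
    nat_lit 191), (nat_lit 156, nat_lit 191), (nat_lit 158, nat_lit 191), (nat_lit 160, nat_lit 191),
    (nat_lit 161, nat_lit 191), (nat_lit 163, nat_lit 191), (nat_lit 147, nat_lit 0), (nat_lit 166,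
    nat_lit 191), (nat_lit 168, nat_lit 191), (nat_lit 31, nat_lit 139), (nat_lit 162, nat_lit 145),
    (nat_lit 124, nat_lit 189), (nat_lit 173, nat_lit 191), (nat_lit 175, nat_lit 191), (nat_lit 2,
    nat_lit 191), (nat_lit 178, nat_lit 191), (nat_lit 4, nat_lit 3), (nat_lit 181, nat_lit 191), (nat_lit 182,
    nat_lit 191), (nat_lit 164, nat_lit 160), (nat_lit 185, nat_lit 191), (nat_lit 187, nat_lit 191),
    (nat_lit 189, nat_lit 191), (nat_lit 191, nat_lit 191), (nat_lit 150, nat_lit 174), (nat_lit 109,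
    nat_lit 53), (nat_lit 195, nat_lit 191), (nat_lit 196, nat_lit 191), (nat_lit 8, nat_lit 150),
    (nat_lit 198, nat_lit 191), (nat_lit 199, nat_lit 191), (nat_lit 201, nat_lit 191), (nat_lit 203,
    nat_lit 191), (nat_lit 16, nat_lit 38), (nat_lit 205, nat_lit 191), (nat_lit 207, nat_lit 191),
    (nat_lit 208, nat_lit 191), (nat_lit 209, nat_lit 191), (nat_lit 25, nat_lit 188), (nat_lit 212,
    nat_lit 191), (nat_lit 214, nat_lit 191), (nat_lit 216, nat_lit 191), (nat_lit 218, nat_lit 191),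
    (nat_lit 29, nat_lit 61), (nat_lit 184, nat_lit 29), (nat_lit 221, nat_lit 191), (nat_lit 104,
    nat_lit 137), (nat_lit 224, nat_lit 191), (nat_lit 226, nat_lit 191), (nat_lit 227, nat_lit 191),
    (nat_lit 228, nat_lit 191), (nat_lit 21, nat_lit 170), (nat_lit 27, nat_lit 107), (nat_lit 23, nat_lit 61),
    (nat_lit 170, nat_lit 31), (nat_lit 232, nat_lit 191), (nat_lit 234, nat_lit 191), (nat_lit 88,
    nat_lit 134), (nat_lit 174, nat_lit 168), (nat_lit 237, nat_lit 191), (nat_lit 239, nat_lit 191),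
    (nat_lit 113, nat_lit 25), (nat_lit 241, nat_lit 191), (nat_lit 242, nat_lit 191), (nat_lit 243,
    nat_lit 191), (nat_lit 245, nat_lit 191), (nat_lit 247, nat_lit 191), (nat_lit 249, nat_lit 191),
    (nat_lit 176, nat_lit 163), (nat_lit 251, nat_lit 191), (nat_lit 190, nat_lit 125), (nat_lit 253,
    nat_lit 191), (nat_lit 254, nat_lit 191), (nat_lit 256, nat_lit 191), (nat_lit 135, nat_lit 32),
    (nat_lit 258, nat_lit 191), (nat_lit 260, nat_lit 191), (nat_lit 262, nat_lit 191), (nat_lit 263,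
    nat_lit 191), (nat_lit 153, nat_lit 163), (nat_lit 264, nat_lit 191), (nat_lit 79, nat_lit 67),
    (nat_lit 240, nat_lit 96), (nat_lit 266, nat_lit 191), (nat_lit 93, nat_lit 113), (nat_lit 248,
    nat_lit 55), (nat_lit 183, nat_lit 65), (nat_lit 270, nat_lit 191), (nat_lit 272, nat_lit 191),
    (nat_lit 273, nat_lit 191), (nat_lit 145, nat_lit 144), (nat_lit 275, nat_lit 191), (nat_lit 277,
    nat_lit 191), (nat_lit 278, nat_lit 191), (nat_lit 49, nat_lit 26), (nat_lit 171, nat_lit 133), (nat_lit 6,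
    nat_lit 191), (nat_lit 282, nat_lit 191), (nat_lit 284, nat_lit 191), (nat_lit 285, nat_lit 191),
    (nat_lit 287, nat_lit 191), (nat_lit 288, nat_lit 191), (nat_lit 290, nat_lit 191), (nat_lit 292,
    nat_lit 191), (nat_lit 133, nat_lit 32), (nat_lit 279, nat_lit 62), (nat_lit 294, nat_lit 191),
    (nat_lit 296, nat_lit 191), (nat_lit 297, nat_lit 191), (nat_lit 295, nat_lit 31), (nat_lit 299,
    nat_lit 191), (nat_lit 293, nat_lit 108), (nat_lit 123, nat_lit 103), (nat_lit 303, nat_lit 191),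
    (nat_lit 304, nat_lit 191), (nat_lit 47, nat_lit 61), (nat_lit 305, nat_lit 191), (nat_lit 165,
    nat_lit 137), (nat_lit 126, nat_lit 23), (nat_lit 307, nat_lit 191), (nat_lit 309, nat_lit 191),
    (nat_lit 310, nat_lit 191), (nat_lit 311, nat_lit 191), (nat_lit 313, nat_lit 191), (nat_lit 314,
    nat_lit 191), (nat_lit 12, nat_lit 191), (nat_lit 219, nat_lit 184), (nat_lit 261, nat_lit 40),
    (nat_lit 319, nat_lit 191), (nat_lit 321, nat_lit 191), (nat_lit 322, nat_lit 191), (nat_lit 324,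
    nat_lit 191), (nat_lit 325, nat_lit 191), (nat_lit 327, nat_lit 191), (nat_lit 328, nat_lit 191),
    (nat_lit 330, nat_lit 191), (nat_lit 213, nat_lit 100), (nat_lit 332, nat_lit 191), (nat_lit 334,
    nat_lit 191), (nat_lit 276, nat_lit 46), (nat_lit 335, nat_lit 191), (nat_lit 337, nat_lit 191),
    (nat_lit 137, nat_lit 51), (nat_lit 338, nat_lit 191), (nat_lit 155, nat_lit 81), (nat_lit 177,
    nat_lit 111), (nat_lit 341, nat_lit 191), (nat_lit 117, nat_lit 97), (nat_lit 39, nat_lit 107),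
    (nat_lit 343, nat_lit 191), (nat_lit 180, nat_lit 117), (nat_lit 167, nat_lit 191), (nat_lit 157,
    nat_lit 159), (nat_lit 347, nat_lit 191), (nat_lit 349, nat_lit 191), (nat_lit 308, nat_lit 191),
    (nat_lit 274, nat_lit 5), (nat_lit 336, nat_lit 76), (nat_lit 33, nat_lit 45), (nat_lit 152, nat_lit 44),
    (nat_lit 354, nat_lit 191), (nat_lit 356, nat_lit 191), (nat_lit 357, nat_lit 191), (nat_lit 346,
    nat_lit 42), (nat_lit 289, nat_lit 76), (nat_lit 51, nat_lit 45), (nat_lit 111, nat_lit 107), (nat_lit 268,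
    nat_lit 110), (nat_lit 364, nat_lit 191), (nat_lit 366, nat_lit 191), (nat_lit 368, nat_lit 191),
    (nat_lit 186, nat_lit 20), (nat_lit 55, nat_lit 175), (nat_lit 370, nat_lit 191), (nat_lit 372,
    nat_lit 191), (nat_lit 169, nat_lit 23), (nat_lit 140, nat_lit 42), (nat_lit 344, nat_lit 18), (nat_lit 41,
    nat_lit 191), (nat_lit 374, nat_lit 191), (nat_lit 57, nat_lit 12), (nat_lit 376, nat_lit 191),
    (nat_lit 377, nat_lit 191), (nat_lit 379, nat_lit 191), (nat_lit 381, nat_lit 191), (nat_lit 229,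
    nat_lit 156), (nat_lit 383, nat_lit 191), (nat_lit 225, nat_lit 163), (nat_lit 385, nat_lit 191),
    (nat_lit 37, nat_lit 191), (nat_lit 106, nat_lit 130), (nat_lit 386, nat_lit 191), (nat_lit 388,
    nat_lit 191), (nat_lit 389, nat_lit 191), (nat_lit 283, nat_lit 71), (nat_lit 392, nat_lit 191),
    (nat_lit 394, nat_lit 191), (nat_lit 373, nat_lit 180), (nat_lit 362, nat_lit 6), (nat_lit 371,
    nat_lit 77), (nat_lit 286, nat_lit 86), (nat_lit 361, nat_lit 191), (nat_lit 397, nat_lit 191),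
    (nat_lit 391, nat_lit 73), (nat_lit 331, nat_lit 132), (nat_lit 399, nat_lit 191), (nat_lit 400,
    nat_lit 191), (nat_lit 210, nat_lit 178), (nat_lit 99, nat_lit 176), (nat_lit 257, nat_lit 189),
    (nat_lit 202, nat_lit 11), (nat_lit 402, nat_lit 191), (nat_lit 69, nat_lit 39), (nat_lit 403,
    nat_lit 191), (nat_lit 119, nat_lit 150), (nat_lit 204, nat_lit 23), (nat_lit 405, nat_lit 191),
    (nat_lit 317, nat_lit 13), (nat_lit 63, nat_lit 114), (nat_lit 223, nat_lit 157), (nat_lit 409,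
    nat_lit 191), (nat_lit 348, nat_lit 6), (nat_lit 410, nat_lit 191), (nat_lit 387, nat_lit 147),
    (nat_lit 411, nat_lit 191), (nat_lit 267, nat_lit 147), (nat_lit 401, nat_lit 62), (nat_lit 351,
    nat_lit 138), (nat_lit 369, nat_lit 90), (nat_lit 192, nat_lit 74), (nat_lit 222, nat_lit 76),
    (nat_lit 250, nat_lit 81), (nat_lit 414, nat_lit 191), (nat_lit 398, nat_lit 108), (nat_lit 215,
    nat_lit 110), (nat_lit 416, nat_lit 191), (nat_lit 342, nat_lit 171), (nat_lit 417, nat_lit 191),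
    (nat_lit 418, nat_lit 191), (nat_lit 419, nat_lit 191), (nat_lit 420, nat_lit 191), (nat_lit 45,
    nat_lit 95), (nat_lit 115, nat_lit 121), (nat_lit 291, nat_lit 55), (nat_lit 65, nat_lit 61), (nat_lit 423,
    nat_lit 191), (nat_lit 265, nat_lit 191), (nat_lit 97, nat_lit 113), (nat_lit 255, nat_lit 131),
    (nat_lit 363, nat_lit 136), (nat_lit 235, nat_lit 43), (nat_lit 236, nat_lit 134), (nat_lit 81, nat_lit 0),
    (nat_lit 269, nat_lit 43), (nat_lit 172, nat_lit 62), (nat_lit 91, nat_lit 4), (nat_lit 427, nat_lit 191),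
    (nat_lit 353, nat_lit 7), (nat_lit 95, nat_lit 23), (nat_lit 231, nat_lit 153), (nat_lit 428, nat_lit 191),
    (nat_lit 238, nat_lit 108), (nat_lit 375, nat_lit 170), (nat_lit 429, nat_lit 191), (nat_lit 431,
    nat_lit 191), (nat_lit 432, nat_lit 191), (nat_lit 89, nat_lit 26), (nat_lit 35, nat_lit 103),
    (nat_lit 131, nat_lit 163), (nat_lit 316, nat_lit 117), (nat_lit 407, nat_lit 76), (nat_lit 352,
    nat_lit 3), (nat_lit 424, nat_lit 173), (nat_lit 302, nat_lit 124), (nat_lit 425, nat_lit 190),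
    (nat_lit 434, nat_lit 191), (nat_lit 246, nat_lit 163), (nat_lit 43, nat_lit 190), (nat_lit 159,
    nat_lit 65), (nat_lit 435, nat_lit 191), (nat_lit 382, nat_lit 73), (nat_lit 61, nat_lit 92), (nat_lit 384,
    nat_lit 71), (nat_lit 329, nat_lit 147), (nat_lit 101, nat_lit 178), (nat_lit 326, nat_lit 184),
    (nat_lit 365, nat_lit 122), (nat_lit 142, nat_lit 39), (nat_lit 67, nat_lit 1), (nat_lit 71, nat_lit 60),
    (nat_lit 318, nat_lit 171), (nat_lit 77, nat_lit 86), (nat_lit 378, nat_lit 61), (nat_lit 193,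
    nat_lit 154), (nat_lit 426, nat_lit 172), (nat_lit 393, nat_lit 118), (nat_lit 280, nat_lit 58),
    (nat_lit 441, nat_lit 191), (nat_lit 380, nat_lit 31), (nat_lit 53, nat_lit 45), (nat_lit 86, nat_lit 98),
    (nat_lit 350, nat_lit 80), (nat_lit 340, nat_lit 4), (nat_lit 442, nat_lit 191), (nat_lit 440,
    nat_lit 180), (nat_lit 306, nat_lit 89), (nat_lit 443, nat_lit 191), (nat_lit 422, nat_lit 138),
    (nat_lit 217, nat_lit 160), (nat_lit 281, nat_lit 126), (nat_lit 320, nat_lit 111), (nat_lit 445,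
    nat_lit 191), (nat_lit 312, nat_lit 75), (nat_lit 315, nat_lit 173), (nat_lit 438, nat_lit 168),
    (nat_lit 197, nat_lit 16), (nat_lit 390, nat_lit 40), (nat_lit 220, nat_lit 150), (nat_lit 396,
    nat_lit 44), (nat_lit 230, nat_lit 52), (nat_lit 360, nat_lit 61), (nat_lit 367, nat_lit 171),
    (nat_lit 188, nat_lit 151), (nat_lit 415, nat_lit 43), (nat_lit 339, nat_lit 154), (nat_lit 448,
    nat_lit 191), (nat_lit 449, nat_lit 191), (nat_lit 358, nat_lit 17), (nat_lit 244, nat_lit 33),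
    (nat_lit 206, nat_lit 179), (nat_lit 252, nat_lit 120), (nat_lit 451, nat_lit 191), (nat_lit 412,
    nat_lit 155), (nat_lit 439, nat_lit 187), (nat_lit 355, nat_lit 3), (nat_lit 271, nat_lit 132),
    (nat_lit 323, nat_lit 106), (nat_lit 406, nat_lit 46), (nat_lit 450, nat_lit 90), (nat_lit 446,
    nat_lit 191), (nat_lit 404, nat_lit 165), (nat_lit 300, nat_lit 20), (nat_lit 436, nat_lit 72),
    (nat_lit 433, nat_lit 40), (nat_lit 444, nat_lit 188), (nat_lit 333, nat_lit 43), (nat_lit 194,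
    nat_lit 142), (nat_lit 84, nat_lit 12), (nat_lit 453, nat_lit 116), (nat_lit 454, nat_lit 191),
    (nat_lit 200, nat_lit 39), (nat_lit 259, nat_lit 39), (nat_lit 359, nat_lit 43), (nat_lit 430,
    nat_lit 120), (nat_lit 301, nat_lit 85), (nat_lit 179, nat_lit 145), (nat_lit 211, nat_lit 59),
    (nat_lit 447, nat_lit 135), (nat_lit 345, nat_lit 52), (nat_lit 437, nat_lit 79), (nat_lit 413,
    nat_lit 61), (nat_lit 298, nat_lit 181), (nat_lit 408, nat_lit 63), (nat_lit 452, nat_lit 106),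
    (nat_lit 421, nat_lit 49), (nat_lit 395, nat_lit 7), (nat_lit 121, nat_lit 169), (nat_lit 233,
    nat_lit 156)]

/-- witnesses -/
def ce0_1 : List (Nat × Nat) :=
  [(nat_lit 2, nat_lit 191), (nat_lit 4, nat_lit 191), (nat_lit 6, nat_lit 191), (nat_lit 8, nat_lit 191),
    (nat_lit 10, nat_lit 191), (nat_lit 12, nat_lit 191), (nat_lit 14, nat_lit 191), (nat_lit 16, nat_lit 191),
    (nat_lit 7, nat_lit 87), (nat_lit 19, nat_lit 191), (nat_lit 21, nat_lit 191), (nat_lit 23, nat_lit 191),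
    (nat_lit 25, nat_lit 191), (nat_lit 27, nat_lit 191), (nat_lit 29, nat_lit 191), (nat_lit 31, nat_lit 191),
    (nat_lit 33, nat_lit 191), (nat_lit 35, nat_lit 191), (nat_lit 37, nat_lit 191), (nat_lit 39, nat_lit 191),
    (nat_lit 41, nat_lit 191), (nat_lit 43, nat_lit 191), (nat_lit 45, nat_lit 191), (nat_lit 47, nat_lit 191),
    (nat_lit 49, nat_lit 191), (nat_lit 51, nat_lit 191), (nat_lit 53, nat_lit 191), (nat_lit 55, nat_lit 191),
    (nat_lit 57, nat_lit 191), (nat_lit 59, nat_lit 191), (nat_lit 61, nat_lit 191), (nat_lit 63, nat_lit 191),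
    (nat_lit 65, nat_lit 191), (nat_lit 67, nat_lit 191), (nat_lit 69, nat_lit 191), (nat_lit 71, nat_lit 191),
    (nat_lit 66, nat_lit 135), (nat_lit 74, nat_lit 191), (nat_lit 0, nat_lit 191), (nat_lit 77, nat_lit 191),
    (nat_lit 79, nat_lit 191), (nat_lit 81, nat_lit 191), (nat_lit 22, nat_lit 134), (nat_lit 84, nat_lit 191),
    (nat_lit 86, nat_lit 191), (nat_lit 82, nat_lit 15), (nat_lit 88, nat_lit 191), (nat_lit 89, nat_lit 191),
    (nat_lit 90, nat_lit 53), (nat_lit 91, nat_lit 191), (nat_lit 93, nat_lit 191), (nat_lit 95, nat_lit 191),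
    (nat_lit 97, nat_lit 191), (nat_lit 99, nat_lit 191), (nat_lit 101, nat_lit 191), (nat_lit 26,
    nat_lit 113), (nat_lit 104, nat_lit 191), (nat_lit 106, nat_lit 191), (nat_lit 11, nat_lit 26),
    (nat_lit 109, nat_lit 191), (nat_lit 111, nat_lit 191), (nat_lit 113, nat_lit 191), (nat_lit 115,
    nat_lit 191), (nat_lit 117, nat_lit 191), (nat_lit 119, nat_lit 191), (nat_lit 121, nat_lit 191),
    (nat_lit 123, nat_lit 191), (nat_lit 124, nat_lit 191), (nat_lit 126, nat_lit 191), (nat_lit 128,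
    nat_lit 191), (nat_lit 1, nat_lit 191), (nat_lit 131, nat_lit 191), (nat_lit 133, nat_lit 191),
    (nat_lit 135, nat_lit 191), (nat_lit 137, nat_lit 191), (nat_lit 105, nat_lit 71), (nat_lit 140,
    nat_lit 191), (nat_lit 142, nat_lit 191), (nat_lit 96, nat_lit 47), (nat_lit 145, nat_lit 191),
    (nat_lit 103, nat_lit 140), (nat_lit 147, nat_lit 191), (nat_lit 70, nat_lit 73), (nat_lit 150,
    nat_lit 191), (nat_lit 152, nat_lit 191), (nat_lit 153, nat_lit 191), (nat_lit 56, nat_lit 19),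
    (nat_lit 155, nat_lit 191), (nat_lit 157, nat_lit 191), (nat_lit 159, nat_lit 191), (nat_lit 50,
    nat_lit 135), (nat_lit 162, nat_lit 191), (nat_lit 164, nat_lit 191), (nat_lit 165, nat_lit 191),
    (nat_lit 167, nat_lit 191), (nat_lit 169, nat_lit 191), (nat_lit 170, nat_lit 191), (nat_lit 171,
    nat_lit 191), (nat_lit 172, nat_lit 191), (nat_lit 174, nat_lit 191), (nat_lit 176, nat_lit 191),
    (nat_lit 177, nat_lit 191), (nat_lit 179, nat_lit 191), (nat_lit 180, nat_lit 191), (nat_lit 129,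
    nat_lit 180), (nat_lit 183, nat_lit 191), (nat_lit 184, nat_lit 191), (nat_lit 186, nat_lit 191),
    (nat_lit 188, nat_lit 191), (nat_lit 190, nat_lit 191), (nat_lit 192, nat_lit 191), (nat_lit 193,
    nat_lit 191), (nat_lit 194, nat_lit 191), (nat_lit 60, nat_lit 113), (nat_lit 28, nat_lit 63),
    (nat_lit 197, nat_lit 191), (nat_lit 40, nat_lit 161), (nat_lit 200, nat_lit 191), (nat_lit 202,
    nat_lit 191), (nat_lit 204, nat_lit 191), (nat_lit 3, nat_lit 191), (nat_lit 206, nat_lit 191),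
    (nat_lit 108, nat_lit 188), (nat_lit 173, nat_lit 8), (nat_lit 210, nat_lit 191), (nat_lit 211,
    nat_lit 191), (nat_lit 213, nat_lit 191), (nat_lit 215, nat_lit 191), (nat_lit 217, nat_lit 191),
    (nat_lit 219, nat_lit 191), (nat_lit 220, nat_lit 191), (nat_lit 44, nat_lit 26), (nat_lit 222,
    nat_lit 191), (nat_lit 223, nat_lit 191), (nat_lit 225, nat_lit 191), (nat_lit 203, nat_lit 68),
    (nat_lit 102, nat_lit 191), (nat_lit 229, nat_lit 191), (nat_lit 208, nat_lit 11), (nat_lit 230,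
    nat_lit 191), (nat_lit 231, nat_lit 191), (nat_lit 78, nat_lit 134), (nat_lit 233, nat_lit 191),
    (nat_lit 235, nat_lit 191), (nat_lit 236, nat_lit 191), (nat_lit 163, nat_lit 78), (nat_lit 238,
    nat_lit 191), (nat_lit 212, nat_lit 153), (nat_lit 240, nat_lit 191), (nat_lit 178, nat_lit 158),
    (nat_lit 107, nat_lit 174), (nat_lit 244, nat_lit 191), (nat_lit 246, nat_lit 191), (nat_lit 248,
    nat_lit 191), (nat_lit 76, nat_lit 134), (nat_lit 250, nat_lit 191), (nat_lit 5, nat_lit 191),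
    (nat_lit 252, nat_lit 191), (nat_lit 64, nat_lit 157), (nat_lit 255, nat_lit 191), (nat_lit 257,
    nat_lit 191), (nat_lit 207, nat_lit 135), (nat_lit 259, nat_lit 191), (nat_lit 261, nat_lit 191),
    (nat_lit 141, nat_lit 147), (nat_lit 116, nat_lit 39), (nat_lit 68, nat_lit 29), (nat_lit 265,
    nat_lit 191), (nat_lit 239, nat_lit 153), (nat_lit 256, nat_lit 61), (nat_lit 267, nat_lit 191),
    (nat_lit 262, nat_lit 150), (nat_lit 268, nat_lit 191), (nat_lit 269, nat_lit 191), (nat_lit 271,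
    nat_lit 191), (nat_lit 234, nat_lit 175), (nat_lit 274, nat_lit 191), (nat_lit 232, nat_lit 186),
    (nat_lit 276, nat_lit 191), (nat_lit 175, nat_lit 109), (nat_lit 279, nat_lit 191), (nat_lit 62,
    nat_lit 54), (nat_lit 280, nat_lit 191), (nat_lit 281, nat_lit 191), (nat_lit 283, nat_lit 191),
    (nat_lit 30, nat_lit 88), (nat_lit 286, nat_lit 191), (nat_lit 18, nat_lit 2), (nat_lit 289, nat_lit 191),
    (nat_lit 291, nat_lit 191), (nat_lit 293, nat_lit 191), (nat_lit 221, nat_lit 114), (nat_lit 34,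
    nat_lit 52), (nat_lit 295, nat_lit 191), (nat_lit 114, nat_lit 93), (nat_lit 298, nat_lit 191),
    (nat_lit 247, nat_lit 114), (nat_lit 300, nat_lit 191), (nat_lit 301, nat_lit 191), (nat_lit 302,
    nat_lit 191), (nat_lit 92, nat_lit 62), (nat_lit 136, nat_lit 169), (nat_lit 83, nat_lit 85), (nat_lit 254,
    nat_lit 46), (nat_lit 305, nat_lit 63), (nat_lit 306, nat_lit 191), (nat_lit 308, nat_lit 191),
    (nat_lit 282, nat_lit 14), (nat_lit 120, nat_lit 95), (nat_lit 312, nat_lit 191), (nat_lit 287,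
    nat_lit 36), (nat_lit 315, nat_lit 191), (nat_lit 316, nat_lit 191), (nat_lit 317, nat_lit 191),
    (nat_lit 318, nat_lit 191), (nat_lit 320, nat_lit 191), (nat_lit 146, nat_lit 191), (nat_lit 323,
    nat_lit 191), (nat_lit 36, nat_lit 86), (nat_lit 326, nat_lit 191), (nat_lit 156, nat_lit 61),
    (nat_lit 329, nat_lit 191), (nat_lit 191, nat_lit 178), (nat_lit 331, nat_lit 191), (nat_lit 333,
    nat_lit 191), (nat_lit 46, nat_lit 81), (nat_lit 9, nat_lit 191), (nat_lit 336, nat_lit 191), (nat_lit 245,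
    nat_lit 3), (nat_lit 294, nat_lit 36), (nat_lit 196, nat_lit 158), (nat_lit 339, nat_lit 191),
    (nat_lit 340, nat_lit 191), (nat_lit 303, nat_lit 18), (nat_lit 342, nat_lit 191), (nat_lit 149,
    nat_lit 105), (nat_lit 344, nat_lit 191), (nat_lit 299, nat_lit 62), (nat_lit 345, nat_lit 191),
    (nat_lit 346, nat_lit 191), (nat_lit 348, nat_lit 191), (nat_lit 273, nat_lit 35), (nat_lit 138,
    nat_lit 50), (nat_lit 350, nat_lit 191), (nat_lit 351, nat_lit 191), (nat_lit 352, nat_lit 191),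
    (nat_lit 353, nat_lit 191), (nat_lit 355, nat_lit 191), (nat_lit 13, nat_lit 2), (nat_lit 358,
    nat_lit 191), (nat_lit 359, nat_lit 191), (nat_lit 360, nat_lit 191), (nat_lit 361, nat_lit 191),
    (nat_lit 362, nat_lit 191), (nat_lit 363, nat_lit 191), (nat_lit 365, nat_lit 191), (nat_lit 367,
    nat_lit 191), (nat_lit 314, nat_lit 162), (nat_lit 143, nat_lit 30), (nat_lit 369, nat_lit 191),
    (nat_lit 371, nat_lit 191), (nat_lit 52, nat_lit 105), (nat_lit 48, nat_lit 178), (nat_lit 334,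
    nat_lit 191), (nat_lit 125, nat_lit 92), (nat_lit 373, nat_lit 191), (nat_lit 214, nat_lit 72),
    (nat_lit 375, nat_lit 191), (nat_lit 32, nat_lit 189), (nat_lit 378, nat_lit 191), (nat_lit 380,
    nat_lit 191), (nat_lit 72, nat_lit 10), (nat_lit 382, nat_lit 191), (nat_lit 384, nat_lit 191),
    (nat_lit 227, nat_lit 118), (nat_lit 297, nat_lit 10), (nat_lit 243, nat_lit 53), (nat_lit 139,
    nat_lit 134), (nat_lit 387, nat_lit 191), (nat_lit 148, nat_lit 5), (nat_lit 390, nat_lit 191),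
    (nat_lit 391, nat_lit 191), (nat_lit 393, nat_lit 191), (nat_lit 199, nat_lit 83), (nat_lit 395,
    nat_lit 191), (nat_lit 288, nat_lit 15), (nat_lit 272, nat_lit 48), (nat_lit 396, nat_lit 191),
    (nat_lit 130, nat_lit 157), (nat_lit 377, nat_lit 127), (nat_lit 398, nat_lit 191), (nat_lit 237,
    nat_lit 161), (nat_lit 347, nat_lit 187), (nat_lit 401, nat_lit 191), (nat_lit 218, nat_lit 48),
    (nat_lit 201, nat_lit 100), (nat_lit 15, nat_lit 191), (nat_lit 98, nat_lit 184), (nat_lit 189,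
    nat_lit 41), (nat_lit 132, nat_lit 5), (nat_lit 310, nat_lit 87), (nat_lit 122, nat_lit 167), (nat_lit 404,
    nat_lit 191), (nat_lit 100, nat_lit 77), (nat_lit 406, nat_lit 191), (nat_lit 407, nat_lit 191),
    (nat_lit 408, nat_lit 191), (nat_lit 343, nat_lit 161), (nat_lit 370, nat_lit 123), (nat_lit 181,
    nat_lit 78), (nat_lit 290, nat_lit 136), (nat_lit 356, nat_lit 97), (nat_lit 412, nat_lit 191),
    (nat_lit 195, nat_lit 154), (nat_lit 94, nat_lit 91), (nat_lit 251, nat_lit 188), (nat_lit 413,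
    nat_lit 191), (nat_lit 80, nat_lit 0), (nat_lit 400, nat_lit 75), (nat_lit 17, nat_lit 191), (nat_lit 383,
    nat_lit 47), (nat_lit 415, nat_lit 191), (nat_lit 304, nat_lit 46), (nat_lit 411, nat_lit 66),
    (nat_lit 253, nat_lit 76), (nat_lit 42, nat_lit 40), (nat_lit 228, nat_lit 49), (nat_lit 354, nat_lit 114),
    (nat_lit 421, nat_lit 191), (nat_lit 270, nat_lit 47), (nat_lit 422, nat_lit 191), (nat_lit 85,
    nat_lit 138), (nat_lit 424, nat_lit 191), (nat_lit 151, nat_lit 173), (nat_lit 249, nat_lit 56),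
    (nat_lit 226, nat_lit 150), (nat_lit 364, nat_lit 63), (nat_lit 403, nat_lit 137), (nat_lit 87,
    nat_lit 107), (nat_lit 425, nat_lit 191), (nat_lit 198, nat_lit 163), (nat_lit 426, nat_lit 191),
    (nat_lit 185, nat_lit 119), (nat_lit 20, nat_lit 191), (nat_lit 224, nat_lit 43), (nat_lit 402,
    nat_lit 38), (nat_lit 263, nat_lit 81), (nat_lit 328, nat_lit 48), (nat_lit 284, nat_lit 67), (nat_lit 296,
    nat_lit 14), (nat_lit 430, nat_lit 191), (nat_lit 241, nat_lit 153), (nat_lit 319, nat_lit 59),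
    (nat_lit 325, nat_lit 127), (nat_lit 433, nat_lit 191), (nat_lit 110, nat_lit 45), (nat_lit 431,
    nat_lit 107), (nat_lit 73, nat_lit 187), (nat_lit 260, nat_lit 32), (nat_lit 341, nat_lit 99),
    (nat_lit 161, nat_lit 152), (nat_lit 58, nat_lit 125), (nat_lit 428, nat_lit 1), (nat_lit 118,
    nat_lit 111), (nat_lit 335, nat_lit 32), (nat_lit 134, nat_lit 12), (nat_lit 182, nat_lit 64),
    (nat_lit 278, nat_lit 113), (nat_lit 24, nat_lit 189), (nat_lit 311, nat_lit 27), (nat_lit 436,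
    nat_lit 191), (nat_lit 419, nat_lit 31), (nat_lit 437, nat_lit 191), (nat_lit 416, nat_lit 156),
    (nat_lit 438, nat_lit 191), (nat_lit 349, nat_lit 57), (nat_lit 439, nat_lit 191), (nat_lit 386,
    nat_lit 65), (nat_lit 440, nat_lit 191), (nat_lit 242, nat_lit 25), (nat_lit 410, nat_lit 80),
    (nat_lit 168, nat_lit 4), (nat_lit 357, nat_lit 183), (nat_lit 337, nat_lit 41), (nat_lit 266,
    nat_lit 135), (nat_lit 292, nat_lit 28), (nat_lit 392, nat_lit 86), (nat_lit 285, nat_lit 155),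
    (nat_lit 330, nat_lit 43), (nat_lit 38, nat_lit 44), (nat_lit 372, nat_lit 111), (nat_lit 75, nat_lit 191),
    (nat_lit 441, nat_lit 68), (nat_lit 442, nat_lit 58), (nat_lit 376, nat_lit 11), (nat_lit 444,
    nat_lit 191), (nat_lit 379, nat_lit 71), (nat_lit 322, nat_lit 161), (nat_lit 366, nat_lit 134),
    (nat_lit 394, nat_lit 138), (nat_lit 144, nat_lit 177), (nat_lit 446, nat_lit 191), (nat_lit 368,
    nat_lit 188), (nat_lit 445, nat_lit 41), (nat_lit 324, nat_lit 145), (nat_lit 420, nat_lit 144),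
    (nat_lit 264, nat_lit 38), (nat_lit 160, nat_lit 171), (nat_lit 447, nat_lit 191), (nat_lit 158,
    nat_lit 187), (nat_lit 313, nat_lit 41), (nat_lit 443, nat_lit 39), (nat_lit 258, nat_lit 85),
    (nat_lit 327, nat_lit 157), (nat_lit 154, nat_lit 56), (nat_lit 450, nat_lit 191), (nat_lit 409,
    nat_lit 27), (nat_lit 418, nat_lit 135), (nat_lit 338, nat_lit 191), (nat_lit 205, nat_lit 87),
    (nat_lit 449, nat_lit 54), (nat_lit 417, nat_lit 148), (nat_lit 275, nat_lit 100), (nat_lit 332,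
    nat_lit 51), (nat_lit 127, nat_lit 166), (nat_lit 451, nat_lit 62), (nat_lit 452, nat_lit 191),
    (nat_lit 453, nat_lit 191), (nat_lit 112, nat_lit 136), (nat_lit 432, nat_lit 179), (nat_lit 405,
    nat_lit 143), (nat_lit 216, nat_lit 59), (nat_lit 434, nat_lit 122), (nat_lit 429, nat_lit 160),
    (nat_lit 307, nat_lit 56), (nat_lit 321, nat_lit 100), (nat_lit 388, nat_lit 13), (nat_lit 309,
    nat_lit 155), (nat_lit 389, nat_lit 178), (nat_lit 454, nat_lit 135), (nat_lit 187, nat_lit 127),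
    (nat_lit 54, nat_lit 191), (nat_lit 397, nat_lit 191), (nat_lit 277, nat_lit 104), (nat_lit 166,
    nat_lit 180), (nat_lit 448, nat_lit 190), (nat_lit 374, nat_lit 62), (nat_lit 381, nat_lit 137),
    (nat_lit 435, nat_lit 166), (nat_lit 209, nat_lit 139), (nat_lit 423, nat_lit 141), (nat_lit 427,
    nat_lit 10), (nat_lit 385, nat_lit 174), (nat_lit 399, nat_lit 176), (nat_lit 414, nat_lit 62)]

/-- inverses -/
def ti : List Nat :=
  [nat_lit 0x11545d1144d16451120e83b0f4380e43c0f9625915e581635855f5f17d5fd7a5ed7e600b62e8b72ecbc2e0b93b4ec3acea3a4e839ca82b0a92b4ae2a8ab0c02f0b82d0b02b0a86f1b86d1b06b1a8693d8f53e0fb3e4fa3dc3f10c401104510442569585655b55d5d5709d26c9c2789a2809f675a1679a268d9f681a5691a76a9a86a5a64410f4390d4310b4294c5294b5354953d4e338cc334cf32cd1340952589824c9425c991906519c6218c661a100408fc3f9013fcfd519485094451d4550cc5310c7328c8324c64651846d1e4711d468000100101406008031c8731d4701c4741d8af2ccb02d0b52c4b203c0e0441404813041084150941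10640d076d9b86c9b46ddb56cd334c9314c12f4b92d5bd6d5b9705b1725c5836118660582615872f8bd300c3304c22fce5388e6384e3380e4505404fd3e4f53c4ed785d5795d1765cd771f47c1ec7a1e4781dd916499463d9064d95705c070dc6711c5708de36cdf368dc364dd098240942708c290a19a671966619b665971846017c5e1745c16cd534cd4358d2360d712c4813047124461281b0681906017058152248b2148722888219b96f5ba6f9bf6edbc2448e2488d23c8c241ad6b9b06adac6bdb1489204852347d25491264a9274ad2c4a1293ccf03d0ef3c4ee3c8090280c01c0802c0d07c1d0782007022084320c4340dc350d833164561685515c541618d6298e6258b6218c1fc7e2048420883201384e9344d9394dd35134511385214c4f141505515155556549535a56b595675a968598a3290a6284a2294a7,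
   nat_lit 0x9e27c9b2689d2809c1d8721c0741c4751ccb92d8bb2e0bc2dcba2d0b22ccb52bcb12c0f93e8f63d4f83ecf75ad67595695996a5a065188671906818c6658d61589645796057c200841d0701f0881e32cd1338cc334cf340ee3d0f13bcf03c8f34c5324b92d4c1334bc140400e0480f04c111745c1846017c5e16d52545565555454d5016856150581545915d866118561d8160d8255d5d569585655b571384e5354d1374e9363f5003f8ff404fc409c4715c1701c3719c21385113c501484d14d24489234951f48520675a36819e67da1689755d1795e1775d9730ac2e0b02d0bc2a0c1b66ddb36c9b56e1b438ce0394e2398e1390c5320c631cc9310ca3a4e83b4ec3acea39dae6adb06b5b16b1af02c0c020070280d0243d0ec3c0f8380e8394210641d0940d05411bc6e5be6edbf6e9bd1244612c48130471287e210811fc802088363d9564990645936504110045110431083f28ca229ca6294a428545509475114850d461a86d1ac6c1b8691bd6e5b5725c5705bd6c1ec7c1e0771e87d1e4bd30cc02f8bf304c2671986599a65d9b66428098270a4230942400c0001402018010108e234922449023c8c378dc374df364db3694b5294f5394d531494ad294a92c4992849daa699a46a1a56a5a72a4ac2a8ab2b4a82b9104310a4390b43d0d34cd6350d535cd2361144451644d17449156017c5e97e5ed7f5f5886398b6258a6318d2188921c882288522c320d4330d0360c43724c9925894254972601b05c1506416068184f93b5013d5053c4fd1d46d1c4791846919]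

end Cfsg.Agent.Spc.SC.Sz
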