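import Mathlib
import Cfsg.Agent.Spc.SCSzD

/-!
The group `Sz(8):3` on 455 points.
-/

set_option autoImplicit false
set_option maxRecDepth 100000

namespace Cfsg.Agent.Spc.SC.Sz

theorem step0_0 : lev0.step (nat_lit 0xb22c0b12ccaf2d4b41c8731d4701c4741d8fa3dcfb3d8f83d4f91886618c671a0641956157d605895e5916359d685a965599695ac9f270a026c9d2689e2d8ba2dcbb2f0b82e42e0c02a0b02f0b42b380e4384e5398e238dab6bdac6c1b16b5ae320ca310c6324c7314e839cea3b4eb3b0e903009034080280702db76d1b86cdb56c9b65d1735d9795dd785d410044130380f048145455054d5655155549324bd334b9304b531344d033cce334cc32c21078220741f070203d0f33c8f13c0ef3b85615c59150551605a1705b1786117c60175224812148d1f49524715c2719c170dc07115d5715b5695956157401023f0fe404ff3f5394d93a4d5374d1386118260d85605876185114c4d13c521404e68da2685a067d9e674d6360d2350d7354d32b0ae2a0aa2b4ab2a48d2308f248902448e529495314f5354e52d2949d284a9264b12b370da36cdd364df379a669da9691a56a1aa4310d43d0a42d0e441986659b659976699c00004004050180200d6d5b16f5c9705c56e5094650d47521445146d1bc691ac6e1b06a1f0791f4781e8771ec260902509c230a42830cc2304c02fcbe2f511455124591744d146398d6318b629896213b4fd3c501414f53e2649825c962549424c350dc310cc360d03205c18068150581906c8922c8521c8a220865f17d5fd7a5ed7e601b96f5ba6f9bf6edbc0ec390e83c0e03e0f59565193649916418f288a1290a7294a628c400fc42114431104121083208812007f1f9064110541d03425081184a11c4b130481251a46d1d461194711e)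 lev0.U ce0_0 = true := by decide +kernel

end Cfsg.Agent.Spc.SC.Sz
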