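import Mathlib
import Cfsg.Agent.Spc.SCSzD

/-!
The group `Sz(8):3` on 455 points.
-/

set_option autoImplicit false
set_option maxRecDepth 100000

namespace Cfsg.Agent.Spc.SC.Sz

theorem step0_1 : lev0.step (nat_lit 0x1354e53a4d9344e137350d6348d8354d335d0b43d104310a4390d3c0f23b8f43c4ef3cc5a1545715059158584911f48123485224948b218882148a21c89308bd2f8c12fcc030c2f0a82b0b82c0b43054d565515554550548370c8340c4360cc354711b469194791d4609e2749c26ca027c9a68d9e6819d6899f68592655936519063d91539495294d52d4c53d625856057d6458d5e19865190631a067188aa2b0a82b8ab2a4ad0240b01c0d028080314351d4851142519455d1785e5755cd775d85e1845f1805c16c5d4a52c4a92b49d264a0030180401401000020e83c0e03e0ec390f44c11c491184b1204a370df374de368d936d3b4f5404f93f5053c695a96a9a6691a869d7f5e97b5f97c5f5803e4f83dcf63ecfa3d50541d0342506411081b06f1b46e1a8691ac3f104441084311440619816098560d8461cfc3f9013fd00408fd2448c234902388f249b46d9b26e1b56cdb76b9b16bdb06b1ab6b44d13c521405114c4e2ccb22c4b02d4b42bdc1715c6709c0711c3068150581905c1806c741cc721c4761d47008c250a02609c29090c9310c5320c631cca250982649524c97259bf6e9bc6e5be6edbd284a3298a4294a728998669966719965d9b5a56859d665ad6a5955d5615a55d5c5655b4b52f4c9304c5334b8cd33ccb344ce330d02e8b92e0b72f0bb2d8e3398e4394e1380e20701e0841f080220751144d164511545d1220484208831fc7e201896358e629886318b0500f0440e04c10049725b56f5b1715b9703a0ec3b4e939ceb3a8791ec771f47a1e07c)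 lev0.U ce0_1 = true := by decide +kernel

end Cfsg.Agent.Spc.SC.Sz
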