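import Mathlib
import Cfsg.Agent.Spc.SCSzD

/-!
The group `Sz(8):3` on 455 points.
-/

set_option autoImplicit false
set_option maxRecDepth 100000

namespace Cfsg.Agent.Spc.SC.Sz

theorem base0 : lev0.base = true := by decide +kernel

theorem base1 : lev1.base = true := by decide +kernel

theorem step1_0 : lev1.step (nat_lit 0x2c0ac300bc2e0b42a094240a42809c2608c1003c1404c120440e024080340c02c0a01c1e074220842007c1c05c1606c1a064180543a0e43e0f43c0ec380cc320dc360d4340c44f13853148511404d1585516859160571506b1a86f1b86d1b0691c8711d8751d0731c05d170611805f1785b190631a067198651884110045110431083f120471304b12849119054110942107419034310b4410f4390d428e93a0ed3b0eb3a8e73c0ef3d0f33c8f13b8f73d8fb3e8f93e0f53f8fd40901400ff3f113449174591545111469194791d4711b461364d53a4e5384dd344bd2e4cd324c5304b552545565555454d5052d4a53d4e5354c5254450d4851d46515424f53c505404fd3e4ed2849d2c4ad2a4a526485204952448d2247d6057d6458d625855e565585755c56d5a55d7c5ed805fd7e5f57a5d5745e5785dd765cd8a6258e6358c62d8860d8261d86615846056e5b5725c5705bd6c59d665ad6a5a568595bb6e9bf6f9bd6f1b9709c1719c5711c37019f679a3689a16819d699a56a9a96a1a76919164195651936498f661976719b66999659ad6b1b16c1af6b9ab6d1b36e1b76d9b56c8791e07d1f07b1e8772007f21083208811f8952509926097258932709b2809f2789d268a3288a7298a5290a12a8a92b8ad2b0ab2a0872188b22889220852388d248912408f230e2384e6394e438ce036cda37cde374dc364c6314ca324c831cc42fcbe30cc2304c02f4b82dcbc2ecba2e4b62c4b02d4b42ccb22bcd434cd835cd6354d2334cc344d033cce32c02004060140400c00)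 lev1.U ce1_0 = true := by decide +kernel

theorem step1_1 : lev1.step (nat_lit 0xb12c0b52d0b32c8af2e0b72f0bb2e8b92d8cd330d1340cf338cb350d3360d7358d5348db368df378dd370d9388e1398e5390e3380bf2f8c3308c1300bd318c5328c9320c7310791e07d1f07b1e8772007f21083208811f8952509926097258932709b2809f2789d268a3288a7298a5290a12a8a92b8ad2b0ab2a0872188b22889220852388d248912408f2319164195651936498f661976719b66999659ad6b1b16c1af6b9ab6d1b36e1b76d9b56c9bb6e9bf6f9bd6f1b9709c1719c5711c37019f679a3689a16819d699a56a9a96a1a7691595615d5715b569575815f5916358961579755d1795e1775d9735f17b6017f5f97d5e983609876198561181629896398d6318b621675996b5a9695a1655b96d5c9715c16f5b12148125491234891f4a1274b12b4a9294993d4f1415013f4f93b5114352147519455094b5294f5394d531495495155955551535412f4b9334c9314c12d4d9354e9394e1374d0e93a0ed3b0eb3a8e73c0ef3d0f33c8f13b9054110942107419034310b4410f4390d42913449174591545111469194791d4711b460f73d8fb3e8f93e0f53f8fd40901400ff3f04110045110431083f120471304b128491185d170611805f1785b190631a067198651886b1a86f1b86d1b0691c8711d8751d0731c04f13853148511404d158551685916057150090200d0300b028070400f050130481103825090290a027098230b02b0c02f0b82d0a8330c8370d8350d0310e8390f83d0f03b0e0170581b06819060150781d088210801f07002004060140400c00)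 lev1.U ce1_1 = true := by decide +kernel

theorem steps1 : ∀ s ∈ lev1.t, ∀ i ∈ lev1.U, ∃ V cs, i ∈ V ∧ lev1.step s V cs = true :=
  List.forall_mem_cons.2 ⟨fun _ h => ⟨_, _, h, step1_0⟩, List.forall_mem_cons.2 ⟨fun _ h => ⟨_, _, h, step1_1⟩, by simp⟩⟩

end Cfsg.Agent.Spc.SC.Sz
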